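import Cfsg.Agent.KFacts.AutLarge
import Cfsg.Agent.KFacts.Orbits
import Cfsg.Agent.KFacts.SuzLarge

-- merged: Cfsg.Agent.KFacts.AutChain
section

/-!
# The outer automorphism group from an orbit chain (helper399)

`Rels B n z x`, `Q = RG n z x` large in `K`. `LvOk`: every code `c` which the squares and commutators allow as the image
of `x i` under an automorphism fixing `z` and (modulo `z`) `x j`, `j ∈ prev`, is moved to `x i` by a word in the
generators of `C_K(z)` fixing the `x j`. If all levels are complete every automorphism is inner; if the last one has one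
exceptional code, `|Out K| ≤ 2`.
-/

set_option autoImplicit false

namespace Cfsg.Agent.KFacts.AutChain

open Cfsg.Agent.Co2Type.Quad Cfsg.Agent.LargeExtra.Model Cfsg.Agent.LargeExtra.Pres Cfsg.Agent.KFacts.Codes
  Cfsg.Agent.KFacts.Orbits Cfsg.Agent.KFacts.AutLarge

variable {K : Type*} [Group K] {B : ℕ → ℕ} {n : ℕ} {z : K} {x : ℕ → K}

theorem mulc_lt {c d : ℕ} (hc : c < 2 ^ (n + 1)) (hd : d < 2 ^ (n + 1)) : mulc B n c d < 2 ^ (n + 1) := by
  unfold mulc
  apply Nat.xor_lt_two_pow (Nat.xor_lt_two_pow hc hd)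
  split_ifs
  · exact Nat.pow_lt_pow_right (by norm_num) (Nat.lt_succ_self n)
  · exact Nat.two_pow_pos _

/-- codes equal modulo `2 ^ n` give elements equal modulo `z` -/
theorem eqz_cod (h : Rels B n z x) {c d : ℕ} (hcd : c % 2 ^ n = d % 2 ^ n) : Eqz z (cod n z x c) (cod n z x d) := by
  have hbits : ∀ i < n, c.testBit i = d.testBit i := by
    intro i hi
    have h1 := congrArg (fun m => m.testBit i) hcd
    simp only [Nat.testBit_mod_two_pow, decide_eq_true hi, Bool.true_and] at h1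
    exact h1
  have h1 : prd x n c = prd x n d := prd_congr hbits
  have hzc : prd x n d * z = z * prd x n d := h.prd_comm (le_refl n) d
  unfold Eqz cod
  rw [h1]
  cases c.testBit n <;> cases d.testBit n
  · left; rfl
  · right
    simp only [zp, if_true, Bool.false_eq_true, if_false, one_mul]
    rw [mul_assoc, hzc, ← mul_assoc, h.zz, one_mul]
  · right
    simp only [zp, if_true, Bool.false_eq_true, if_false, one_mul]
    rw [hzc]
  · left; rfl

theorem two_pow_lt {i : ℕ} (hi : i < n) : 2 ^ i < 2 ^ (n + 1) := Nat.pow_lt_pow_right (by norm_num) (by omega)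

/-- candidates for the image of `x i` when the `x j`, `j ∈ prev`, are fixed modulo `z` -/
def Cand (B : ℕ → ℕ) (n : ℕ) (prev : List ℕ) (i c : ℕ) : Prop :=
  c % 2 ^ n ≠ 0 ∧ mulc B n c c = mulc B n (2 ^ i) (2 ^ i) ∧ ∀ j ∈ prev, (mulc B n c (2 ^ j) = mulc B n (2 ^ j) c ↔
    mulc B n (2 ^ i) (2 ^ j) = mulc B n (2 ^ j) (2 ^ i))

instance (B : ℕ → ℕ) (n : ℕ) (prev : List ℕ) (i c : ℕ) : Decidable (Cand B n prev i c) := by
  unfold Cand; infer_instance

/-- the words of a level are correct -/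
def WdOk (n : ℕ) (A : ℕ → ℕ → ℕ) (prev : List ℕ) (i : ℕ) (L : List (ℕ × List ℕ)) : Prop :=
  ∀ e ∈ L, (actw A e.2 e.1) % 2 ^ n = 2 ^ i ∧ ∀ j ∈ prev, (actw A e.2 (2 ^ j)) % 2 ^ n = 2 ^ j

instance (n : ℕ) (A : ℕ → ℕ → ℕ) (prev : List ℕ) (i : ℕ) (L : List (ℕ × List ℕ)) : Decidable (WdOk n A prev i L) := by
  unfold WdOk; infer_instance

/-- a level: all candidates occur, except perhaps those in `ex` -/
def LvOk (B : ℕ → ℕ) (n : ℕ) (A : ℕ → ℕ → ℕ) (prev : List ℕ) (i : ℕ) (L : List (ℕ × List ℕ)) (ex : List ℕ) : Prop :=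
  WdOk n A prev i L ∧ ∀ c < 2 ^ (n + 1), Cand B n prev i c → c % 2 ^ n ∈ ex ∨ ∃ e ∈ L, e.1 = c % 2 ^ n

instance (B : ℕ → ℕ) (n : ℕ) (A : ℕ → ℕ → ℕ) (prev : List ℕ) (i : ℕ) (L : List (ℕ × List ℕ)) (ex : List ℕ) :
    Decidable (LvOk B n A prev i L ex) := by
  unfold LvOk; infer_instance

/-- a chain of complete levels -/
def ChOk (B : ℕ → ℕ) (n : ℕ) (A : ℕ → ℕ → ℕ) : List ℕ → List (ℕ × List (ℕ × List ℕ)) → Prop
  | _, [] => True
  | prev, (i, L) :: rest => (i < n ∧ LvOk B n A prev i L []) ∧ ChOk B n A (i :: prev) rest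

/-- the indices of a chain, in the order of `prev` -/
def idx : List ℕ → List (ℕ × List (ℕ × List ℕ)) → List ℕ
  | prev, [] => prev
  | prev, (i, _) :: rest => idx (i :: prev) rest

/-- everything we use of the certificate -/
structure Cert (K : Type*) [Group K] (B : ℕ → ℕ) (n : ℕ) (z : K) (x : ℕ → K) (g : ℕ → K) (A : ℕ → ℕ → ℕ) :
    Prop where
  rels : Rels B n z x
  tri : Tri B n
  nd : Nondeg B n
  gz : ∀ k, g k * z = z * g k
  act : ∀ k c, g k * cod n z x c * (g k)⁻¹ = cod n z x (A k c)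
  large : Large (RG n z x) z

variable {g : ℕ → K} {A : ℕ → ℕ → ℕ}

theorem gw_comm (hg : ∀ k, g k * z = z * g k) (w : List ℕ) : gw g w * z = z * gw g w := by
  induction w with
  | nil => show 1 * z = z * 1; rw [one_mul, mul_one]
  | cons k w ih =>
    show g k * gw g w * z = z * (g k * gw g w)
    rw [mul_assoc, ih, ← mul_assoc, hg, mul_assoc]

/-- one level -/
theorem Cert.cand (C : Cert K B n z x g A) {α : MulAut K} (hα : α z = z) (hαQ : ∀ y ∈ RG n z x, α y ∈ RG n z x)
    {prev : List ℕ} {i : ℕ} (hi : i < n) (hprev : ∀ j ∈ prev, j < n ∧ Eqz z (α (x j)) (x j)) :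
    ∃ c < 2 ^ (n + 1), cod n z x c = α (x i) ∧ Cand B n prev i c := by
  have hxi : x i ∈ RG n z x := by rw [← cod_pow (z := z) (x := x) hi]; exact cod_mem _
  obtain ⟨c, hc, hcx⟩ := (mem_RG C.rels C.tri).1 (hαQ _ hxi)
  have hinj : ∀ {a b : ℕ}, a < 2 ^ (n + 1) → b < 2 ^ (n + 1) → (cod n z x a = cod n z x b ↔ a = b) := fun ha hb =>
    ⟨cod_injOn C.rels C.tri C.nd C.large.z_ne ha hb, fun h => by rw [h]⟩
  refine ⟨c, hc, hcx, ?_, ?_, ?_⟩
  · intro h0
    have h1 : Eqz z (cod n z x c) (cod n z x 0) := eqz_cod C.rels (by rw [h0, Nat.zero_mod])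
    rw [hcx, cod_zero] at h1
    have h2 : x i = cod n z x (2 ^ i) := (cod_pow hi).symm
    have hz : cod n z x (2 ^ n) = z := cod_z
    have hin : 2 ^ i ≠ 0 := (Nat.two_pow_pos i).ne'
    rcases h1 with h1 | h1
    · have h3 : x i = 1 := α.injective (by rw [h1, map_one])
      rw [h2, ← cod_zero (n := n) (z := z) (x := x), hinj (two_pow_lt hi) (Nat.two_pow_pos _)] at h3
      exact hin h3
    · rw [one_mul] at h1
      have h3 : x i = z := α.injective (by rw [h1, hα])
      rw [h2] at h3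
      have h4 : cod n z x (2 ^ i) = cod n z x (2 ^ n) := by rw [h3, hz]
      rw [hinj (two_pow_lt hi) (Nat.pow_lt_pow_right (by norm_num) (Nat.lt_succ_self n))] at h4
      exact absurd (Nat.pow_right_injective (le_refl 2) h4) (by omega)
  · rw [← hinj (mulc_lt hc hc) (mulc_lt (two_pow_lt hi) (two_pow_lt hi)), ← cod_mul C.rels C.tri,
      ← cod_mul C.rels C.tri, hcx, cod_pow hi, ← map_mul]
    rcases C.large.sq _ hxi with h1 | h1
    · rw [h1, map_one]
    · rw [h1, hα]
  · intro j hj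
    obtain ⟨hjn, hjx⟩ := hprev j hj
    rw [← hinj (mulc_lt hc (two_pow_lt hjn)) (mulc_lt (two_pow_lt hjn) hc),
      ← hinj (mulc_lt (two_pow_lt hi) (two_pow_lt hjn)) (mulc_lt (two_pow_lt hjn) (two_pow_lt hi)),
      ← cod_mul C.rels C.tri, ← cod_mul C.rels C.tri, ← cod_mul C.rels C.tri, ← cod_mul C.rels C.tri, hcx,
      cod_pow hi, cod_pow hjn]
    have hxj : x j ∈ RG n z x := by rw [← cod_pow (z := z) (x := x) hjn]; exact cod_mem _
    have hziα : α (x i) * z = z * α (x i) := C.large.comm_z _ (hαQ _ hxi)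
    have e1 : α (x i) * x j = x j * α (x i) ↔ α (x i) * α (x j) = α (x j) * α (x i) := by
      rcases hjx with h1 | h1
      · rw [h1]
      · rw [h1]
        constructor
        · intro h2
          calc α (x i) * (x j * z) = α (x i) * x j * z := by group
            _ = x j * (α (x i) * z) := by rw [h2]; group
            _ = x j * z * α (x i) := by rw [hziα]; group
        · intro h2
          have h3 : α (x i) * x j * z = x j * α (x i) * z := by
            calc α (x i) * x j * z = α (x i) * (x j * z) := by group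
              _ = x j * (z * α (x i)) := by rw [h2]; group
              _ = x j * α (x i) * z := by rw [← hziα]; group
          exact mul_right_cancel h3
    rw [e1, ← map_mul, ← map_mul]
    exact ⟨fun h2 => α.injective h2, fun h2 => by rw [h2]⟩

/-- correct words move the candidate to `x i` -/
theorem Cert.move (C : Cert K B n z x g A) {α : MulAut K} (_hα : α z = z) {prev : List ℕ} {i : ℕ} (hi : i < n)
    (hprev : ∀ j ∈ prev, j < n ∧ Eqz z (α (x j)) (x j)) {L : List (ℕ × List ℕ)} (hL : WdOk n A prev i L) {c : ℕ}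
    (hcx : cod n z x c = α (x i)) (hc : ∃ e ∈ L, e.1 = c % 2 ^ n) :
    ∃ p : K, p * z = z * p ∧ ∀ j ∈ i :: prev, j < n ∧ Eqz z ((MulAut.conj p * α) (x j)) (x j) := by
  obtain ⟨e, he, hec⟩ := hc
  obtain ⟨h1, h2⟩ := hL e he
  have hp := gw_comm C.gz e.2
  refine ⟨gw g e.2, hp, ?_⟩
  intro j hj
  rcases List.mem_cons.1 hj with rfl | hj
  · refine ⟨hi, ?_⟩
    rw [MulAut.mul_apply, MulAut.conj_apply, ← hcx]
    have h3 : Eqz z (cod n z x c) (cod n z x e.1) := eqz_cod C.rels (by rw [hec, Nat.mod_mod])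
    refine (h3.conj hp).trans C.large ?_
    rw [conj_word C.act]
    have h4 : Eqz z (cod n z x (actw A e.2 e.1)) (cod n z x (2 ^ j)) := eqz_cod C.rels (by
      rw [h1, Nat.mod_eq_of_lt (Nat.pow_lt_pow_right (by norm_num) hi)])
    rwa [cod_pow hi] at h4
  · obtain ⟨hjn, hjx⟩ := hprev j hj
    refine ⟨hjn, ?_⟩
    rw [MulAut.mul_apply, MulAut.conj_apply]
    refine (hjx.conj hp).trans C.large ?_
    rw [← cod_pow (z := z) (x := x) hjn, conj_word C.act]
    exact eqz_cod C.rels (by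
      rw [h2 j hj, Nat.mod_eq_of_lt (Nat.pow_lt_pow_right (by norm_num) hjn)])

theorem conj_mul_fix {α : MulAut K} (hα : α z = z) {p : K} (hp : p * z = z * p) : (MulAut.conj p * α) z = z := by
  rw [MulAut.mul_apply, MulAut.conj_apply, hα, hp, mul_inv_cancel_right]

theorem conj_apply_eq (β : MulAut K) (t : K) : MulAut.conj (β t) = β * MulAut.conj t * β⁻¹ := by
  ext y
  simp [MulAut.conj_apply]

/-- a chain of complete levels -/
theorem Cert.chain [Finite K] (C : Cert K B n z x g A) (hirr : Irr (RG n z x) z)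
    (hne : ∃ y ∈ RG n z x, y ≠ 1 ∧ y ≠ z) (ls : List (ℕ × List (ℕ × List ℕ))) :
    ∀ {prev : List ℕ}, ChOk B n A prev ls → ∀ {α : MulAut K}, α z = z →
      (∀ j ∈ prev, j < n ∧ Eqz z (α (x j)) (x j)) →
      ∃ p : K, p * z = z * p ∧ ∀ j ∈ idx prev ls, j < n ∧ Eqz z ((MulAut.conj p * α) (x j)) (x j) := by
  induction ls with
  | nil =>
    intro prev _ α _ hprev
    refine ⟨1, by rw [one_mul, mul_one], fun j hj => ?_⟩
    rw [map_one, one_mul]
    exact hprev j hj
  | cons a ls ih =>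
    intro prev hok α hα hprev
    obtain ⟨⟨hi, hw, hc⟩, hrest⟩ := hok
    obtain ⟨c, hc', hcx, hcand⟩ := C.cand hα (fun y hy => map_mem C.large hirr hne hα hy) hi hprev
    have h1 : ∃ e ∈ a.2, e.1 = c % 2 ^ n := by
      rcases hc c hc' hcand with h1 | h1
      · exact absurd h1 (by simp)
      · exact h1
    obtain ⟨p, hp, hpj⟩ := C.move hα hi hprev hw hcx h1
    obtain ⟨p', hp', hpj'⟩ := ih hrest (conj_mul_fix hα hp) hpj
    refine ⟨p' * p, by rw [mul_assoc, hp, ← mul_assoc, hp', mul_assoc], fun j hj => ?_⟩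
    rw [map_mul, mul_assoc]
    exact hpj' j hj

/-- an automorphism fixing `z` and all `x j` modulo `z` is trivial on `Q` modulo `z` -/
theorem Cert.triv (C : Cert K B n z x g A) {α : MulAut K} (hα : α z = z)
    (hx : ∀ j < n, Eqz z (α (x j)) (x j)) : ∀ y ∈ RG n z x, Eqz z (α y) y := by
  have hxm : ∀ {j}, j < n → x j ∈ RG n z x := fun {j} hj => by
    rw [← cod_pow (z := z) (x := x) hj]; exact cod_mem _
  intro y hy
  have hyQ := hy
  unfold RG at hy
  induction hy using Subgroup.closure_induction with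
  | mem y hy =>
    rcases hy with rfl | ⟨j, hj, rfl⟩
    · exact Or.inl hα
    · exact hx j hj
  | one => exact Or.inl (map_one α)
  | mul a b ha hb iha ihb =>
    have ha' : a ∈ RG n z x := ha
    have hb' : b ∈ RG n z x := hb
    have hbz := C.large.comm_z b hb'
    rw [map_mul]
    rcases iha ha' with h1 | h1 <;> rcases ihb hb' with h2 | h2
    · left; rw [h1, h2]
    · right; rw [h1, h2]; group
    · right; rw [h1, h2, mul_assoc, ← hbz]; group
    · left
      rw [h1, h2]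
      calc a * z * (b * z) = a * (z * b) * z := by group
        _ = a * (b * z) * z := by rw [hbz]
        _ = a * b * (z * z) := by group
        _ = a * b := by rw [C.large.z_sq, mul_one]
  | inv a ha iha =>
    have ha' : a ∈ RG n z x := ha
    rw [map_inv]
    rcases iha ha' with h1 | h1
    · left; rw [h1]
    · right
      rw [h1, mul_inv_rev, C.large.z_inv]
      exact (C.large.comm_z _ ((RG n z x).inv_mem ha')).symm

/-- **At most two cosets.** -/
theorem Cert.out_two [Finite K] (C : Cert K B n z x g A) (hirr : Irr (RG n z x) z)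
    (hperf : commutator (Subgroup.centralizer ({z} : Set K)) = ⊤)
    (hodd : Odd (Subgroup.centralizer ({z} : Set K)).index) {n₀ : K} (hin : n₀ * z * n₀⁻¹ ∈ RG n z x)
    (hnz : n₀ * z * n₀⁻¹ ≠ z) (hgen : Subgroup.closure ({c : K | c * z = z * c} ∪ {n₀}) = ⊤)
    {ls : List (ℕ × List (ℕ × List ℕ))} (hls : ChOk B n A [] ls) {i : ℕ} (hi : i < n) {L : List (ℕ × List ℕ)}
    {c₁ : ℕ} (hL : LvOk B n A (idx [] ls) i L [c₁]) (hall : ∀ j < n, j ∈ i :: idx [] ls) (α α' : MulAut K) :
    α ∈ (MulAut.conj (G := K)).range ∨ α' ∈ (MulAut.conj (G := K)).range ∨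
      α⁻¹ * α' ∈ (MulAut.conj (G := K)).range := by
  have hne : ∃ y ∈ RG n z x, y ≠ 1 ∧ y ≠ z := ⟨_, hin, fun h1 => C.large.z_ne (by
    have h2 := congrArg (fun y => n₀⁻¹ * y * n₀) h1
    have h3 : n₀⁻¹ * (n₀ * z * n₀⁻¹) * n₀ = z := by group
    have h4 : n₀⁻¹ * 1 * n₀ = (1 : K) := by group
    rwa [h3, h4] at h2), hnz⟩
  -- reduction to the last level
  have key : ∀ β : MulAut K, β ∈ (MulAut.conj (G := K)).range ∨
      ∃ q : K, (MulAut.conj q * β) z = z ∧ (∀ j ∈ idx [] ls, Eqz z ((MulAut.conj q * β) (x j)) (x j)) ∧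
        Eqz z ((MulAut.conj q * β) (x i)) (cod n z x c₁) := by
    intro β
    obtain ⟨k, hk⟩ := exists_conj_z C.large hodd β
    have hβ1 : (MulAut.conj k⁻¹ * β) z = z := by
      rw [MulAut.mul_apply, MulAut.conj_apply, hk]; group
    obtain ⟨p, hp, hpj⟩ := C.chain hirr hne ls hls hβ1 (by simp)
    have hβ2 : (MulAut.conj p * (MulAut.conj k⁻¹ * β)) z = z := conj_mul_fix hβ1 hp
    obtain ⟨c, hc', hcx, hcand⟩ := C.cand hβ2 (fun y hy => map_mem C.large hirr hne hβ2 hy) hi hpj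
    rcases hL.2 c hc' hcand with h1 | h1
    · right
      refine ⟨p * k⁻¹, ?_, ?_, ?_⟩
      · rw [map_mul, mul_assoc]; exact hβ2
      · intro j hj
        rw [map_mul, mul_assoc]; exact (hpj j hj).2
      · rw [map_mul, mul_assoc, ← hcx]
        apply eqz_cod C.rels
        rw [List.mem_singleton] at h1
        rw [← h1, Nat.mod_mod]
    · left
      obtain ⟨p', hp', hpj'⟩ := C.move hβ2 hi hpj hL.1 hcx h1
      have hβ3 := conj_mul_fix hβ2 hp'
      obtain ⟨y, hy, hyc⟩ := eq_conj C.large hperf hin hnz hgen _ hβ3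
        (C.triv hβ3 fun j hj => (hpj' j (hall j hj)).2)
      refine ⟨(p' * (p * k⁻¹))⁻¹ * y, ?_⟩
      rw [map_mul, ← hyc, map_inv, map_mul, map_mul]
      group
  rcases key α with h1 | ⟨q, hq1, hq2, hq3⟩
  · exact Or.inl h1
  · rcases key α' with h2 | ⟨q', hq1', hq2', hq3'⟩
    · exact Or.inr (Or.inl h2)
    · right; right
      set β := MulAut.conj q * α with hβ
      set β' := MulAut.conj q' * α' with hβ'
      have hfix : (β⁻¹ * β') z = z := by
        rw [MulAut.mul_apply, hq1', ← hq1, MulAut.inv_apply_self, hq1]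
      have htr : ∀ j < n, Eqz z ((β⁻¹ * β') (x j)) (x j) := by
        intro j hj
        have hinvz : β⁻¹ z = z := by
          conv_lhs => rw [← hq1]
          rw [MulAut.inv_apply_self]
        have h3 : Eqz z (β' (x j)) (β (x j)) := by
          rcases List.mem_cons.1 (hall j hj) with rfl | hj'
          · exact hq3'.trans C.large (hq3.symm C.large)
          · exact (hq2' j hj').trans C.large ((hq2 j hj').symm C.large)
        have h4 := h3.map hinvz
        rwa [MulAut.inv_apply_self] at h4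
      obtain ⟨y, hy, hyc⟩ := eq_conj C.large hperf hin hnz hgen _ hfix (C.triv hfix htr)
      refine ⟨β⁻¹ (q * q'⁻¹) * y, ?_⟩
      rw [map_mul, ← hyc, conj_apply_eq, hβ, hβ']
      simp only [map_mul, map_inv, mul_inv_rev, inv_inv]
      group

end Cfsg.Agent.KFacts.AutChain

end

-- merged: Cfsg.Agent.KFacts.SuzOut
section

/-!
# Automorphisms of the Suzuki group (helper399)

`t1'`: an automorphism of `Suz` centralising `C(z0)` is `1` or the conjugation by `z0`. `out_two`, `index_le_two`, `out`: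
at most two classes of automorphisms modulo the inner ones.
-/

set_option autoImplicit false
set_option maxRecDepth 100000
set_option exponentiation.threshold 4000

namespace Cfsg.Agent.KFacts.SuzOut

open Cfsg.Spor Cfsg.Agent.Lib.PermNet Cfsg.Agent.Lib.PermNetOrbit Cfsg.Agent.SporadicRecognition.SuzPhi
  Cfsg.Agent.SporadicRecognition.SuzBound Cfsg.Agent.SporadicRecognition.SuzOrder
  Cfsg.Agent.SuzThree.Nets Cfsg.Agent.SuzThree.Basic Cfsg.Agent.SuzThree.Elts
  Cfsg.Agent.SuzThree.Elementary Cfsg.Agent.SuzThree.CentA Cfsg.Agent.SuzThree.CentB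
  Cfsg.Agent.SuzThree.QZero Cfsg.Agent.KFacts.SuzCent Cfsg.Agent.LargeExtra.Model
  Cfsg.Agent.LargeExtra.Pres Cfsg.Agent.KFacts.Codes Cfsg.Agent.KFacts.Orbits Cfsg.Agent.KFacts.SuzR
  Cfsg.Agent.KFacts.SuzSheet Cfsg.Agent.KFacts.SuzLarge Cfsg.Agent.KFacts.AutLarge Cfsg.Agent.KFacts.AutChain

/-! ### Generation -/

/-- the word of an element conjugating `z0` to the generator `c` -/
def nw : List Suz.Gen := [.b, .c, .a, .b, .a, .b]

/-- the element -/
noncomputable def n0 : Suz := el nw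

theorem n0_conj : n0 * z0 * n0⁻¹ = q .k1 := by
  rw [mul_inv_eq_iff_eq_mul]
  show el nw * el [.a] = el [.c] * el nw
  rw [← el_append, ← el_append]
  exact eq_of_reps (Rep.el _) (Rep.el _) (by decide +kernel)

/-- a word in `P` and `n0` -/
def mw : List Suz.Gen := h1 ++ ([.c] ++ ([.d] ++ (nw ++ (h1 ++ ([.d] ++ nw)))))

theorem mw_comm : (el mw * z0 * (el mw)⁻¹) * el [.b] = el [.b] * (el mw * z0 * (el mw)⁻¹) := by
  rw [← el_reverse]
  show el mw * el [.a] * el mw.reverse * el [.b] = el [.b] * (el mw * el [.a] * el mw.reverse)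
  rw [← el_append, ← el_append, ← el_append, ← el_append]
  exact eq_of_reps (Rep.el _) (Rep.el _) (by decide +kernel)

theorem comm_of {x : Suz.Gen} (h : checkEq 11 (wd ([x] ++ [.a])) (wd (.a :: [x])) = true) :
    el [x] * z0 = z0 * el [x] := mem_C1.1 (mem_C1_of h)

theorem gen : Subgroup.closure ({c : Suz | c * z0 = z0 * c} ∪ {n0}) = ⊤ := by
  set H := Subgroup.closure ({c : Suz | c * z0 = z0 * c} ∪ {n0}) with hH
  have hP : ∀ c : Suz, c * z0 = z0 * c → c ∈ H := fun c hc => Subgroup.subset_closure (Or.inl hc)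
  have hn : n0 ∈ H := Subgroup.subset_closure (Or.inr rfl)
  have ha : el [.a] ∈ H := hP _ rfl
  have hc : el [.c] ∈ H := hP _ (comm_of (by decide +kernel))
  have hd : el [.d] ∈ H := hP _ (comm_of (by decide +kernel))
  have he : el [.e] ∈ H := hP _ (comm_of (by decide +kernel))
  have hf : el [.f] ∈ H := hP _ (comm_of (by decide +kernel))
  have hg : el [.g] ∈ H := hP _ (comm_of (by decide +kernel))
  have hh : el h1 ∈ H := hP _ (mem_C1.1 h1_mem)
  have hm : el mw ∈ H := by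
    rw [mw, el_append, el_append, el_append, el_append, el_append, el_append]
    exact H.mul_mem hh (H.mul_mem hc (H.mul_mem hd (H.mul_mem hn (H.mul_mem hh (H.mul_mem hd hn)))))
  have hb : el [.b] ∈ H := by
    have h1 : ((el mw)⁻¹ * el [.b] * el mw) * z0 = z0 * ((el mw)⁻¹ * el [.b] * el mw) := by
      calc ((el mw)⁻¹ * el [.b] * el mw) * z0
          = (el mw)⁻¹ * (el [.b] * (el mw * z0 * (el mw)⁻¹)) * el mw := by group
        _ = (el mw)⁻¹ * ((el mw * z0 * (el mw)⁻¹) * el [.b]) * el mw := by rw [mw_comm]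
        _ = z0 * ((el mw)⁻¹ * el [.b] * el mw) := by group
    have h2 := hP _ h1
    have h3 : el [.b] = el mw * ((el mw)⁻¹ * el [.b] * el mw) * (el mw)⁻¹ := by group
    rw [h3]
    exact H.mul_mem (H.mul_mem hm h2) (H.inv_mem hm)
  rw [eq_top_iff, ← closure_S7, Subgroup.closure_le]
  rintro g ⟨w, hw, rfl⟩
  simp only [List.mem_cons, List.not_mem_nil, or_false] at hw
  rcases hw with rfl | rfl | rfl | rfl | rfl | rfl | rfl
  · exact ha
  · exact hb
  · exact hc
  · exact hd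
  · exact he
  · exact hf
  · exact hg

theorem n0_in : n0 * z0 * n0⁻¹ ∈ Q0 := by rw [n0_conj]; exact q_mem .k1

theorem C64 : C 64 = z0 := cod_z (n := 6)

theorem C1' : C 1 = q .k1 := cod_pow (n := 6) (i := 0) (by norm_num)

theorem n0_ne : n0 * z0 * n0⁻¹ ≠ z0 := by
  rw [n0_conj, ← C1', ← C64]
  exact C_ne (by norm_num) (by norm_num) (by norm_num)

theorem perf : commutator (Subgroup.centralizer ({z0} : Set Suz)) = ⊤ := SuzR.perfect

theorem irr' : AutLarge.Irr Q0 z0 := SuzLarge.irr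

/-- **(T1')** -/
theorem t1' (β : MulAut Suz) (h : ∀ c, c * z0 = z0 * c → β c = c) : β = 1 ∨ β = MulAut.conj z0 :=
  LargeE.eq_one_or_conj large n0_in n0_ne gen β h

/-- **(T1s)** an automorphism centralising `R` is inner. -/
theorem t1s (β : MulAut Suz) (h : ∀ x ∈ Q0, β x = x) : β = 1 ∨ β = MulAut.conj z0 :=
  AutLarge.eq_one_or_conj large perf n0_in n0_ne gen β h

/-! ### The chain -/

/-- level 0: images of `x 3` -/
def W0 : List (ℕ × List ℕ) :=
  [(1, [3, 0, 2, 0]), (2, [3, 0, 2]), (4, [3, 0, 2, 1]), (8, []), (9, [3]), (10, [3, 0]), (12, [3,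
   0, 1]), (16, [3, 0, 3, 2, 0, 2]), (17, [3, 0, 3, 2, 0]), (18, [3, 0, 3, 2]), (20, [3, 0, 3, 2,
   1]), (27, [3, 0, 3]), (29, [3, 0, 3, 1]), (30, [3, 0, 3, 1, 0]), (31, [3, 0, 3, 1, 0, 2]), (32,
   [3, 0, 1, 4, 2, 0]), (39, [3, 0, 1, 4, 2]), (40, [3, 0, 1, 4, 0]), (47, [3, 0, 1, 4]), (48, [3,
   0, 1, 4, 3, 2, 0]), (55, [3, 0, 1, 4, 3, 2]), (57, [3, 0, 1, 4, 3, 1]), (58, [3, 0, 1, 4, 3, 0]),
   (59, [3, 0, 1, 4, 3, 0, 1]), (60, [3, 0, 3, 1, 0, 4, 1]), (61, [3, 0, 3, 1, 0, 4]), (62, [3, 0,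
   1, 4, 3])]

/-- level 1: images of `x 4` -/
def W1 : List (ℕ × List ℕ) :=
  [(16, []), (17, [2]), (18, [2, 0]), (20, [2, 0, 1]), (27, [2, 0, 2]), (29, [2, 0, 2, 1]), (30, [2,
   0, 2, 1, 0]), (31, [2, 0, 2, 1, 0, 2]), (48, [2, 0, 1, 4, 0]), (55, [2, 0, 1, 4]), (57, [2, 0, 1,
   4, 2, 1]), (58, [2, 0, 1, 4, 2, 0]), (59, [2, 0, 1, 4, 2, 0, 1]), (60, [2, 0, 2, 1, 0, 4, 1]),
   (61, [2, 0, 2, 1, 0, 4]), (62, [2, 0, 1, 4, 2])]

/-- level 2: images of `x 0` -/
def W2 : List (ℕ × List ℕ) :=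
  [(1, []), (2, [0]), (4, [0, 1]), (32, [0, 1, 4, 0]), (39, [0, 1, 4])]

/-- level 3: images of `x 1` -/
def W3 : List (ℕ × List ℕ) :=
  [(2, []), (4, [1]), (32, [1, 4, 1]), (39, [1, 4])]

/-- level 4: images of `x 2` -/
def W4 : List (ℕ × List ℕ) :=
  [(4, []), (32, [4, 4]), (39, [4])]

/-- level 5: images of `x 5` -/
def W5 : List (ℕ × List ℕ) :=
  [(32, [])]

theorem lv0 : LvOk BB 6 AA [] 3 W0 [] := by decide +kernel
theorem lv1 : LvOk BB 6 AA [3] 4 W1 [] := by decide +kernel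
theorem lv2 : LvOk BB 6 AA [4, 3] 0 W2 [] := by decide +kernel
theorem lv3 : LvOk BB 6 AA [0, 4, 3] 1 W3 [] := by decide +kernel
theorem lv4 : LvOk BB 6 AA [1, 0, 4, 3] 2 W4 [] := by decide +kernel
theorem lv5 : LvOk BB 6 AA [2, 1, 0, 4, 3] 5 W5 [39] := by decide +kernel

/-- the complete levels -/
def ls : List (ℕ × List (ℕ × List ℕ)) := [(3, W0), (4, W1), (0, W2), (1, W3), (2, W4)]

theorem lsOk : AutChain.ChOk BB 6 AA [] ls :=
  ⟨⟨by norm_num, lv0⟩, ⟨by norm_num, lv1⟩, ⟨by norm_num, lv2⟩, ⟨by norm_num, lv3⟩, ⟨by norm_num, lv4⟩, trivial⟩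

theorem cert : Cert Suz BB 6 z0 xx gg AA where
  rels := rels
  tri := tri
  nd := nondeg
  gz k := mem_C1.1 (gg_mem k)
  act := conj_AA
  large := by rw [← Q0_eq]; exact large

theorem all_idx : ∀ j < 6, j ∈ 5 :: idx [] ls := by
  intro j hj
  show j ∈ [5, 2, 1, 0, 4, 3]
  interval_cases j <;> simp

/-- **At most two classes of automorphisms.** -/
theorem out_two (α α' : MulAut Suz) : α ∈ (MulAut.conj (G := Suz)).range ∨ α' ∈ (MulAut.conj (G := Suz)).range ∨
    α⁻¹ * α' ∈ (MulAut.conj (G := Suz)).range :=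
  cert.out_two (by rw [← Q0_eq]; exact irr') perf odd_index (by rw [← Q0_eq]; exact n0_in) n0_ne gen lsOk
    (i := 5) (by norm_num) (L := W5) (c₁ := 39) lv5 all_idx α α'

/-- a subgroup with at most two cosets -/
theorem index_le_two_of {G : Type*} [Group G] (H : Subgroup G) (h : ∀ a b : G, a ∈ H ∨ b ∈ H ∨ a⁻¹ * b ∈ H) :
    H.index = 1 ∨ H.index = 2 := by
  by_cases hall : ∀ a, a ∈ H
  · left
    rw [Subgroup.index_eq_one]
    exact (Subgroup.eq_top_iff' H).2 hall
  · right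
    push Not at hall
    obtain ⟨a, ha⟩ := hall
    rw [Subgroup.index_eq_two_iff]
    refine ⟨a⁻¹, fun b => ?_⟩
    by_cases hb : b ∈ H
    · right
      refine ⟨hb, fun h1 => ha ?_⟩
      have h2 := (H.mul_mem_cancel_left hb).1 h1
      exact (H.inv_mem_iff).1 h2
    · left
      refine ⟨?_, hb⟩
      rcases h b⁻¹ a⁻¹ with h1 | h1 | h1
      · exact absurd ((H.inv_mem_iff).1 h1) hb
      · exact absurd ((H.inv_mem_iff).1 h1) ha
      · rwa [inv_inv] at h1

theorem index_eq : (MulAut.conj : Suz →* MulAut Suz).range.index = 1 ∨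
    (MulAut.conj : Suz →* MulAut Suz).range.index = 2 := index_le_two_of _ out_two

/-- **The outer automorphism group has order at most 2.** -/
theorem out : ¬ 4 ∣ (MulAut.conj : Suz →* MulAut Suz).range.index := by
  rcases index_eq with h | h <;> rw [h] <;> decide

end Cfsg.Agent.KFacts.SuzOut

end
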