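import Mathlib
import Cfsg.Agent.KFacts.RgdTor
import Cfsg.Agent.OddHalf.DblR.Fam

-- merged: Cfsg.Agent.KFacts.RgdKfour
section

/-!
# Automorphisms of `P_r` which are trivial on `P_r / Q_r` (ODD, D4, K-side; text: helper851, helper657; helper335)

`R : RGD cs h 2 T n X` simply laced, `T` abelian, `r` a root, `P = ⟨X a : (a, r) ≥ 0⟩`, `Q = ⟨X a : (a, r) ≥ 1⟩`.

* `Hyp R r` : the hypotheses (`sep` is `RgdEx.sep`);
* `Hyp.k4` : `e` normalises `X r` and `[e, P] ≤ Q` ⟹ `e` acts on `X r` as an element of `T ⊓ ⟨X r, X (-r)⟩`;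
* `Hyp.B` : `y` a `2`-element centralising `X r`, `[y, P] ≤ Q` (`q > 2`) ⟹ `y` acts on `P` as an element of `Q`.
-/

set_option autoImplicit false
set_option linter.unusedSectionVars false

namespace Cfsg.Agent.KFacts.RgdKfour

open CoxeterSystem Cfsg.Agent.ChevalleyStructure.CoxeterGeom Cfsg.Agent.Tits.Roots Cfsg.Agent.Tits.Core
  Cfsg.Agent.Tits.Exchange Cfsg.Agent.Nodes.Reps Cfsg.Agent.Nodes.BNOf Cfsg.Agent.Nodes.StabComb
  Cfsg.Agent.Nodes.Bruhat Cfsg.Agent.Nodes.OppDec Cfsg.Agent.Nodes.PosPair Cfsg.Agent.Nodes.Coroot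
  Cfsg.Agent.KFacts.RgdPar Cfsg.Agent.KFacts.RgdSL Cfsg.Agent.KFacts.RgdTI Cfsg.Agent.KFacts.RgdCent
  Cfsg.Agent.KFacts.RgdOdd Cfsg.Agent.KFacts.RgdEx Cfsg.Agent.KFacts.RgdTor
open scoped commutatorElement

variable {I W Y : Type*} [Fintype I] [DecidableEq I] [Group W] [Group Y] {M : CoxeterMatrix I}
  {cs : CoxeterSystem M W} {A : I → I → ℤ} {h : IsCartan M A} {T : Subgroup Y} {n : I → Y}
  {X : (I → ℤ) → Subgroup Y}

/-- the roots `b` with `(b, r) = 1` -/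
def Phi1 (cs : CoxeterSystem M W) (h : IsCartan M A) (r : I → ℤ) : Set (I → ℤ) :=
  {b | IsRoot cs h b ∧ cpr cs h b r = 1}

/-- `(b, r) = (b', r) = 1`, `b ≠ b'` : there is `d` orthogonal to `r` with `(b, d) = 1`, `(b', d) ≤ 0`. -/
def Sep (cs : CoxeterSystem M W) (h : IsCartan M A) (r : I → ℤ) : Prop :=
  ∀ b b', b ∈ Phi1 cs h r → b' ∈ Phi1 cs h r → b ≠ b' →
    ∃ d, IsRoot cs h d ∧ cpr cs h d r = 0 ∧ cpr cs h b d = 1 ∧ cpr cs h b' d ≤ 0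

theorem sep_of_two60 [Finite W] (hs : SL cs h) (h2 : Two60 cs h) {r : I → ℤ} (hr : IsRoot cs h r) : Sep cs h r :=
  fun _ _ hb hb' hne => RgdEx.sep hs h2 hr hb.1 hb'.1 hb.2 hb'.2 hne

/-- The hypotheses. -/
structure Hyp [Finite W] (R : RGD cs h 2 T n X) (r : I → ℤ) : Prop where
  sl : SL cs h
  root : IsRoot cs h r
  tab : ∀ s ∈ T, ∀ t ∈ T, s * t = t * s
  sep : Sep cs h r
  nb : ∀ a, IsRoot cs h a → ∃ b, IsRoot cs h b ∧ cpr cs h a b = 1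

/-- `Q_S = ⟨X c : c ∈ S⟩ X_r` -/
def QS (X : (I → ℤ) → Subgroup Y) (r : I → ℤ) (S : Set (I → ℤ)) : Subgroup Y := RGD.Sup X S ⊔ X r

namespace Hyp

variable [Finite W] {R : RGD cs h 2 T n X} {r : I → ℤ} (H : Hyp R r)

include H

theorem lr (a : I → ℤ) (ha : IsRoot cs h a) : LR R a := lr_all R H.sl H.nb a ha

theorem ex : ∃ b, b ∈ Phi1 cs h r := by
  obtain ⟨b, hb, h1⟩ := H.nb r H.root
  exact ⟨b, hb, by rw [H.sl b r hb H.root, h1]⟩

theorem sub_mem {b : I → ℤ} (hb : b ∈ Phi1 cs h r) : r - b ∈ Phi1 cs h r := by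
  have hrb : cpr cs h r b = 1 := by rw [H.sl r b H.root hb.1, hb.2]
  exact ⟨isRoot_sub H.root hb.1 hrb, by
    rw [cpr_sub_left H.sl H.root H.root H.root, cpr_self cs h H.root, hb.2]; norm_num⟩

theorem sub_ne {b : I → ℤ} (hb : b ∈ Phi1 cs h r) : r - b ≠ b := by
  intro h0
  have h2 : r = (2 : ℤ) • b := by
    have : r = (r - b) + b := by abel
    rw [this, h0]; module
  have h3 : cpr cs h r b = 1 := by rw [H.sl r b H.root hb.1, hb.2]
  rw [h2, cpr_smul cs h _ _ hb.1, cpr_self cs h hb.1] at h3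
  omega

theorem ne_r {b : I → ℤ} (hb : b ∈ Phi1 cs h r) : b ≠ r := by
  rintro rfl
  have := hb.2
  rw [cpr_self cs h H.root] at this
  omega

/-- elements of `X b`, `X c` commute unless `b + c = r` -/
theorem comm1 {b c : I → ℤ} (hb : b ∈ Phi1 cs h r) (hc : c ∈ Phi1 cs h r) (hne : c ≠ r - b) {u v : Y}
    (hu : u ∈ X b) (hv : v ∈ X c) : u * v = v * u := by
  refine (H.lr c hc.1).comm b hb.1 ?_ u hu v hv
  by_contra h0
  push Not at h0
  apply hne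
  have h1 : cpr cs h b c = -1 := by
    rcases H.sl.cases hb.1 hc.1 with h2 | h2 | h2
    · omega
    · exfalso
      have h3 := hb.2
      rw [h2.1, cpr_neg_left _ H.root, hc.2] at h3
      omega
    · omega
  have h2 : b + c = r := H.sl.eq_of_cpr (isRoot_add hb.1 hc.1 h1) H.root (by
    rw [cpr_add cs h _ _ H.root, hb.2, hc.2]; norm_num)
  rw [← h2, add_sub_cancel_left]

theorem a2 {b : I → ℤ} (hb : b ∈ Phi1 cs h r) : A2 cs h b (r - b) := by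
  refine H.sl.a2 hb.1 (H.sub_mem hb).1 ?_
  rw [H.sl b _ hb.1 (H.sub_mem hb).1, cpr_sub_left H.sl H.root H.root hb.1, cpr_self cs h hb.1,
    H.sl r b H.root hb.1, hb.2]
  norm_num

theorem br_mem {b : I → ℤ} (hb : b ∈ Phi1 cs h r) {u v : Y} (hu : u ∈ X b) (hv : v ∈ X (r - b)) :
    ⁅u, v⁆ ∈ X r := by
  have := (H.a2 hb).comm_mem R hu hv
  rwa [add_sub_cancel] at this

/-- `X_r` is central in `P`. -/
theorem central {p z : Y} (hp : p ∈ RGD.Sup X (Ge cs h r)) (hz : z ∈ X r) : p * z = z * p :=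
  (H.lr r H.root).comm' hp hz

theorem phi1_ge {b : I → ℤ} (hb : b ∈ Phi1 cs h r) : b ∈ Ge cs h r := ⟨hb.1, by rw [hb.2]; norm_num⟩

theorem phi1_rad {b : I → ℤ} (hb : b ∈ Phi1 cs h r) : b ∈ Rad cs h r := ⟨hb.1, hb.2.ge⟩

theorem r_ge : r ∈ Ge cs h r := ⟨H.root, by rw [cpr_self cs h H.root]; norm_num⟩

theorem r_rad : r ∈ Rad cs h r := ⟨H.root, by rw [cpr_self cs h H.root]; norm_num⟩

theorem rad_cases {b : I → ℤ} (hb : b ∈ Rad cs h r) : b = r ∨ b ∈ Phi1 cs h r := by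
  rcases H.sl.cases hb.1 H.root with h1 | h1 | h1
  · exact Or.inl h1.1
  · have := hb.2; omega
  · have := hb.2
    exact Or.inr ⟨hb.1, by omega⟩

theorem rad_le_ge : RGD.Sup X (Rad cs h r) ≤ RGD.Sup X (Ge cs h r) :=
  RGD.Sup_mono fun _ hx => ⟨hx.1, le_trans zero_le_one hx.2⟩

theorem rad_eq : RGD.Sup X (Rad cs h r) = QS X r (Phi1 cs h r) := by
  apply le_antisymm
  · refine RGD.Sup_le fun b hb => ?_
    rcases H.rad_cases hb with rfl | h1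
    · exact le_sup_right
    · exact le_trans (RGD.le_Sup h1) le_sup_left
  · exact sup_le (RGD.Sup_mono fun b hb => H.phi1_rad hb) (RGD.le_Sup H.r_rad)

theorem QS_le_ge {S : Set (I → ℤ)} (hS : S ⊆ Phi1 cs h r) : QS X r S ≤ RGD.Sup X (Ge cs h r) :=
  sup_le (RGD.Sup_mono fun _ hb => H.phi1_ge (hS hb)) (RGD.le_Sup H.r_ge)

/-- elements of `Q_S` commute with `X c` if `r - c ∉ S` -/
theorem QS_comm {S : Set (I → ℤ)} (hS : S ⊆ Phi1 cs h r) {c : I → ℤ} (hc : c ∈ Phi1 cs h r) (hcS : r - c ∉ S)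
    {q v : Y} (hq : q ∈ QS X r S) (hv : v ∈ X c) : q * v = v * q := by
  have h1 : QS X r S ≤ Subgroup.centralizer {v} := by
    refine sup_le (RGD.Sup_le fun b hb => ?_) ?_
    · intro u hu
      rw [Subgroup.mem_centralizer_singleton_iff]
      refine (H.comm1 (hS hb) hc ?_ hu hv)
      rintro rfl
      apply hcS
      rwa [sub_sub_cancel]
    · intro u hu
      rw [Subgroup.mem_centralizer_singleton_iff]
      exact (H.central (RGD.le_Sup (H.phi1_ge hc) hv) hu).symm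
  exact Subgroup.mem_centralizer_singleton_iff.1 (h1 hq)

/-- `X c` normalises `Q_S` -/
theorem QS_conj {S : Set (I → ℤ)} (hS : S ⊆ Phi1 cs h r) {c : I → ℤ} (hc : c ∈ Phi1 cs h r) {q v : Y}
    (hq : q ∈ QS X r S) (hv : v ∈ X c) : v * q * v⁻¹ ∈ QS X r S := by
  have h1 : QS X r S ≤ (QS X r S).comap (MulAut.conj v).toMonoidHom := by
    refine sup_le (RGD.Sup_le fun b hb => ?_) ?_
    · intro u hu
      rw [Subgroup.mem_comap]
      show v * u * v⁻¹ ∈ QS X r S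
      have h2 : u ∈ QS X r S := Subgroup.mem_sup_left (RGD.le_Sup hb hu)
      by_cases h3 : b = r - c
      · subst h3
        have h4 : ⁅v, u⁆ ∈ X r := H.br_mem hc hv hu
        have h5 : v * u * v⁻¹ = ⁅v, u⁆ * u := by rw [commutatorElement_def]; group
        rw [h5]
        exact mul_mem (Subgroup.mem_sup_right h4) h2
      · have h4 : v * u = u * v := H.comm1 hc (hS hb) h3 hv hu
        have h5 : v * u * v⁻¹ = u := by rw [h4]; group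
        rwa [h5]
    · intro u hu
      rw [Subgroup.mem_comap]
      show v * u * v⁻¹ ∈ QS X r S
      have h4 : v * u = u * v := H.central (RGD.le_Sup (H.phi1_ge hc) hv) hu
      have h5 : v * u * v⁻¹ = u := by rw [h4]; group
      rw [h5]
      exact Subgroup.mem_sup_right hu
  exact h1 hq

/-- `Q_S = X_c Q_{S - c}` -/
theorem QS_split {S : Set (I → ℤ)} (hS : S ⊆ Phi1 cs h r) {c : I → ℤ} (hc : c ∈ S) {q : Y} (hq : q ∈ QS X r S) :
    ∃ v ∈ X c, ∃ q' ∈ QS X r (S \ {c}), q = v * q' := by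
  have hS' : S \ {c} ⊆ Phi1 cs h r := fun x hx => hS hx.1
  let L : Subgroup Y :=
    { carrier := {q | ∃ v ∈ X c, ∃ q' ∈ QS X r (S \ {c}), q = v * q'}
      one_mem' := ⟨1, one_mem _, 1, one_mem _, by group⟩
      mul_mem' := by
        rintro _ _ ⟨v, hv, q, hq, rfl⟩ ⟨v', hv', q', hq', rfl⟩
        refine ⟨v * v', mul_mem hv hv', v'⁻¹ * q * v'⁻¹⁻¹ * q',
          mul_mem (H.QS_conj hS' (hS hc) hq (inv_mem hv')) hq', by group⟩
      inv_mem' := by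
        rintro _ ⟨v, hv, q, hq, rfl⟩
        exact ⟨v⁻¹, inv_mem hv, v * q⁻¹ * v⁻¹, H.QS_conj hS' (hS hc) (inv_mem hq) hv, by group⟩ }
  have h1 : QS X r S ≤ L := by
    refine sup_le (RGD.Sup_le fun b hb => ?_) ?_
    · intro u hu
      by_cases hbc : b = c
      · subst hbc
        exact ⟨u, hu, 1, one_mem _, by group⟩
      · refine ⟨1, one_mem _, u, Subgroup.mem_sup_left (RGD.le_Sup (?_ : b ∈ S \ {c}) hu), by group⟩
        exact ⟨hb, hbc⟩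
    · intro u hu
      exact ⟨1, one_mem _, u, Subgroup.mem_sup_right hu, by group⟩
  exact h1 hq

/-- an element of `Q_S` commuting with `X (r - c)` lies in `Q_{S - c}` -/
theorem QS_drop {S : Set (I → ℤ)} (hS : S ⊆ Phi1 cs h r) {c : I → ℤ} (hc : c ∈ S) {q : Y} (hq : q ∈ QS X r S)
    (hcom : ∀ w ∈ X (r - c), q * w = w * q) : q ∈ QS X r (S \ {c}) := by
  obtain ⟨v, hv, q', hq', rfl⟩ := H.QS_split hS hc hq
  have hS' : S \ {c} ⊆ Phi1 cs h r := fun x hx => hS hx.1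
  have hc' := hS hc
  obtain ⟨w, hw, hw1⟩ := exists_ne R (H.sub_mem hc').1
  have h1 : q' * w = w * q' := by
    refine H.QS_comm hS' (H.sub_mem hc') ?_ hq' hw
    rw [sub_sub_cancel]
    exact fun h0 => h0.2 rfl
  have h2 : v * w = w * v := by
    have h3 := hcom w hw
    calc v * w = v * (w * q') * q'⁻¹ := by group
      _ = (v * q' * w) * q'⁻¹ := by rw [← h1]; group
      _ = (w * (v * q')) * q'⁻¹ := by rw [h3]
      _ = w * v := by group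
  have h3 : v = 1 := by
    by_contra hv1
    exact (H.a2 hc').comm_ne_one R hv hv1 hw hw1 (commutatorElement_eq_one_iff_mul_comm.2 h2)
  rw [h3, one_mul]
  exact hq'

omit H in
theorem finite_phi1 : (Phi1 cs h r).Finite :=
  (RGD.finite_roots (cs := cs) (h := h)).subset fun _ ha => ha.1

/-- an element of `Q` commuting with `X (r - c)` for all `c ∈ Phi1 - S` lies in `Q_S` -/
theorem mem_QS {S : Set (I → ℤ)} (hS : S ⊆ Phi1 cs h r) {q : Y} (hq : q ∈ RGD.Sup X (Rad cs h r))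
    (hcom : ∀ c ∈ Phi1 cs h r, c ∉ S → ∀ w ∈ X (r - c), q * w = w * q) : q ∈ QS X r S := by
  classical
  have key : ∀ D : Finset (I → ℤ), (∀ c ∈ D, c ∈ Phi1 cs h r ∧ c ∉ S) → q ∈ QS X r (Phi1 cs h r \ ↑D) := by
    intro D
    induction D using Finset.induction_on with
    | empty =>
      intro _
      rw [Finset.coe_empty, Set.sdiff_empty, ← H.rad_eq]
      exact hq
    | insert c D hcD ih =>
      intro hD
      have h1 := ih fun x hx => hD x (Finset.mem_insert_of_mem hx)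
      have h2 := hD c (Finset.mem_insert_self _ _)
      have h3 := H.QS_drop (S := Phi1 cs h r \ ↑D) (fun x hx => hx.1) (c := c) ⟨h2.1, hcD⟩ h1
        (hcom c h2.1 h2.2)
      rwa [Set.sdiff_sdiff, Set.union_singleton, ← Finset.coe_insert] at h3
  have hfin : (Phi1 cs h r \ S).Finite := finite_phi1.subset Set.sdiff_subset
  have h1 := key hfin.toFinset fun c hc => by
    rw [Set.Finite.mem_toFinset] at hc
    exact hc
  rwa [Set.Finite.coe_toFinset, Set.sdiff_sdiff_cancel_left hS] at h1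

/-- elements of `X_b X_r` -/
theorem mem_QS_single {b : I → ℤ} (hb : b ∈ Phi1 cs h r) {q : Y} (hq : q ∈ QS X r {b}) :
    ∃ v ∈ X b, ∃ z ∈ X r, q = v * z := by
  obtain ⟨v, hv, q', hq', rfl⟩ := H.QS_split (S := {b}) (Set.singleton_subset_iff.2 hb) rfl hq
  refine ⟨v, hv, q', ?_, rfl⟩
  rw [Set.sdiff_self] at hq'
  refine (sup_le (RGD.Sup_le fun x hx => absurd hx (Set.notMem_empty x)) le_rfl : QS X r ∅ ≤ X r) hq'

/-- `[Q, Q] ≤ X_r` -/
theorem br_Q {q q' : Y} (hq : q ∈ RGD.Sup X (Rad cs h r)) (hq' : q' ∈ RGD.Sup X (Rad cs h r)) :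
    ⁅q, q'⁆ ∈ X r := by
  have hcen : ∀ {p z : Y}, p ∈ RGD.Sup X (Rad cs h r) → z ∈ X r → p * z = z * p :=
    fun hp hz => H.central (H.rad_le_ge hp) hz
  -- for `q'` in a root group
  have h1 : ∀ b ∈ Rad cs h r, ∀ v ∈ X b, ∀ q ∈ RGD.Sup X (Rad cs h r), ⁅q, v⁆ ∈ X r := by
    intro b hb v hv
    let L : Subgroup Y :=
      { carrier := {q | q ∈ RGD.Sup X (Rad cs h r) ∧ ⁅q, v⁆ ∈ X r}
        one_mem' := ⟨one_mem _, by simp [commutatorElement_def]⟩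
        mul_mem' := by
          rintro x y ⟨hx, hx'⟩ ⟨hy, hy'⟩
          refine ⟨mul_mem hx hy, ?_⟩
          have h2 : ⁅x * y, v⁆ = (x * ⁅y, v⁆ * x⁻¹) * ⁅x, v⁆ := by simp only [commutatorElement_def]; group
          have h3 : x * ⁅y, v⁆ * x⁻¹ = ⁅y, v⁆ := by rw [hcen hx hy']; group
          rw [h2, h3]
          exact mul_mem hy' hx'
        inv_mem' := by
          rintro x ⟨hx, hx'⟩
          refine ⟨inv_mem hx, ?_⟩
          have h2 : ⁅x⁻¹, v⁆ = x⁻¹ * ⁅x, v⁆⁻¹ * x := by simp only [commutatorElement_def]; group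
          have h3 : x⁻¹ * ⁅x, v⁆⁻¹ * x = ⁅x, v⁆⁻¹ := by
            rw [hcen (inv_mem hx) (inv_mem hx')]; group
          rw [h2, h3]
          exact inv_mem hx' }
    have hL : RGD.Sup X (Rad cs h r) ≤ L := by
      refine RGD.Sup_le fun c hc => ?_
      intro u hu
      refine ⟨RGD.le_Sup hc hu, ?_⟩
      rcases H.rad_cases hb with rfl | hb'
      · rw [commutatorElement_eq_one_iff_mul_comm.2 (hcen (RGD.le_Sup hc hu) hv)]
        exact one_mem _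
      rcases H.rad_cases hc with rfl | hc'
      · rw [commutatorElement_eq_one_iff_mul_comm.2 (hcen (RGD.le_Sup hb hv) hu).symm]
        exact one_mem _
      by_cases h2 : b = r - c
      · subst h2
        exact H.br_mem hc' hu hv
      · rw [commutatorElement_eq_one_iff_mul_comm.2 (H.comm1 hc' hb' h2 hu hv)]
        exact one_mem _
    intro q hq
    exact (hL hq).2
  let L : Subgroup Y :=
    { carrier := {v | v ∈ RGD.Sup X (Rad cs h r) ∧ ⁅q, v⁆ ∈ X r}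
      one_mem' := ⟨one_mem _, by simp [commutatorElement_def]⟩
      mul_mem' := by
        rintro x y ⟨hx, hx'⟩ ⟨hy, hy'⟩
        refine ⟨mul_mem hx hy, ?_⟩
        have h2 : ⁅q, x * y⁆ = ⁅q, x⁆ * (x * ⁅q, y⁆ * x⁻¹) := by simp only [commutatorElement_def]; group
        have h3 : x * ⁅q, y⁆ * x⁻¹ = ⁅q, y⁆ := by rw [hcen hx hy']; group
        rw [h2, h3]
        exact mul_mem hx' hy'
      inv_mem' := by
        rintro x ⟨hx, hx'⟩
        refine ⟨inv_mem hx, ?_⟩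
        have h2 : ⁅q, x⁻¹⁆ = x⁻¹ * ⁅q, x⁆⁻¹ * x := by simp only [commutatorElement_def]; group
        have h3 : x⁻¹ * ⁅q, x⁆⁻¹ * x = ⁅q, x⁆⁻¹ := by
          rw [hcen (inv_mem hx) (inv_mem hx')]; group
        rw [h2, h3]
        exact inv_mem hx' }
  have hL : RGD.Sup X (Rad cs h r) ≤ L := by
    refine RGD.Sup_le fun c hc => ?_
    intro u hu
    exact ⟨RGD.le_Sup hc hu, h1 c hc u hu q hq⟩
  exact (hL hq').2

/-- the form of `sep` used -/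
theorem exists_orth {b b' : I → ℤ} (hb : b ∈ Phi1 cs h r) (hb' : b' ∈ Phi1 cs h r) (hne : b' ≠ r - b) :
    ∃ a, IsRoot cs h a ∧ cpr cs h a r = 0 ∧ 0 ≤ cpr cs h a b ∧ cpr cs h a b' = 1 := by
  obtain ⟨d, hd, hdr, h1, h2⟩ := H.sep (r - b') b (H.sub_mem hb') hb (by
    intro h0
    apply hne
    rw [← h0, sub_sub_cancel])
  refine ⟨-d, hd.neg, ?_, ?_, ?_⟩
  · rw [cpr_neg_left _ H.root, hdr, neg_zero]
  · rw [cpr_neg_left _ hb.1, H.sl d b hd hb.1]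
    omega
  · rw [cpr_neg_left _ hb'.1, H.sl d b' hd hb'.1]
    rw [cpr_sub_left H.sl H.root H.root hd, H.sl r d H.root hd, hdr] at h1
    omega

section Aut

variable {e : Y} (heP : ∀ p ∈ RGD.Sup X (Ge cs h r), e * p * e⁻¹ * p⁻¹ ∈ RGD.Sup X (Rad cs h r))

include heP

omit H in
theorem e_mem_Q {q : Y} (hq : q ∈ RGD.Sup X (Rad cs h r))
    (hle : RGD.Sup X (Rad cs h r) ≤ RGD.Sup X (Ge cs h r)) : e * q * e⁻¹ ∈ RGD.Sup X (Rad cs h r) := by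
  have h1 := mul_mem (heP q (hle hq)) hq
  rwa [inv_mul_cancel_right] at h1

/-- `e` normalises `X_b X_r`. -/
theorem e_pres {b : I → ℤ} (hb : b ∈ Phi1 cs h r) {v : Y} (hv : v ∈ X b) :
    ∃ v' ∈ X b, ∃ z ∈ X r, e * v * e⁻¹ = v' * z := by
  have hvQ : v ∈ RGD.Sup X (Rad cs h r) := RGD.le_Sup (H.phi1_rad hb) hv
  have htQ : e * v * e⁻¹ ∈ RGD.Sup X (Rad cs h r) := e_mem_Q heP hvQ H.rad_le_ge
  set t := e * v * e⁻¹ with ht
  refine H.mem_QS_single hb (H.mem_QS (Set.singleton_subset_iff.2 hb) htQ ?_)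
  intro c hc hcb
  -- `t` commutes with `X (r - c)`
  have hc' := H.sub_mem hc
  obtain ⟨a, ha, har, hab, hac⟩ := H.exists_orth hb hc' (by
    intro h0
    apply hcb
    rw [Set.mem_singleton_iff, ← sub_sub_cancel r c, h0, sub_sub_cancel])
  have hsub : IsRoot cs h (r - c - a) := by
    refine isRoot_sub hc'.1 ha ?_
    rw [H.sl _ a hc'.1 ha, hac]
  have hdr : cpr cs h (r - c - a) r = 1 := by
    rw [cpr_sub_left H.sl H.root H.root H.root, hc'.2, har]; norm_num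
  have hA : A2 cs h a (r - c - a) := by
    refine H.sl.a2 ha hsub ?_
    rw [H.sl a _ ha hsub, cpr_sub_left H.sl H.root H.root ha, cpr_self cs h ha, H.sl _ a hc'.1 ha, hac]
    norm_num
  intro w hw
  obtain ⟨x, hx, hx1⟩ := exists_ne R ha
  obtain ⟨w', hw', ew⟩ := hA.comm_surj R hx hx1 (w := w) (by rwa [add_sub_cancel])
  have hxP : x ∈ RGD.Sup X (Ge cs h r) := RGD.le_Sup (⟨ha, har.ge⟩ : a ∈ Ge cs h r) hx
  have hw'Q : w' ∈ RGD.Sup X (Rad cs h r) := RGD.le_Sup (⟨hsub, hdr.ge⟩ : (r - c - a) ∈ Rad cs h r) hw'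
  have hwQ : w ∈ RGD.Sup X (Rad cs h r) := RGD.le_Sup (H.phi1_rad hc') hw
  -- `x t x⁻¹ = t z`
  set q := e * x * e⁻¹ * x⁻¹ with hq
  have hqQ : q ∈ RGD.Sup X (Rad cs h r) := heP x hxP
  have hxv : x * v = v * x := (H.lr b hb.1).comm a ha hab x hx v hv
  have h1 : (q * x) * t = t * (q * x) := by
    have : q * x = e * x * e⁻¹ := by rw [hq]; group
    rw [this, ht]
    calc e * x * e⁻¹ * (e * v * e⁻¹) = e * (x * v) * e⁻¹ := by group
      _ = e * v * e⁻¹ * (e * x * e⁻¹) := by rw [hxv]; group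
  have hz : ⁅t⁻¹, q⁻¹⁆ ∈ X r := H.br_Q (inv_mem htQ) (inv_mem hqQ)
  have h2 : x * t * x⁻¹ = t * ⁅t⁻¹, q⁻¹⁆ := by
    calc x * t * x⁻¹ = q⁻¹ * ((q * x) * t) * x⁻¹ := by group
      _ = q⁻¹ * t * q := by rw [h1]; group
      _ = t * ⁅t⁻¹, q⁻¹⁆ := by rw [commutatorElement_def]; group
  have h3 : x * w' * x⁻¹ = w * w' := by
    rw [← ew, commutatorElement_def]; group
  have hcQ : ∀ {q z : Y}, q ∈ RGD.Sup X (Rad cs h r) → z ∈ X r → q * z = z * q :=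
    fun hq hz => H.central (H.rad_le_ge hq) hz
  have h4 : ⁅t, w'⁆ ∈ X r := H.br_Q htQ hw'Q
  have h4' : ⁅t, w⁆ ∈ X r := H.br_Q htQ hwQ
  have h5 : x * ⁅t, w'⁆ * x⁻¹ = ⁅t, w'⁆ := by
    rw [H.central hxP h4]; group
  have h6 : x * ⁅t, w'⁆ * x⁻¹ = ⁅t, w⁆ * ⁅t, w'⁆ := by
    have e1 : x * ⁅t, w'⁆ * x⁻¹ = ⁅x * t * x⁻¹, x * w' * x⁻¹⁆ := by
      simp only [commutatorElement_def]; group
    rw [e1, h2, h3]
    have hzw : ⁅t⁻¹, q⁻¹⁆ * (w * w') = (w * w') * ⁅t⁻¹, q⁻¹⁆ := (hcQ (mul_mem hwQ hw'Q) hz).symm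
    have e2 : ⁅t * ⁅t⁻¹, q⁻¹⁆, w * w'⁆ = ⁅t, w * w'⁆ := by
      rw [commutatorElement_def (t * _), commutatorElement_def t (w * w')]
      calc t * ⁅t⁻¹, q⁻¹⁆ * (w * w') * (t * ⁅t⁻¹, q⁻¹⁆)⁻¹ * (w * w')⁻¹
          = t * (⁅t⁻¹, q⁻¹⁆ * (w * w')) * (t * ⁅t⁻¹, q⁻¹⁆)⁻¹ * (w * w')⁻¹ := by group
        _ = _ := by rw [hzw]; group
    have e3 : ⁅t, w * w'⁆ = ⁅t, w⁆ * (w * ⁅t, w'⁆ * w⁻¹) := by simp only [commutatorElement_def]; group
    rw [e2, e3, hcQ hwQ h4]; group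
  rw [h5] at h6
  have h7 : ⁅t, w⁆ = 1 := by
    have := h6.symm
    exact mul_eq_right.mp this
  exact commutatorElement_eq_one_iff_mul_comm.1 h7

/-- The action of `e` on `X_b X_r / X_r`. -/
theorem e_act [Finite ↥(X r)] (hXr : ∀ z ∈ X r, e * z * e⁻¹ ∈ X r) {b : I → ℤ} (hb : b ∈ Phi1 cs h r) :
    ∃ a, IsRoot cs h a ∧ cpr cs h a r = 0 ∧ cpr cs h b a = 1 ∧ ∃ s ∈ T ⊓ (X a ⊔ X (-a)),
      ∀ v ∈ X b, ∃ z ∈ X r, e * v * e⁻¹ = s * v * s⁻¹ * z := by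
  obtain ⟨a, ha, har, hba, -⟩ := H.sep b (r - b) hb (H.sub_mem hb) (H.sub_ne hb).symm
  refine ⟨a, ha, har, hba, ?_⟩
  have hAa : A2 cs h (-a) b := by
    refine H.sl.a2 ha.neg hb.1 ?_
    rw [cpr_neg_left _ hb.1, H.sl a b ha hb.1, hba]
  obtain ⟨v0, hv0, hv01⟩ := exists_ne R hb.1
  obtain ⟨v0', hv0', z0, hz0, e0⟩ := H.e_pres heP hb hv0
  have hv0'1 : v0' ≠ 1 := by
    rintro rfl
    rw [one_mul] at e0
    -- `e v0 e⁻¹ ∈ X r`, so `v0 ∈ X r`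
    have hinj : Function.Injective (fun z : X r => (⟨e * z.1 * e⁻¹, hXr z.1 z.2⟩ : X r)) := by
      intro z z' hzz
      have h1 : e * z.1 * e⁻¹ = e * z'.1 * e⁻¹ := congrArg Subtype.val hzz
      exact Subtype.ext (mul_left_cancel (mul_right_cancel h1))
    obtain ⟨z, hz⟩ := (Finite.injective_iff_surjective.1 hinj) ⟨z0, hz0⟩
    have h1 : e * z.1 * e⁻¹ = z0 := congrArg Subtype.val hz
    rw [← e0] at h1
    have h2 : z.1 = v0 := mul_left_cancel (mul_right_cancel h1)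
    have h3 : v0 ∈ X b ⊓ X r := ⟨hv0, h2 ▸ z.2⟩
    rw [X_inf_X R hb.1 H.root (H.ne_r hb), Subgroup.mem_bot] at h3
    exact hv01 h3
  obtain ⟨s0, hs0, es0⟩ := tor_trans_pos R hAa hv0 hv01 hv0' hv0'1
  refine ⟨s0, hs0, fun v hv => ?_⟩
  by_cases hv1 : v = 1
  · subst hv1
    exact ⟨1, one_mem _, by group⟩
  obtain ⟨s1, hs1, es1⟩ := tor_trans_pos R hAa hv0 hv01 hv hv1
  have hs1P : s1 ∈ RGD.Sup X (Ge cs h r) := by
    have h1 : a ∈ Ge cs h r := ⟨ha, har.ge⟩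
    have h2 : -a ∈ Ge cs h r := ⟨ha.neg, by rw [cpr_neg_left _ H.root, har, neg_zero]⟩
    exact (sup_le (RGD.le_Sup h1) (RGD.le_Sup h2) : X a ⊔ X (-a) ≤ _) (Subgroup.mem_inf.1 hs1).2
  set q := e * s1 * e⁻¹ * s1⁻¹ with hq
  have hqQ : q ∈ RGD.Sup X (Rad cs h r) := heP s1 hs1P
  have hz : ⁅q, s1 * (v0' * z0) * s1⁻¹⁆ ∈ X r := by
    apply H.br_Q hqQ
    have h1 : v0' * z0 ∈ RGD.Sup X (Rad cs h r) :=
      mul_mem (RGD.le_Sup (H.phi1_rad hb) hv0') (RGD.le_Sup H.r_rad hz0)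
    have h2 : s1 * v0' * s1⁻¹ ∈ X b := tor_mem R hb.1 (Subgroup.mem_inf.1 hs1).1 hv0'
    have h3 : s1 * z0 * s1⁻¹ ∈ X r := tor_mem R H.root (Subgroup.mem_inf.1 hs1).1 hz0
    have h4 : s1 * (v0' * z0) * s1⁻¹ = (s1 * v0' * s1⁻¹) * (s1 * z0 * s1⁻¹) := by group
    rw [h4]
    exact mul_mem (RGD.le_Sup (H.phi1_rad hb) h2) (RGD.le_Sup H.r_rad h3)
  have hcQ : ∀ {q z : Y}, q ∈ RGD.Sup X (Rad cs h r) → z ∈ X r → q * z = z * q :=
    fun hq hz => H.central (H.rad_le_ge hq) hz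
  have hs1T := (Subgroup.mem_inf.1 hs1).1
  have hs0T := (Subgroup.mem_inf.1 hs0).1
  have h3 : s1 * z0 * s1⁻¹ ∈ X r := tor_mem R H.root hs1T hz0
  have h5 : s0 * v * s0⁻¹ ∈ X b := tor_mem R hb.1 hs0T hv
  refine ⟨(s1 * z0 * s1⁻¹) * ⁅q, s1 * (v0' * z0) * s1⁻¹⁆, mul_mem h3 hz, ?_⟩
  have hss := H.tab s0 hs0T s1 hs1T
  have h6 : s1 * v0' * s1⁻¹ = s0 * v * s0⁻¹ := by
    rw [← es0, ← es1]
    calc s1 * (s0 * v0 * s0⁻¹) * s1⁻¹ = (s1 * s0) * v0 * (s1 * s0)⁻¹ := by group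
      _ = (s0 * s1) * v0 * (s0 * s1)⁻¹ := by rw [hss]
      _ = s0 * (s1 * v0 * s1⁻¹) * s0⁻¹ := by group
  have h7 : s1 * (v0' * z0) * s1⁻¹ = s0 * v * s0⁻¹ * (s1 * z0 * s1⁻¹) := by
    rw [← h6]; group
  have h8 : q * (s1 * (v0' * z0) * s1⁻¹) * q⁻¹ = ⁅q, s1 * (v0' * z0) * s1⁻¹⁆ * (s1 * (v0' * z0) * s1⁻¹) := by
    rw [commutatorElement_def]; group
  have h9 : s1 * (v0' * z0) * s1⁻¹ ∈ RGD.Sup X (Rad cs h r) := by
    rw [h7]
    exact mul_mem (RGD.le_Sup (H.phi1_rad hb) h5) (RGD.le_Sup H.r_rad h3)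
  set zc := ⁅q, s1 * (v0' * z0) * s1⁻¹⁆ with hzc
  clear_value zc
  calc e * v * e⁻¹ = (e * s1 * e⁻¹) * (e * v0 * e⁻¹) * (e * s1 * e⁻¹)⁻¹ := by rw [← es1]; group
    _ = (q * s1) * (v0' * z0) * (q * s1)⁻¹ := by
        have : q * s1 = e * s1 * e⁻¹ := by rw [hq]; group
        rw [this, e0]
    _ = q * (s1 * (v0' * z0) * s1⁻¹) * q⁻¹ := by group
    _ = (s1 * (v0' * z0) * s1⁻¹) * zc := by
        rw [h8]
        exact (hcQ h9 hz).symm
    _ = _ := by rw [h7]; group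

/-- **(k4)** -/
theorem k4 [Finite ↥(X r)] [Finite T] (hXr : ∀ z ∈ X r, e * z * e⁻¹ ∈ X r) :
    ∃ t ∈ T ⊓ (X r ⊔ X (-r)), ∀ z ∈ X r, e * z * e⁻¹ = t * z * t⁻¹ := by
  obtain ⟨b, hb⟩ := H.ex
  have hA := H.a2 hb
  have hcQ : ∀ {q z : Y}, q ∈ RGD.Sup X (Rad cs h r) → z ∈ X r → q * z = z * q :=
    fun hq hz => H.central (H.rad_le_ge hq) hz
  obtain ⟨_, _, _, _, s, hs, es⟩ := H.e_act heP hXr hb
  obtain ⟨_, _, _, _, s', hs', es'⟩ := H.e_act heP hXr (H.sub_mem hb)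
  have hsT := (Subgroup.mem_inf.1 hs).1
  have hsT' := (Subgroup.mem_inf.1 hs').1
  -- the action of `e` on `⁅v, w⁆`
  have hact : ∀ v ∈ X b, ∀ w ∈ X (r - b), e * ⁅v, w⁆ * e⁻¹ = ⁅s * v * s⁻¹, s' * w * s'⁻¹⁆ := by
    intro v hv w hw
    obtain ⟨z, hz, e1⟩ := es v hv
    obtain ⟨z', hz', e2⟩ := es' w hw
    have h1 : s * v * s⁻¹ ∈ RGD.Sup X (Rad cs h r) := RGD.le_Sup (H.phi1_rad hb) (tor_mem R hb.1 hsT hv)
    have h2 : s' * w * s'⁻¹ ∈ RGD.Sup X (Rad cs h r) :=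
      RGD.le_Sup (H.phi1_rad (H.sub_mem hb)) (tor_mem R (H.sub_mem hb).1 hsT' hw)
    have e3 : e * ⁅v, w⁆ * e⁻¹ = ⁅e * v * e⁻¹, e * w * e⁻¹⁆ := by simp only [commutatorElement_def]; group
    rw [e3, e1, e2]
    have c1 : Commute z (s' * w * s'⁻¹) := (hcQ h2 hz).symm
    have c2 : Commute z' (s * v * s⁻¹) := (hcQ h1 hz').symm
    have c3 : Commute z z' := (hcQ (RGD.le_Sup H.r_rad hz) hz')
    set a := s * v * s⁻¹
    set c := s' * w * s'⁻¹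
    rw [commutatorElement_def, commutatorElement_def]
    calc a * z * (c * z') * (a * z)⁻¹ * (c * z')⁻¹ = a * (z * (c * z')) * z⁻¹ * a⁻¹ * z'⁻¹ * c⁻¹ := by group
      _ = a * ((c * z') * z) * z⁻¹ * a⁻¹ * z'⁻¹ * c⁻¹ := by rw [(c1.mul_right c3).eq]
      _ = a * c * (z' * a⁻¹) * z'⁻¹ * c⁻¹ := by group
      _ = a * c * (a⁻¹ * z') * z'⁻¹ * c⁻¹ := by rw [(c2.inv_right).eq]
      _ = a * c * a⁻¹ * c⁻¹ := by group
  obtain ⟨z0, hz0, hz01⟩ := exists_ne R H.root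
  obtain ⟨v1, hv1, hv11⟩ := exists_ne R hb.1
  -- `e` commutes with `T` on `X r`
  have hcomm : ∀ t ∈ T, ∀ z ∈ X r, e * (t * z * t⁻¹) * e⁻¹ = t * (e * z * e⁻¹) * t⁻¹ := by
    intro t ht z hz
    obtain ⟨w, hw, rfl⟩ := hA.comm_surj R hv1 hv11 (w := z) (by rwa [add_sub_cancel])
    have h1 : t * ⁅v1, w⁆ * t⁻¹ = ⁅t * v1 * t⁻¹, t * w * t⁻¹⁆ := by simp only [commutatorElement_def]; group
    rw [h1, hact _ (tor_mem R hb.1 ht hv1) _ (tor_mem R (H.sub_mem hb).1 ht hw), hact v1 hv1 w hw]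
    have h2 := H.tab s hsT t ht
    have h3 := H.tab s' hsT' t ht
    have e1 : s * (t * v1 * t⁻¹) * s⁻¹ = t * (s * v1 * s⁻¹) * t⁻¹ := by
      calc s * (t * v1 * t⁻¹) * s⁻¹ = (s * t) * v1 * (s * t)⁻¹ := by group
        _ = _ := by rw [h2]; group
    have e2 : s' * (t * w * t⁻¹) * s'⁻¹ = t * (s' * w * s'⁻¹) * t⁻¹ := by
      calc s' * (t * w * t⁻¹) * s'⁻¹ = (s' * t) * w * (s' * t)⁻¹ := by group
        _ = _ := by rw [h3]; group
    rw [e1, e2]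
    simp only [commutatorElement_def]; group
  have hA' : A2 cs h r (-b) := by
    refine H.sl.a2 H.root hb.1.neg ?_
    rw [cpr_neg_right cs h _ hb.1, H.sl r b H.root hb.1, hb.2]
  have he0 : e * z0 * e⁻¹ ≠ 1 := by
    intro h0
    apply hz01
    calc z0 = e⁻¹ * (e * z0 * e⁻¹) * e := by group
      _ = 1 := by rw [h0]; group
  obtain ⟨t, ht, et⟩ := tor_self hA' R H.tab hz0 hz01 (hXr z0 hz0) he0
  have htT := (Subgroup.mem_inf.1 ht).1
  refine ⟨t, ht, fun z hz => ?_⟩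
  by_cases hz1 : z = 1
  · subst hz1; group
  obtain ⟨k, hk, rfl⟩ := tor_self hA' R H.tab hz0 hz01 hz hz1
  have hkT := (Subgroup.mem_inf.1 hk).1
  rw [hcomm k hkT z0 hz0, ← et]
  have h1 := H.tab t htT k hkT
  calc k * (t * z0 * t⁻¹) * k⁻¹ = (k * t) * z0 * (k * t)⁻¹ := by group
    _ = (t * k) * z0 * (t * k)⁻¹ := by rw [h1]
    _ = _ := by group

end Aut

/-- `Q` is normal in `P` -/
theorem QN {p q : Y} (hp : p ∈ RGD.Sup X (Ge cs h r)) (hq : q ∈ RGD.Sup X (Rad cs h r)) :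
    p * q * p⁻¹ ∈ RGD.Sup X (Rad cs h r) := by
  have key : ∀ a ∈ Ge cs h r, ∀ u ∈ X a, ∀ q ∈ RGD.Sup X (Rad cs h r), u * q * u⁻¹ ∈ RGD.Sup X (Rad cs h r) := by
    intro a ha u hu
    suffices h1 : RGD.Sup X (Rad cs h r) ≤ (RGD.Sup X (Rad cs h r)).comap (MulAut.conj u).toMonoidHom from
      fun q hq => h1 hq
    refine RGD.Sup_le fun b hb => ?_
    intro v hv
    rw [Subgroup.mem_comap]
    show u * v * u⁻¹ ∈ RGD.Sup X (Rad cs h r)
    have hvQ : v ∈ RGD.Sup X (Rad cs h r) := RGD.le_Sup hb hv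
    have huP : u ∈ RGD.Sup X (Ge cs h r) := RGD.le_Sup ha hu
    rcases H.rad_cases hb with rfl | hb'
    · have : u * v * u⁻¹ = v := by rw [H.central huP hv]; group
      rwa [this]
    by_cases h0 : 0 ≤ cpr cs h a b
    · have : u * v * u⁻¹ = v := by rw [(H.lr b hb.1).comm a ha.1 h0 u hu v hv]; group
      rwa [this]
    push Not at h0
    have h1 : cpr cs h a b = -1 := by
      rcases H.sl.cases ha.1 hb.1 with h2 | h2 | h2
      · omega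
      · exfalso
        have h3 := ha.2
        rw [h2.1, cpr_neg_left _ H.root, hb'.2] at h3
        omega
      · omega
    have h2 := (H.sl.a2 ha.1 hb.1 h1).comm_mem R hu hv
    have h3 : a + b ∈ Rad cs h r :=
      ⟨isRoot_add ha.1 hb.1 h1, by rw [cpr_add cs h _ _ H.root]; have := ha.2; have := hb.2; omega⟩
    have h4 : u * v * u⁻¹ = ⁅u, v⁆ * v := by rw [commutatorElement_def]; group
    rw [h4]
    exact mul_mem (RGD.le_Sup h3 h2) hvQ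
  let L : Subgroup Y :=
    { carrier := {p | (∀ q ∈ RGD.Sup X (Rad cs h r), p * q * p⁻¹ ∈ RGD.Sup X (Rad cs h r)) ∧
        ∀ q ∈ RGD.Sup X (Rad cs h r), p⁻¹ * q * p ∈ RGD.Sup X (Rad cs h r)}
      one_mem' := ⟨fun q hq => by simpa using hq, fun q hq => by simpa using hq⟩
      mul_mem' := by
        rintro x y ⟨hx, hx'⟩ ⟨hy, hy'⟩
        refine ⟨fun q hq => ?_, fun q hq => ?_⟩
        · have : x * y * q * (x * y)⁻¹ = x * (y * q * y⁻¹) * x⁻¹ := by group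
          rw [this]; exact hx _ (hy _ hq)
        · have : (x * y)⁻¹ * q * (x * y) = y⁻¹ * (x⁻¹ * q * x) * y := by group
          rw [this]; exact hy' _ (hx' _ hq)
      inv_mem' := by
        rintro x ⟨hx, hx'⟩
        exact ⟨fun q hq => by rw [inv_inv]; exact hx' q hq, fun q hq => by rw [inv_inv]; exact hx q hq⟩ }
  have hL : RGD.Sup X (Ge cs h r) ≤ L := by
    refine RGD.Sup_le fun a ha => ?_
    intro u hu
    refine ⟨fun q hq => key a ha u hu q hq, fun q hq => ?_⟩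
    have := key a ha u⁻¹ (inv_mem hu) q hq
    rwa [inv_inv] at this
  exact (hL hp).1 q hq

omit H in
/-- a fixed point free automorphism of a finite abelian group -/
theorem surj_comm {V : Subgroup Y} [Finite ↥V] (hV : ∀ u ∈ V, ∀ v ∈ V, u * v = v * u) {k : Y}
    (hk : ∀ v ∈ V, k * v * k⁻¹ ∈ V) (hf : ∀ v ∈ V, k * v * k⁻¹ = v → v = 1) {u : Y} (hu : u ∈ V) :
    ∃ v ∈ V, k * v * k⁻¹ * v⁻¹ = u := by
  have hinj : Function.Injective (fun v : V => (⟨k * v.1 * k⁻¹ * v.1⁻¹, mul_mem (hk v.1 v.2) (inv_mem v.2)⟩ : V)) := by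
    intro v w hvw
    have h1 : k * v.1 * k⁻¹ * v.1⁻¹ = k * w.1 * k⁻¹ * w.1⁻¹ := congrArg Subtype.val hvw
    have h2 : v.1 * w.1⁻¹ = 1 := by
      refine hf _ (mul_mem v.2 (inv_mem w.2)) ?_
      have h3 := hV _ (hk w.1 w.2) _ (inv_mem w.2)
      have h4 := hV _ (inv_mem v.2) _ (inv_mem (hk w.1 w.2))
      calc k * (v.1 * w.1⁻¹) * k⁻¹ = (k * v.1 * k⁻¹ * v.1⁻¹) * v.1 * (k * w.1 * k⁻¹)⁻¹ := by group
        _ = (k * w.1 * k⁻¹ * w.1⁻¹) * v.1 * (k * w.1 * k⁻¹)⁻¹ := by rw [h1]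
        _ = (w.1⁻¹ * (k * w.1 * k⁻¹)) * v.1 * (k * w.1 * k⁻¹)⁻¹ := by rw [h3]
        _ = w.1⁻¹ * ((k * w.1 * k⁻¹) * v.1) * (k * w.1 * k⁻¹)⁻¹ := by group
        _ = w.1⁻¹ * (v.1 * (k * w.1 * k⁻¹)) * (k * w.1 * k⁻¹)⁻¹ := by rw [hV _ (hk w.1 w.2) _ v.2]
        _ = w.1⁻¹ * v.1 := by group
        _ = v.1 * w.1⁻¹ := (hV _ v.2 _ (inv_mem w.2)).symm
    exact Subtype.ext (by
      calc v.1 = (v.1 * w.1⁻¹) * w.1 := by group
        _ = w.1 := by rw [h2, one_mul])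
  obtain ⟨v, hv⟩ := (Finite.injective_iff_surjective.1 hinj) ⟨u, hu⟩
  exact ⟨v.1, v.2, congrArg Subtype.val hv⟩

theorem phi1_comm_self {b : I → ℤ} (hb : b ∈ Phi1 cs h r) {u v : Y} (hu : u ∈ X b) (hv : v ∈ X b) : u * v = v * u :=
  H.comm1 hb hb (H.sub_ne hb).symm hu hv

theorem phi1_sq {b : I → ℤ} (hb : b ∈ Phi1 cs h r) {u : Y} (hu : u ∈ X b) : u * u = 1 := sq_x (H.a2 hb) R hu

theorem r_sq {u : Y} (hu : u ∈ X r) : u * u = 1 := by
  obtain ⟨b, hb⟩ := H.ex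
  have hA' : A2 cs h r (-b) := by
    refine H.sl.a2 H.root hb.1.neg ?_
    rw [cpr_neg_right cs h _ hb.1, H.sl r b H.root hb.1, hb.2]
  exact sq_x hA' R hu

section B

variable {y : Y} (hyP : ∀ p ∈ RGD.Sup X (Ge cs h r), y * p * y⁻¹ * p⁻¹ ∈ RGD.Sup X (Rad cs h r))
  (hyX : ∀ z ∈ X r, y * z = z * y) {N : ℕ} (hy2 : y ^ 2 ^ N = 1)

include hyP hyX hy2

/-- (B1) -/
theorem y_triv [Finite ↥(X r)] {b : I → ℤ} (hb : b ∈ Phi1 cs h r) {v : Y} (hv : v ∈ X b) : ⁅y, v⁆ ∈ X r := by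
  have hXr : ∀ z ∈ X r, y * z * y⁻¹ ∈ X r := fun z hz => by
    have : y * z * y⁻¹ = z := by rw [hyX z hz]; group
    rwa [this]
  obtain ⟨a, ha, har, hba, s, hs, es⟩ := H.e_act hyP hXr hb
  have hsT := (Subgroup.mem_inf.1 hs).1
  have hcQ : ∀ {q z : Y}, q ∈ RGD.Sup X (Rad cs h r) → z ∈ X r → q * z = z * q :=
    fun hq hz => H.central (H.rad_le_ge hq) hz
  have key : ∀ k : ℕ, ∃ z ∈ X r, y ^ k * v * (y ^ k)⁻¹ = s ^ k * v * (s ^ k)⁻¹ * z := by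
    intro k
    induction k with
    | zero => exact ⟨1, one_mem _, by simp⟩
    | succ k ih =>
      obtain ⟨z, hz, e1⟩ := ih
      have h1 : s ^ k * v * (s ^ k)⁻¹ ∈ X b := tor_mem R hb.1 (pow_mem hsT k) hv
      obtain ⟨z', hz', e2⟩ := es _ h1
      refine ⟨z' * z, mul_mem hz' hz, ?_⟩
      calc y ^ (k + 1) * v * (y ^ (k + 1))⁻¹ = y * (y ^ k * v * (y ^ k)⁻¹) * y⁻¹ := by
            rw [pow_succ']; group
        _ = (y * (s ^ k * v * (s ^ k)⁻¹) * y⁻¹) * (y * z * y⁻¹) := by rw [e1]; group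
        _ = (y * (s ^ k * v * (s ^ k)⁻¹) * y⁻¹) * z := by
            have : y * z * y⁻¹ = z := by rw [hyX z hz]; group
            rw [this]
        _ = s * (s ^ k * v * (s ^ k)⁻¹) * s⁻¹ * (z' * z) := by rw [e2]; group
        _ = _ := by rw [pow_succ']; group
  obtain ⟨z, hz, e1⟩ := key (2 ^ N)
  rw [hy2, one_mul, inv_one, mul_one] at e1
  have h1 : s ^ 2 ^ N * v * (s ^ 2 ^ N)⁻¹ ∈ X b := tor_mem R hb.1 (pow_mem hsT _) hv
  have h2 : z = 1 := by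
    have h3 : z ∈ X b ⊓ X r := by
      refine ⟨?_, hz⟩
      have h4 : z = (s ^ 2 ^ N * v * (s ^ 2 ^ N)⁻¹)⁻¹ * v := by
        calc z = (s ^ 2 ^ N * v * (s ^ 2 ^ N)⁻¹)⁻¹ * (s ^ 2 ^ N * v * (s ^ 2 ^ N)⁻¹ * z) := by group
          _ = _ := by rw [← e1]
      rw [h4]
      exact (X b).mul_mem ((X b).inv_mem h1) hv
    rwa [X_inf_X R hb.1 H.root (H.ne_r hb), Subgroup.mem_bot] at h3
  rw [h2, mul_one] at e1
  -- `s` commutes with `v`
  have h3 : Commute (s ^ 2 ^ N) v := by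
    show s ^ 2 ^ N * v = v * s ^ 2 ^ N
    calc s ^ 2 ^ N * v = (s ^ 2 ^ N * v * (s ^ 2 ^ N)⁻¹) * s ^ 2 ^ N := by group
      _ = v * s ^ 2 ^ N := by rw [← e1]
  have h4 : Commute s v := by
    have hcop : (orderOf s).Coprime (2 ^ N) := by
      have h5 : orderOf s ∣ Nat.card T := Subgroup.orderOf_dvd_natCard T hsT
      exact (Nat.Coprime.pow_right N (Nat.Coprime.coprime_dvd_left h5 R.tcop))
    have h5 : s ∈ Subgroup.zpowers (s ^ 2 ^ N) := by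
      have h6 := (Nat.Coprime.symm hcop)
      obtain ⟨m, hm⟩ := exists_pow_eq_self_of_coprime h6
      exact Subgroup.mem_zpowers_iff.2 ⟨m, by rw [zpow_natCast]; exact hm⟩
    obtain ⟨m, hm⟩ := h5
    have : s = (s ^ 2 ^ N) ^ m := hm.symm
    rw [this]
    exact h3.zpow_left m
  obtain ⟨z', hz', e2⟩ := es v hv
  have h5 : s * v * s⁻¹ = v := by rw [h4.eq]; group
  rw [h5] at e2
  have h6 : ⁅y, v⁆ = v * z' * v⁻¹ := by rw [commutatorElement_def, e2]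
  rw [h6, hcQ (RGD.le_Sup (H.phi1_rad hb) hv) hz', mul_assoc, mul_inv_cancel, mul_one]
  exact hz'

/-- the homomorphism `v ↦ ⁅y, v⁆` on `X b` -/
theorem xi_mul [Finite ↥(X r)] {b : I → ℤ} (hb : b ∈ Phi1 cs h r) {v w : Y} (hv : v ∈ X b) (hw : w ∈ X b) :
    ⁅y, v * w⁆ = ⁅y, v⁆ * ⁅y, w⁆ := by
  have h1 := H.y_triv hyP hyX hy2 hb hw
  have h2 : v * ⁅y, w⁆ = ⁅y, w⁆ * v := H.central (RGD.le_Sup (H.phi1_ge hb) hv) h1
  have h3 : ⁅y, v * w⁆ = ⁅y, v⁆ * (v * ⁅y, w⁆ * v⁻¹) := by simp only [commutatorElement_def]; group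
  rw [h3, h2]; group

/-- (B2), (B3) : on `X b` the element `y` acts as an element of `X (r - b)`. -/
theorem exists_c [Finite T] (hfin : ∀ b, IsRoot cs h b → Finite ↥(X b))
    (hq : ∀ b, IsRoot cs h b → ∃ u ∈ X b, ∃ v ∈ X b, u ≠ 1 ∧ v ≠ 1 ∧ u ≠ v) {b : I → ℤ} (hb : b ∈ Phi1 cs h r) :
    ∃ c ∈ X (r - b), ∀ v ∈ X b, ⁅y, v⁆ = ⁅c, v⁆ := by
  have := hfin r H.root
  have := hfin b hb.1
  have := hfin _ (H.sub_mem hb).1
  have hcQ : ∀ {q z : Y}, q ∈ RGD.Sup X (Rad cs h r) → z ∈ X r → q * z = z * q :=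
    fun hq hz => H.central (H.rad_le_ge hq) hz
  have hb' := H.sub_mem hb
  obtain ⟨a, ha, har, hba, -⟩ := H.sep b (r - b) hb hb' (H.sub_ne hb).symm
  have hAa : A2 cs h (-a) b := by
    refine H.sl.a2 ha.neg hb.1 ?_
    rw [cpr_neg_left _ hb.1, H.sl a b ha hb.1, hba]
  have hAa' : A2 cs h a (r - b) := by
    refine H.sl.a2 ha hb'.1 ?_
    rw [H.sl a _ ha hb'.1, cpr_sub_left H.sl H.root H.root ha, H.sl r a H.root ha, har, hba]; norm_num
  obtain ⟨v1, hv1, v2, hv2, h11, h21, h12⟩ := hq b hb.1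
  obtain ⟨k, hk, ek⟩ := tor_trans_pos R hAa hv1 h11 hv2 h21
  have hkT := (Subgroup.mem_inf.1 hk).1
  have hkP : k ∈ RGD.Sup X (Ge cs h r) := by
    have h1 : a ∈ Ge cs h r := ⟨ha, har.ge⟩
    have h2 : -a ∈ Ge cs h r := ⟨ha.neg, by rw [cpr_neg_left _ H.root, har, neg_zero]⟩
    exact (sup_le (RGD.le_Sup h1) (RGD.le_Sup h2) : X a ⊔ X (-a) ≤ _) (Subgroup.mem_inf.1 hk).2
  have hkr : ∀ z ∈ X r, k * z * k⁻¹ = z := fun z hz => by rw [H.central hkP hz]; group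
  have hkb : ∀ v ∈ X b, k * v * k⁻¹ ∈ X b := fun v hv => tor_mem R hb.1 hkT hv
  have hkb' : ∀ v ∈ X (r - b), k * v * k⁻¹ ∈ X (r - b) := fun v hv => tor_mem R hb'.1 hkT hv
  have hkb'' : ∀ v ∈ X (r - b), k⁻¹ * v * k ∈ X (r - b) := fun v hv => by
    have := tor_mem R hb'.1 (inv_mem hkT) hv
    rwa [inv_inv] at this
  -- `k` has no fixed points on `X b`
  have hf : ∀ v ∈ X b, k * v * k⁻¹ = v → v = 1 := by
    intro v hv he
    by_contra hv1'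
    apply h12
    have h3 := eq_of_trans (T := T) (S := {v | v ∈ X b ∧ v ≠ 1}) H.tab (fun v hv v' hv' => by
      obtain ⟨t, ht, et⟩ := tor_trans_pos R hAa hv.1 hv.2 hv'.1 hv'.2
      exact ⟨t, (Subgroup.mem_inf.1 ht).1, et⟩) (s := k) (t := 1) (v0 := v) (v := v1) hkT (one_mem _)
      ⟨hv, hv1'⟩ ⟨hv1, h11⟩ (by rw [he]; group)
    rw [ek] at h3
    rw [h3]; group
  -- `k` has no fixed points on `X (r - b)`
  have hf' : ∀ c ∈ X (r - b), k * c * k⁻¹ = c → c = 1 := by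
    intro c hc he
    by_contra hc1
    apply h12
    rw [← ek]
    have h3 : ⁅c, k * v1 * k⁻¹⁆ = ⁅c, v1⁆ := by
      have h4 : ⁅k * c * k⁻¹, k * v1 * k⁻¹⁆ = k * ⁅c, v1⁆ * k⁻¹ := by
        simp only [commutatorElement_def]; group
      rw [he] at h4
      rw [h4]
      refine hkr _ ?_
      have := (H.a2 hb).symm.comm_mem R hc hv1
      rwa [sub_add_cancel] at this
    exact ((H.a2 hb).symm.comm_inj R hc hc1 hv1 (hkb v1 hv1) h3.symm)
  -- the element `q`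
  set q := y * k * y⁻¹ * k⁻¹ with hqd
  have hqQ : q ∈ RGD.Sup X (Rad cs h r) := hyP k hkP
  have hqQ' := hqQ
  rw [H.rad_eq] at hqQ'
  obtain ⟨c', hc', q', hq', e1⟩ := H.QS_split (le_refl _) hb' hqQ'
  have hqc : ∀ v ∈ X b, ⁅q, v⁆ = ⁅c', v⁆ := by
    intro v hv
    have h1 : q' * v = v * q' := by
      refine H.QS_comm (fun x hx => hx.1) hb ?_ hq' hv
      exact fun h0 => h0.2 rfl
    rw [e1, commutatorElement_def, commutatorElement_def]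
    calc c' * q' * v * (c' * q')⁻¹ * v⁻¹ = c' * (q' * v) * q'⁻¹ * c'⁻¹ * v⁻¹ := by group
      _ = _ := by rw [h1]; group
  -- choose `c`
  have hkinv : ∀ v ∈ X (r - b), k⁻¹ * v * k⁻¹⁻¹ ∈ X (r - b) := fun v hv => by
    rw [inv_inv]; exact hkb'' v hv
  obtain ⟨c, hc, ec⟩ := surj_comm (V := X (r - b)) (fun u hu v hv => H.phi1_comm_self hb' hu hv) hkinv
    (fun v hv he => by
      refine hf' v hv ?_
      calc k * v * k⁻¹ = k * (k⁻¹ * v * k⁻¹⁻¹) * k⁻¹ := by rw [he]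
        _ = v := by group) (hkb'' c' hc')
  refine ⟨c, hc, fun u hu => ?_⟩
  obtain ⟨v, hv, rfl⟩ := surj_comm (fun u hu v hv => H.phi1_comm_self hb hu hv) hkb hf hu
  have hvi : v⁻¹ = v := inv_eq_of_mul_eq_one_right (H.phi1_sq hb hv)
  have hci : c⁻¹ = c := inv_eq_of_mul_eq_one_right (H.phi1_sq hb' hc)
  have hbr : ∀ {c v : Y}, c ∈ X (r - b) → v ∈ X b → ⁅c, v⁆ ∈ X r := fun hc hv => by
    have := (H.a2 hb).symm.comm_mem R hc hv
    rwa [sub_add_cancel] at this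
  have hinv : ⁅y, v⁻¹⁆ = ⁅y, v⁆⁻¹ := by
    have h1 := H.xi_mul hyP hyX hy2 hb hv (inv_mem hv)
    rw [mul_inv_cancel] at h1
    have h2 : ⁅y, (1 : Y)⁆ = 1 := by simp [commutatorElement_def]
    rw [h2] at h1
    exact (eq_inv_of_mul_eq_one_right h1.symm)
  -- left hand side
  have hL : ⁅y, k * v * k⁻¹⁆ = ⁅y, v⁆ * ⁅q, k * v * k⁻¹⁆ := by
    have h1 := H.y_triv hyP hyX hy2 hb hv
    have h2 : k * ⁅y, v⁆ * k⁻¹ = ⁅y, v⁆ := hkr _ h1
    have h3 : q * ⁅y, v⁆ = ⁅y, v⁆ * q := hcQ hqQ h1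
    have h4 : y * k = q * k * y := by rw [hqd]; group
    have h5 : y * k * v * k⁻¹ * y⁻¹ = ⁅y, v⁆ * (q * (k * v * k⁻¹) * q⁻¹) := by
      calc y * k * v * k⁻¹ * y⁻¹ = (y * k) * v * (y * k)⁻¹ := by group
        _ = q * (k * (y * v * y⁻¹) * k⁻¹) * q⁻¹ := by rw [h4]; group
        _ = q * (k * (⁅y, v⁆ * v) * k⁻¹) * q⁻¹ := by rw [commutatorElement_def]; group
        _ = q * ((k * ⁅y, v⁆ * k⁻¹) * (k * v * k⁻¹)) * q⁻¹ := by group
        _ = (q * ⁅y, v⁆) * (k * v * k⁻¹) * q⁻¹ := by rw [h2]; group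
        _ = _ := by rw [h3]; group
    calc ⁅y, k * v * k⁻¹⁆ = (y * k * v * k⁻¹ * y⁻¹) * (k * v * k⁻¹)⁻¹ := by
          rw [commutatorElement_def]; group
      _ = _ := by rw [h5, commutatorElement_def q]; group
  have hL2 : ⁅y, k * v * k⁻¹ * v⁻¹⁆ = ⁅c', k * v * k⁻¹⁆ := by
    rw [H.xi_mul hyP hyX hy2 hb (hkb v hv) (inv_mem hv), hinv, hL, hqc _ (hkb v hv)]
    have h1 := H.y_triv hyP hyX hy2 hb hv
    have h2 := hcQ (RGD.le_Sup H.r_rad h1) (hbr hc' (hkb v hv))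
    rw [h2]; group
  -- right hand side
  have hR : ⁅c, k * v * k⁻¹ * v⁻¹⁆ = ⁅c, k * v * k⁻¹⁆ * ⁅c, v⁆ := by
    rw [hvi, (H.a2 hb).symm.comm_mul R hc (hkb v hv) hv]
  have hR2 : ⁅c, k * v * k⁻¹⁆ = ⁅k⁻¹ * c * k, v⁆ := by
    have h1 : ⁅c, k * v * k⁻¹⁆ = k * ⁅k⁻¹ * c * k, v⁆ * k⁻¹ := by simp only [commutatorElement_def]; group
    rw [h1]
    exact hkr _ (hbr (hkb'' c hc) hv)
  have hR3 : ⁅c', k * v * k⁻¹⁆ = ⁅k⁻¹ * c' * k, v⁆ := by
    have h1 : ⁅c', k * v * k⁻¹⁆ = k * ⁅k⁻¹ * c' * k, v⁆ * k⁻¹ := by simp only [commutatorElement_def]; group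
    rw [h1]
    exact hkr _ (hbr (hkb'' c' hc') hv)
  rw [hL2, hR, hR2, hR3, ← ec, hci, inv_inv]
  -- `⁅k⁻¹ c k * c, v⁆ = ⁅k⁻¹ c k, v⁆ ⁅c, v⁆`
  set d := k⁻¹ * c * k with hd
  have hdm : d ∈ X (r - b) := hkb'' c hc
  have h1 : ⁅d * c, v⁆ = (d * ⁅c, v⁆ * d⁻¹) * ⁅d, v⁆ := by simp only [commutatorElement_def]; group
  have h2 : d * ⁅c, v⁆ = ⁅c, v⁆ * d := hcQ (RGD.le_Sup (H.phi1_rad hb') hdm) (hbr hc hv)
  rw [h1, h2]
  have h3 : ⁅c, v⁆ * ⁅d, v⁆ = ⁅d, v⁆ * ⁅c, v⁆ :=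
    hcQ (RGD.le_Sup H.r_rad (hbr hc hv)) (hbr hdm hv)
  rw [mul_inv_cancel_right, h3]

/-- (B4) -/
theorem exists_q [Finite T] (hfin : ∀ b, IsRoot cs h b → Finite ↥(X b))
    (hq : ∀ b, IsRoot cs h b → ∃ u ∈ X b, ∃ v ∈ X b, u ≠ 1 ∧ v ≠ 1 ∧ u ≠ v) :
    ∃ q ∈ RGD.Sup X (Rad cs h r), ∀ b ∈ Phi1 cs h r, ∀ v ∈ X b, ⁅q, v⁆ = ⁅y, v⁆ := by
  classical
  have := hfin r H.root
  have hcQ : ∀ {q z : Y}, q ∈ RGD.Sup X (Rad cs h r) → z ∈ X r → q * z = z * q :=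
    fun hq hz => H.central (H.rad_le_ge hq) hz
  have key : ∀ D : Finset (I → ℤ), (∀ b ∈ D, b ∈ Phi1 cs h r) → ∃ q ∈ RGD.Sup X (Rad cs h r),
      (∀ b ∈ D, ∀ v ∈ X b, ⁅q, v⁆ = ⁅y, v⁆) ∧ ∀ b ∈ Phi1 cs h r, b ∉ D → ∀ v ∈ X b, ⁅q, v⁆ = 1 := by
    intro D
    induction D using Finset.induction_on with
    | empty =>
      intro _
      exact ⟨1, one_mem _, fun b hb => absurd hb (Finset.notMem_empty b), fun b _ _ v _ => by
        simp [commutatorElement_def]⟩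
    | insert b D hbD ih =>
      intro hD
      obtain ⟨q, hq1, h1, h2⟩ := ih fun x hx => hD x (Finset.mem_insert_of_mem hx)
      have hb := hD b (Finset.mem_insert_self _ _)
      obtain ⟨c, hc, ec⟩ := H.exists_c hyP hyX hy2 hfin hq hb
      have hcm : c ∈ RGD.Sup X (Rad cs h r) := RGD.le_Sup (H.phi1_rad (H.sub_mem hb)) hc
      have hmul : ∀ b' ∈ Phi1 cs h r, ∀ v ∈ X b', ⁅c * q, v⁆ = ⁅q, v⁆ * ⁅c, v⁆ := by
        intro b' hb' v hv
        have h3 : ⁅q, v⁆ ∈ X r := H.br_Q hq1 (RGD.le_Sup (H.phi1_rad hb') hv)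
        have h4 : ⁅c * q, v⁆ = (c * ⁅q, v⁆ * c⁻¹) * ⁅c, v⁆ := by simp only [commutatorElement_def]; group
        rw [h4, hcQ hcm h3]; group
      have hc1 : ∀ b' ∈ Phi1 cs h r, b' ≠ b → ∀ v ∈ X b', ⁅c, v⁆ = 1 := by
        intro b' hb' hne v hv
        rw [commutatorElement_eq_one_iff_mul_comm]
        exact H.comm1 (H.sub_mem hb) hb' (by rwa [sub_sub_cancel]) hc hv
      refine ⟨c * q, mul_mem hcm hq1, ?_, ?_⟩
      · intro b' hb' v hv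
        have hb1 := hD b' hb'
        rw [hmul b' hb1 v hv]
        by_cases hbb : b' = b
        · subst hbb
          rw [h2 b' hb hbD v hv, one_mul, ec v hv]
        · rw [h1 b' (Finset.mem_of_mem_insert_of_ne hb' hbb) v hv, hc1 b' hb1 hbb v hv, mul_one]
      · intro b' hb' hn v hv
        rw [Finset.mem_insert, not_or] at hn
        rw [hmul b' hb' v hv, h2 b' hb' hn.2 v hv, one_mul, hc1 b' hb' hn.1 v hv]
  obtain ⟨q, hq1, h1, -⟩ := key (finite_phi1 (cs := cs) (h := h) (r := r)).toFinset fun b hb => by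
    rwa [Set.Finite.mem_toFinset] at hb
  exact ⟨q, hq1, fun b hb v hv => h1 b (by rwa [Set.Finite.mem_toFinset]) v hv⟩

/-- **(B)** -/
theorem B [Finite T] (hfin : ∀ b, IsRoot cs h b → Finite ↥(X b))
    (hq : ∀ b, IsRoot cs h b → ∃ u ∈ X b, ∃ v ∈ X b, u ≠ 1 ∧ v ≠ 1 ∧ u ≠ v) :
    ∃ q ∈ RGD.Sup X (Rad cs h r), ∀ p ∈ RGD.Sup X (Ge cs h r), y * p * y⁻¹ = q * p * q⁻¹ := by
  obtain ⟨q, hqQ, hq1⟩ := H.exists_q hyP hyX hy2 hfin hq
  refine ⟨q, hqQ, ?_⟩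
  have hcQ : ∀ {q z : Y}, q ∈ RGD.Sup X (Rad cs h r) → z ∈ X r → q * z = z * q :=
    fun hq hz => H.central (H.rad_le_ge hq) hz
  set y' := q⁻¹ * y with hy'
  -- `y'` centralises `Q`
  have h1 : ∀ b ∈ Rad cs h r, ∀ v ∈ X b, y' * v = v * y' := by
    intro b hb v hv
    rcases H.rad_cases hb with rfl | hb'
    · rw [hy', mul_assoc, hyX v hv, ← mul_assoc, hcQ (inv_mem hqQ) hv, mul_assoc]
    · have h2 := hq1 b hb' v hv
      rw [commutatorElement_def, commutatorElement_def] at h2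
      have h3 : q * v * q⁻¹ = y * v * y⁻¹ := mul_right_cancel h2
      calc y' * v = q⁻¹ * (y * v * y⁻¹) * y := by rw [hy']; group
        _ = v * y' := by rw [← h3, hy']; group
  have h2 : ∀ w ∈ RGD.Sup X (Rad cs h r), y' * w = w * y' := by
    have h3 : RGD.Sup X (Rad cs h r) ≤ Subgroup.centralizer {y'} := by
      refine RGD.Sup_le fun b hb v hv => ?_
      rw [Subgroup.mem_centralizer_singleton_iff]
      exact (h1 b hb v hv).symm
    intro w hw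
    exact (Subgroup.mem_centralizer_singleton_iff.1 (h3 hw)).symm
  -- `[y', p] ∈ X r`
  have h3 : ∀ p ∈ RGD.Sup X (Ge cs h r), y' * p * y'⁻¹ * p⁻¹ ∈ X r := by
    intro p hp
    have h4 : y' * p * y'⁻¹ * p⁻¹ ∈ RGD.Sup X (Rad cs h r) := by
      have h5 : y' * p * y'⁻¹ * p⁻¹ = q⁻¹ * (y * p * y⁻¹ * p⁻¹) * (p * q * p⁻¹) := by rw [hy']; group
      rw [h5]
      exact mul_mem (mul_mem (inv_mem hqQ) (hyP p hp)) (H.QN hp hqQ)
    have h5 := H.mem_QS (S := ∅) (Set.empty_subset _) h4 (fun c hc _ w hw => by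
      have hwQ : w ∈ RGD.Sup X (Rad cs h r) := RGD.le_Sup (H.phi1_rad (H.sub_mem hc)) hw
      have h6 : p⁻¹ * w * p ∈ RGD.Sup X (Rad cs h r) := by
        have := H.QN (inv_mem hp) hwQ
        rwa [inv_inv] at this
      have h7 := h2 _ h6
      have h8 := h2 _ hwQ
      calc y' * p * y'⁻¹ * p⁻¹ * w = y' * p * (y'⁻¹ * (p⁻¹ * w * p)) * p⁻¹ := by group
        _ = y' * p * ((p⁻¹ * w * p) * y'⁻¹) * p⁻¹ := by
            have : y'⁻¹ * (p⁻¹ * w * p) = (p⁻¹ * w * p) * y'⁻¹ := (Commute.inv_left h7).eq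
            rw [this]
        _ = (y' * w) * (p * y'⁻¹ * p⁻¹) := by group
        _ = w * (y' * p * y'⁻¹ * p⁻¹) := by rw [h8]; group)
    exact (sup_le (RGD.Sup_le fun x hx => absurd hx (Set.notMem_empty x)) le_rfl : QS X r ∅ ≤ X r) h5
  -- `y'` centralises `P`
  have hP : ∀ {p z : Y}, p ∈ RGD.Sup X (Ge cs h r) → z ∈ X r → p * z = z * p := fun hp hz => H.central hp hz
  have h4 : ∀ a ∈ Ge cs h r, ∀ u ∈ X a, y' * u = u * y' := by
    intro a ha u hu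
    by_cases ha1 : 1 ≤ cpr cs h a r
    · exact h1 a ⟨ha.1, ha1⟩ u hu
    have har : cpr cs h a r = 0 := by have := ha.2; omega
    -- a root at 60 degrees to `a`
    obtain ⟨b, hb, hab⟩ := H.nb a ha.1
    have hA : A2 cs h a (-b) := by
      refine H.sl.a2 ha.1 hb.neg ?_
      rw [cpr_neg_right cs h _ hb, hab]
    have := hfin a ha.1
    obtain ⟨u1, hu1, u2, hu2, h11, h21, h12⟩ := hq a ha.1
    obtain ⟨k, hk, ek⟩ := tor_self hA R H.tab hu1 h11 hu2 h21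
    have hkT := (Subgroup.mem_inf.1 hk).1
    have hkP : k ∈ RGD.Sup X (Ge cs h r) := by
      have h2 : -a ∈ Ge cs h r := ⟨ha.1.neg, by rw [cpr_neg_left _ H.root, har, neg_zero]⟩
      exact (sup_le (RGD.le_Sup ha) (RGD.le_Sup h2) : X a ⊔ X (-a) ≤ _) (Subgroup.mem_inf.1 hk).2
    have hka : ∀ v ∈ X a, k * v * k⁻¹ ∈ X a := fun v hv => tor_mem R ha.1 hkT hv
    have hcomm : ∀ u ∈ X a, ∀ v ∈ X a, u * v = v * u := fun u hu v hv =>
      (H.lr a ha.1).comm a ha.1 (by rw [cpr_self cs h ha.1]; norm_num) u hu v hv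
    have hf : ∀ v ∈ X a, k * v * k⁻¹ = v → v = 1 := by
      intro v hv he
      by_contra hv1'
      apply h12
      have h3 := eq_of_trans (T := T) (S := {v | v ∈ X a ∧ v ≠ 1}) H.tab (fun v hv v' hv' => by
        obtain ⟨t, ht, et⟩ := tor_self hA R H.tab hv.1 hv.2 hv'.1 hv'.2
        exact ⟨t, (Subgroup.mem_inf.1 ht).1, et⟩) (s := k) (t := 1) (v0 := v) (v := u1) hkT (one_mem _)
        ⟨hv, hv1'⟩ ⟨hu1, h11⟩ (by rw [he]; group)
      rw [ek] at h3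
      rw [h3]; group
    obtain ⟨v, hv, rfl⟩ := surj_comm hcomm hka hf hu
    have hvP : v ∈ RGD.Sup X (Ge cs h r) := RGD.le_Sup ha hv
    -- `y'` acts on `P` by a homomorphism to the centre `X r`
    set zk := y' * k * y'⁻¹ * k⁻¹ with hzk
    set zv := y' * v * y'⁻¹ * v⁻¹ with hzv
    have hzkr : zk ∈ X r := h3 k hkP
    have hzvr : zv ∈ X r := h3 v hvP
    have e1 : y' * k * y'⁻¹ = zk * k := by rw [hzk]; group
    have e2 : y' * v * y'⁻¹ = zv * v := by rw [hzv]; group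
    have c1 : Commute zk k := (hP hkP hzkr).symm
    have c2 : Commute zk v := (hP hvP hzkr).symm
    have c3 : Commute zv k := (hP hkP hzvr).symm
    have c4 : Commute zv v := (hP hvP hzvr).symm
    have c5 : Commute zk zv := hcQ (RGD.le_Sup H.r_rad hzkr) hzvr
    have e3 : y' * (k * v * k⁻¹ * v⁻¹) * y'⁻¹ = k * v * k⁻¹ * v⁻¹ := by
      calc y' * (k * v * k⁻¹ * v⁻¹) * y'⁻¹
          = (y' * k * y'⁻¹) * (y' * v * y'⁻¹) * (y' * k * y'⁻¹)⁻¹ * (y' * v * y'⁻¹)⁻¹ := by group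
        _ = (zk * k) * (zv * v) * (zk * k)⁻¹ * (zv * v)⁻¹ := by rw [e1, e2]
        _ = zk * (k * (zv * v)) * k⁻¹ * (zk⁻¹ * (v⁻¹ * zv⁻¹)) := by group
        _ = zk * (k * (zv * v)) * k⁻¹ * ((v⁻¹ * zv⁻¹) * zk⁻¹) := by
            rw [((c2.inv_right.mul_right c5.inv_right).inv_left).eq]
        _ = zk * ((k * zv) * v * k⁻¹ * v⁻¹ * zv⁻¹) * zk⁻¹ := by group
        _ = zk * (zv * (k * v * k⁻¹ * v⁻¹) * zv⁻¹) * zk⁻¹ := by rw [← c3.eq]; group
        _ = zk * (k * v * k⁻¹ * v⁻¹) * zk⁻¹ := by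
            rw [(((c3.mul_right c4).mul_right c3.inv_right).mul_right c4.inv_right).eq]; group
        _ = _ := by
            rw [(((c1.mul_right c2).mul_right c1.inv_right).mul_right c2.inv_right).eq]; group
    calc y' * (k * v * k⁻¹ * v⁻¹) = (y' * (k * v * k⁻¹ * v⁻¹) * y'⁻¹) * y' := by group
      _ = _ := by rw [e3]
  have h5 : RGD.Sup X (Ge cs h r) ≤ Subgroup.centralizer {y'} := by
    refine RGD.Sup_le fun b hb v hv => ?_
    rw [Subgroup.mem_centralizer_singleton_iff]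
    exact (h4 b hb v hv).symm
  intro p hp
  have h6 : y' * p = p * y' := (Subgroup.mem_centralizer_singleton_iff.1 (h5 hp)).symm
  calc y * p * y⁻¹ = q * (y' * p) * (q * y')⁻¹ := by rw [hy']; group
    _ = q * p * q⁻¹ := by rw [h6]; group

end B

end Hyp

end Cfsg.Agent.KFacts.RgdKfour

end

-- merged: Cfsg.Agent.KFacts.RgdLoc
section

/-!
# `Loc` and `NorX` of `OddHalf/DblR` over a simply laced root group datum (helper335)
-/

set_option autoImplicit false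
set_option linter.unusedSectionVars false

namespace Cfsg.Agent.KFacts.RgdLoc

open CoxeterSystem Cfsg.Agent.ChevalleyStructure.CoxeterGeom Cfsg.Agent.Tits.Roots Cfsg.Agent.Tits.Core
  Cfsg.Agent.Tits.Exchange Cfsg.Agent.Nodes.Reps Cfsg.Agent.Nodes.BNOf Cfsg.Agent.Nodes.StabComb
  Cfsg.Agent.Nodes.Bruhat Cfsg.Agent.Nodes.OppDec Cfsg.Agent.Nodes.PosPair Cfsg.Agent.Nodes.Coroot
  Cfsg.Agent.KFacts.RgdPar Cfsg.Agent.KFacts.RgdSL Cfsg.Agent.KFacts.RgdTI Cfsg.Agent.KFacts.RgdCent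
  Cfsg.Agent.KFacts.RgdOdd Cfsg.Agent.KFacts.RgdEx Cfsg.Agent.KFacts.RgdTor Cfsg.Agent.KFacts.RgdKfour
  Cfsg.Agent.OddHalf.DblR
open scoped commutatorElement

variable {I W Y : Type*} [Fintype I] [DecidableEq I] [Group W] [Group Y] {M : CoxeterMatrix I}
  {cs : CoxeterSystem M W} {A : I → I → ℤ} {h : IsCartan M A} {T : Subgroup Y} {n : I → Y}
  {X : (I → ℤ) → Subgroup Y}

variable [Finite W] {R : RGD cs h 2 T n X} {r : I → ℤ} (H : Hyp R r)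

include H

/-- `⟨X r, X (-r)⟩` commutes with `X a`, `a` orthogonal to `r`. -/
theorem t0_comm {a : I → ℤ} (ha : IsRoot cs h a) (har : cpr cs h a r = 0) {k u : Y} (hk : k ∈ X r ⊔ X (-r))
    (hu : u ∈ X a) : k * u = u * k := orth_comm R H.sl H.root ha har hk hu

theorem t_conj_P {t p : Y} (ht : t ∈ T) (hp : p ∈ RGD.Sup X (Ge cs h r)) : t * p * t⁻¹ ∈ RGD.Sup X (Ge cs h r) := by
  have h1 : RGD.Sup X (Ge cs h r) ≤ (RGD.Sup X (Ge cs h r)).comap (MulAut.conj t).toMonoidHom := by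
    refine RGD.Sup_le fun a ha u hu => ?_
    rw [Subgroup.mem_comap]
    exact RGD.le_Sup ha (tor_mem R ha.1 ht hu)
  exact h1 hp

theorem t_conj_Q {t p : Y} (ht : t ∈ T) (hp : p ∈ RGD.Sup X (Rad cs h r)) : t * p * t⁻¹ ∈ RGD.Sup X (Rad cs h r) := by
  have h1 : RGD.Sup X (Rad cs h r) ≤ (RGD.Sup X (Rad cs h r)).comap (MulAut.conj t).toMonoidHom := by
    refine RGD.Sup_le fun a ha u hu => ?_
    rw [Subgroup.mem_comap]
    exact RGD.le_Sup ha (tor_mem R ha.1 ht hu)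
  exact h1 hp

/-- `[T_r, P] ≤ Q` -/
theorem tq {k p : Y} (hk : k ∈ T ⊓ (X r ⊔ X (-r))) (hp : p ∈ RGD.Sup X (Ge cs h r)) :
    k * p * k⁻¹ * p⁻¹ ∈ RGD.Sup X (Rad cs h r) := by
  have hkT := (Subgroup.mem_inf.1 hk).1
  let L : Subgroup Y :=
    { carrier := {p | p ∈ RGD.Sup X (Ge cs h r) ∧ k * p * k⁻¹ * p⁻¹ ∈ RGD.Sup X (Rad cs h r)}
      one_mem' := ⟨one_mem _, by simp⟩
      mul_mem' := by
        rintro x y ⟨hx, hx'⟩ ⟨hy, hy'⟩
        refine ⟨mul_mem hx hy, ?_⟩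
        have : k * (x * y) * k⁻¹ * (x * y)⁻¹ = (k * x * k⁻¹ * x⁻¹) * (x * (k * y * k⁻¹ * y⁻¹) * x⁻¹) := by group
        rw [this]
        exact mul_mem hx' (H.QN hx hy')
      inv_mem' := by
        rintro x ⟨hx, hx'⟩
        refine ⟨inv_mem hx, ?_⟩
        have h1 : k * x⁻¹ * k⁻¹ * x⁻¹⁻¹ = x⁻¹ * (k * x * k⁻¹ * x⁻¹)⁻¹ * x := by group
        rw [h1]
        have := H.QN (inv_mem hx) (inv_mem hx')
        rwa [inv_inv] at this }
  have hL : RGD.Sup X (Ge cs h r) ≤ L := by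
    refine RGD.Sup_le fun a ha u hu => ⟨RGD.le_Sup ha hu, ?_⟩
    by_cases h0 : 1 ≤ cpr cs h a r
    · have h1 : a ∈ Rad cs h r := ⟨ha.1, h0⟩
      exact mul_mem (RGD.le_Sup h1 (tor_mem R ha.1 hkT hu)) (inv_mem (RGD.le_Sup h1 hu))
    · have h1 : cpr cs h a r = 0 := by have := ha.2; omega
      have h2 : k * u = u * k := t0_comm H ha.1 h1 (Subgroup.mem_inf.1 hk).2 hu
      have h3 : k * u * k⁻¹ * u⁻¹ = 1 := by rw [h2]; group
      rw [h3]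
      exact one_mem _
  exact (hL hp).2

/-- **`NorX`** -/
theorem norX : NorX (GG cs h T X) (RGD.Sup X (Ge cs h r)) (X r) (T ⊓ (X r ⊔ X (-r))) := by
  have hGG : ∀ k ∈ GG cs h T X, cj k (X r) = X r → k ∈ PS T X (Ge cs h r) := by
    intro k hk hX
    rw [← (H.lr r H.root).normalizer]
    exact Subgroup.mem_inf.2 ⟨mem_normalizer_iff_cj.2 hX, hk⟩
  -- the elements of `T ⊔ P`
  have hP : ∀ k ∈ PS T X (Ge cs h r), (∀ p ∈ RGD.Sup X (Ge cs h r), k * p * k⁻¹ ∈ RGD.Sup X (Ge cs h r)) ∧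
      (∀ p ∈ RGD.Sup X (Ge cs h r), k⁻¹ * p * k ∈ RGD.Sup X (Ge cs h r)) ∧
      ∀ t ∈ T ⊓ (X r ⊔ X (-r)), ∃ p ∈ RGD.Sup X (Ge cs h r), k * t * k⁻¹ = t * p := by
    let L : Subgroup Y :=
      { carrier := {k | (∀ p ∈ RGD.Sup X (Ge cs h r), k * p * k⁻¹ ∈ RGD.Sup X (Ge cs h r)) ∧
          (∀ p ∈ RGD.Sup X (Ge cs h r), k⁻¹ * p * k ∈ RGD.Sup X (Ge cs h r)) ∧
          ∀ t ∈ T ⊓ (X r ⊔ X (-r)), ∃ p ∈ RGD.Sup X (Ge cs h r), k * t * k⁻¹ = t * p}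
        one_mem' := ⟨fun p hp => by simpa using hp, fun p hp => by simpa using hp,
          fun t _ => ⟨1, one_mem _, by simp⟩⟩
        mul_mem' := by
          rintro x y ⟨hx, hx', hx''⟩ ⟨hy, hy', hy''⟩
          refine ⟨fun p hp => ?_, fun p hp => ?_, fun t ht => ?_⟩
          · have : x * y * p * (x * y)⁻¹ = x * (y * p * y⁻¹) * x⁻¹ := by group
            rw [this]; exact hx _ (hy _ hp)
          · have : (x * y)⁻¹ * p * (x * y) = y⁻¹ * (x⁻¹ * p * x) * y := by group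
            rw [this]; exact hy' _ (hx' _ hp)
          · obtain ⟨p, hp, e⟩ := hy'' t ht
            obtain ⟨p', hp', e'⟩ := hx'' t ht
            refine ⟨p' * (x * p * x⁻¹), mul_mem hp' (hx p hp), ?_⟩
            calc x * y * t * (x * y)⁻¹ = x * (y * t * y⁻¹) * x⁻¹ := by group
              _ = (x * t * x⁻¹) * (x * p * x⁻¹) := by rw [e]; group
              _ = _ := by rw [e']; group
        inv_mem' := by
          rintro x ⟨hx, hx', hx''⟩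
          refine ⟨fun p hp => by rw [inv_inv]; exact hx' p hp, fun p hp => by rw [inv_inv]; exact hx p hp,
            fun t ht => ?_⟩
          obtain ⟨p, hp, e⟩ := hx'' t ht
          refine ⟨(x⁻¹ * p * x)⁻¹, inv_mem (hx' p hp), ?_⟩
          have h1 : t = x⁻¹ * (t * p) * x := by rw [← e]; group
          calc x⁻¹ * t * x⁻¹⁻¹ = (x⁻¹ * (t * p) * x) * (x⁻¹ * p * x)⁻¹ := by group
            _ = t * (x⁻¹ * p * x)⁻¹ := by rw [← h1] }
    have hL : PS T X (Ge cs h r) ≤ L := by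
      refine sup_le ?_ ?_
      · intro k hk
        refine ⟨fun p hp => t_conj_P H hk hp, fun p hp => ?_, fun t ht => ⟨1, one_mem _, ?_⟩⟩
        · have := t_conj_P H (inv_mem hk) hp
          rwa [inv_inv] at this
        · rw [H.tab k hk t (Subgroup.mem_inf.1 ht).1]; group
      · intro k hk
        refine ⟨fun p hp => mul_mem (mul_mem hk hp) (inv_mem hk), fun p hp => mul_mem (mul_mem (inv_mem hk) hp) hk,
          fun t ht => ⟨t⁻¹ * k * t⁻¹⁻¹ * k⁻¹,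
            mul_mem (t_conj_P H (inv_mem (Subgroup.mem_inf.1 ht).1) hk) (inv_mem hk), by group⟩⟩
    exact fun k hk => hL hk
  refine ⟨fun k hk hX => ?_, fun k hk hX => (hP k (hGG k hk hX)).2.2⟩
  obtain ⟨h1, h2, -⟩ := hP k (hGG k hk hX)
  apply le_antisymm
  · intro x hx
    rw [mem_cj] at hx
    have := h1 _ hx
    have e : k * (k⁻¹ * x * k) * k⁻¹ = x := by group
    rwa [e] at this
  · intro x hx
    rw [mem_cj]
    exact h2 x hx

/-- **`Loc`** : all fields except `amb`, `two`, `k3`. -/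
theorem loc [Finite Y] (hq : ∀ b, IsRoot cs h b → ∃ u ∈ X b, ∃ v ∈ X b, u ≠ 1 ∧ v ≠ 1 ∧ u ≠ v)
    {Rr : Subgroup Y} (amb : Amb (GG cs h T X) Rr)
    (two : ∀ c ∈ C1 (GG cs h T X) Rr, IsPGroup 2 (Subgroup.zpowers c) → c ∈ Rr)
    (k3 : ∀ c : Y, (∀ a ∈ Rr, c * a = a * c) → (∀ p ∈ RGD.Sup X (Ge cs h r), c * p = p * c) →
      ∃ x ∈ X r, x⁻¹ * c ∈ C1 (GG cs h T X) Rr) :
    Loc (GG cs h T X) Rr (RGD.Sup X (Ge cs h r)) (RGD.Sup X (Rad cs h r)) (X r) (T ⊓ (X r ⊔ X (-r))) where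
  amb := amb
  PK := le_trans (RGD.Sup_mono fun _ hx => hx.1) le_sup_right
  QP := H.rad_le_ge
  XQ := RGD.le_Sup H.r_rad
  XX := fun x hx => H.r_sq hx
  XZ := fun x hx p hp => (H.central hp hx).symm
  QN := fun p hp q hq => H.QN hp hq
  TK := le_trans inf_le_left le_sup_left
  TX := fun t ht x hx => tor_mem R H.root (Subgroup.mem_inf.1 ht).1 hx
  TQ := fun k hk p hp => tq H hk hp
  Tab := fun s hs t ht => H.tab s (Subgroup.mem_inf.1 hs).1 t (Subgroup.mem_inf.1 ht).1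
  Ttr := by
    intro x hx hx1 y hy hy1
    obtain ⟨b, hb⟩ := H.ex
    have hA' : A2 cs h r (-b) := by
      refine H.sl.a2 H.root hb.1.neg ?_
      rw [cpr_neg_right cs h _ hb.1, H.sl r b H.root hb.1, hb.2]
    exact tor_self hA' R H.tab hx hx1 hy hy1
  big := by
    obtain ⟨x, hx, y, hy, h1, h2, h3⟩ := hq r H.root
    exact ⟨x, hx, y, hy, h1, h2, h3⟩
  two := two
  k3 := k3
  k4 := fun e _ _ heX he => H.k4 he heX
  B := by
    intro y hy hyP hyX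
    obtain ⟨k, hk⟩ := hy ⟨y, Subgroup.mem_zpowers y⟩
    have hy2 : y ^ 2 ^ k = 1 := congrArg Subtype.val hk
    exact H.B hyP hyX hy2 (fun b _ => inferInstance) hq

end Cfsg.Agent.KFacts.RgdLoc

end
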