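import Mathlib
import Cfsg.Agent.OddHalf.DblR.Exist

-- merged: Cfsg.Agent.KFacts.SpecKfour
section

/-!
# Automorphisms of `P` which are trivial on `P / Q`, abstract form (ODD, D4, K-side; helper335)

`Q ≤ P` a "special" group: `Q = ⟨V i⟩ Z`, `Z` central in `P`, `[V i, V j] = 1` for `j ≠ st i`, `[V i, V (st i)] ≤ Z`
nondegenerate, `T` an abelian group of odd order normalising all `V i` and `Z`.

* `Spec P Q Z T V st` : the data;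
* `Fix P Q Z V i` : the fixed points of `C_P(V i)` on `Q / Z` are `V i Z / Z`;
* `Lin P T V i` : automorphisms of `V i` commuting with `T ⊓ P` are given by elements of `T`;
* `Spec.k4` : `e` normalises `Z`, `[e, P] ≤ Q` ⟹ `e` acts on `Z` as an element of `T0`;
* `Spec.B` : `y` a `2`-element centralising `Z`, `[y, P] ≤ Q` ⟹ `y` acts on `P` as an element of `Q`.

`KFacts/RgdKfour.lean` is the case of a simply laced root group datum.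
-/

set_option autoImplicit false
set_option linter.unusedSectionVars false

namespace Cfsg.Agent.KFacts.SpecKfour

open scoped commutatorElement

variable {Y ι : Type*} [Group Y]

/-- The data. -/
structure Spec (P Q Z T : Subgroup Y) (V : ι → Subgroup Y) (st : ι → ι) : Prop where
  QP : Q ≤ P
  ZQ : Z ≤ Q
  VQ : ∀ i, V i ≤ Q
  gen : Q ≤ (⨆ i, V i) ⊔ Z
  cen : ∀ p ∈ P, ∀ z ∈ Z, p * z = z * p
  QN : ∀ p ∈ P, ∀ q ∈ Q, p * q * p⁻¹ ∈ Q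
  stst : ∀ i, st (st i) = i
  ab : ∀ i, ∀ u ∈ V i, ∀ v ∈ V i, u * v = v * u
  comm1 : ∀ i j, j ≠ st i → ∀ u ∈ V i, ∀ v ∈ V j, u * v = v * u
  br : ∀ i, ∀ u ∈ V i, ∀ v ∈ V (st i), ⁅u, v⁆ ∈ Z
  nd : ∀ i, ∀ u ∈ V i, (∀ v ∈ V (st i), u * v = v * u) → u = 1
  sq : ∀ i, ∀ u ∈ V i, u * u = 1
  TV : ∀ t ∈ T, ∀ i, ∀ v ∈ V i, t * v * t⁻¹ ∈ V i
  TZ : ∀ t ∈ T, ∀ z ∈ Z, t * z * t⁻¹ ∈ Z
  Tab : ∀ s ∈ T, ∀ t ∈ T, s * t = t * s
  Todd : (Nat.card T).Coprime 2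

/-- `Q_S = ⟨V i : i ∈ S⟩ Z` -/
def QS (Z : Subgroup Y) (V : ι → Subgroup Y) (S : Set ι) : Subgroup Y := (⨆ i : S, V i.1) ⊔ Z

theorem le_QS {Z : Subgroup Y} {V : ι → Subgroup Y} {S : Set ι} {i : ι} (hi : i ∈ S) : V i ≤ QS Z V S :=
  le_trans (le_iSup (fun i : S => V i.1) ⟨i, hi⟩) le_sup_left

theorem Z_le_QS {Z : Subgroup Y} {V : ι → Subgroup Y} {S : Set ι} : Z ≤ QS Z V S := le_sup_right

theorem QS_le {Z : Subgroup Y} {V : ι → Subgroup Y} {S : Set ι} {H : Subgroup Y} (h1 : ∀ i ∈ S, V i ≤ H)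
    (h2 : Z ≤ H) : QS Z V S ≤ H := sup_le (iSup_le fun i => h1 i.1 i.2) h2

/-- the fixed points of `C_P(V i)` on `Q / Z` are `V i Z / Z` -/
def Fix (P Q Z : Subgroup Y) (V : ι → Subgroup Y) (i : ι) : Prop :=
  ∀ q ∈ Q, (∀ x ∈ P, (∀ v ∈ V i, x * v = v * x) → ⁅x, q⁆ ∈ Z) → ∃ v ∈ V i, ∃ z ∈ Z, q = v * z

/-- automorphisms of `V i` commuting with `T ⊓ P` are given by elements of `T` -/
def Lin (P T : Subgroup Y) (V : ι → Subgroup Y) (i : ι) : Prop :=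
  ∀ f : Y → Y, (∀ v ∈ V i, f v ∈ V i) → (∀ u ∈ V i, ∀ v ∈ V i, f (u * v) = f u * f v) →
    (∀ v ∈ V i, f v = 1 → v = 1) → (∀ t ∈ T, t ∈ P → ∀ v ∈ V i, f (t * v * t⁻¹) = t * f v * t⁻¹) →
    ∃ s ∈ T, ∀ v ∈ V i, f v = s * v * s⁻¹

/-- `Lin` from transitivity -/
theorem lin_of_trans {P T : Subgroup Y} {V : ι → Subgroup Y} {i : ι} (Tab : ∀ s ∈ T, ∀ t ∈ T, s * t = t * s)
    (tr : ∀ u ∈ V i, ∀ v ∈ V i, u ≠ 1 → v ≠ 1 → ∃ k ∈ T, k ∈ P ∧ k * u * k⁻¹ = v) : Lin P T V i := by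
  intro f hf hm hinj hT
  by_cases h0 : ∃ u ∈ V i, u ≠ 1
  · obtain ⟨u, hu, hu1⟩ := h0
    have hfu : f u ≠ 1 := fun h => hu1 (hinj u hu h)
    obtain ⟨s, hs, -, es⟩ := tr u hu (f u) (hf u hu) hu1 hfu
    refine ⟨s, hs, fun v hv => ?_⟩
    by_cases hv1 : v = 1
    · subst hv1
      have h1 := hm 1 (one_mem _) 1 (one_mem _)
      rw [one_mul] at h1
      have h2 : f 1 = 1 := by
        have := h1.symm
        exact mul_eq_left.1 this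
      rw [h2]; group
    obtain ⟨k, hk, hkP, rfl⟩ := tr u hu v hv hu1 hv1
    rw [hT k hk hkP u hu, ← es]
    have := Tab s hs k hk
    calc k * (s * u * s⁻¹) * k⁻¹ = (k * s) * u * (k * s)⁻¹ := by group
      _ = (s * k) * u * (s * k)⁻¹ := by rw [this]
      _ = _ := by group
  · push Not at h0
    refine ⟨1, one_mem _, fun v hv => ?_⟩
    rw [h0 v hv, h0 (f 1) (hf 1 (one_mem _))]; group

/-- a fixed point free automorphism of a finite abelian group -/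
theorem surj_comm {V : Subgroup Y} [Finite ↥V] (hV : ∀ u ∈ V, ∀ v ∈ V, u * v = v * u) {k : Y}
    (hk : ∀ v ∈ V, k * v * k⁻¹ ∈ V) (hf : ∀ v ∈ V, k * v * k⁻¹ = v → v = 1) {u : Y} (hu : u ∈ V) :
    ∃ v ∈ V, k * v * k⁻¹ * v⁻¹ = u := by
  have hinj : Function.Injective (fun v : V => (⟨k * v.1 * k⁻¹ * v.1⁻¹, mul_mem (hk v.1 v.2) (inv_mem v.2)⟩ : V)) := by
    intro v w hvw
    have h1 : k * v.1 * k⁻¹ * v.1⁻¹ = k * w.1 * k⁻¹ * w.1⁻¹ := congrArg Subtype.val hvw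
    have h2 : v.1 * w.1⁻¹ = 1 := by
      refine hf _ (mul_mem v.2 (inv_mem w.2)) ?_
      have h3 := hV _ (hk w.1 w.2) _ (inv_mem w.2)
      have h4 := hV _ (inv_mem v.2) _ (inv_mem (hk w.1 w.2))
      calc k * (v.1 * w.1⁻¹) * k⁻¹ = (k * v.1 * k⁻¹ * v.1⁻¹) * v.1 * (k * w.1 * k⁻¹)⁻¹ := by group
        _ = (k * w.1 * k⁻¹ * w.1⁻¹) * v.1 * (k * w.1 * k⁻¹)⁻¹ := by rw [h1]
        _ = (w.1⁻¹ * (k * w.1 * k⁻¹)) * v.1 * (k * w.1 * k⁻¹)⁻¹ := by rw [h3]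
        _ = w.1⁻¹ * ((k * w.1 * k⁻¹) * v.1) * (k * w.1 * k⁻¹)⁻¹ := by group
        _ = w.1⁻¹ * (v.1 * (k * w.1 * k⁻¹)) * (k * w.1 * k⁻¹)⁻¹ := by rw [hV _ (hk w.1 w.2) _ v.2]
        _ = w.1⁻¹ * v.1 := by group
        _ = v.1 * w.1⁻¹ := (hV _ v.2 _ (inv_mem w.2)).symm
    exact Subtype.ext (by
      calc v.1 = (v.1 * w.1⁻¹) * w.1 := by group
        _ = w.1 := by rw [h2, one_mul])
  obtain ⟨v, hv⟩ := (Finite.injective_iff_surjective.1 hinj) ⟨u, hu⟩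
  exact ⟨v.1, v.2, congrArg Subtype.val hv⟩

namespace Spec

variable {P Q Z T : Subgroup Y} {V : ι → Subgroup Y} {st : ι → ι} (H : Spec P Q Z T V st)

include H

theorem cenQ {q z : Y} (hq : q ∈ Q) (hz : z ∈ Z) : q * z = z * q := H.cen q (H.QP hq) z hz

theorem VZ {i : ι} {u : Y} (hu : u ∈ V i) (hz : u ∈ Z) : u = 1 :=
  H.nd i u hu fun _ hv => (H.cenQ (H.VQ _ hv) hz).symm

theorem Q_eq : Q = QS Z V Set.univ := by
  apply le_antisymm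
  · refine le_trans H.gen (sup_le (iSup_le fun i => le_QS (Set.mem_univ i)) Z_le_QS)
  · exact QS_le (fun i _ => H.VQ i) H.ZQ

theorem QS_le_Q (S : Set ι) : QS Z V S ≤ Q := QS_le (fun i _ => H.VQ i) H.ZQ

theorem br' {i : ι} {u v : Y} (hu : u ∈ V (st i)) (hv : v ∈ V i) : ⁅u, v⁆ ∈ Z := by
  have := H.br (st i) u hu v (by rw [H.stst]; exact hv)
  exact this

/-- elements of `Q_S` commute with `V j` if `st j ∉ S` -/
theorem QS_comm {S : Set ι} {j : ι} (hj : st j ∉ S) {q v : Y} (hq : q ∈ QS Z V S) (hv : v ∈ V j) :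
    q * v = v * q := by
  have h1 : QS Z V S ≤ Subgroup.centralizer {v} := by
    refine QS_le (fun i hi u hu => ?_) fun u hu => ?_
    · rw [Subgroup.mem_centralizer_singleton_iff]
      refine H.comm1 i j ?_ u hu v hv
      rintro rfl
      rw [H.stst] at hj
      exact hj hi
    · rw [Subgroup.mem_centralizer_singleton_iff]
      exact (H.cenQ (H.VQ j hv) hu).symm
  exact Subgroup.mem_centralizer_singleton_iff.1 (h1 hq)

/-- `V j` normalises `Q_S` -/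
theorem QS_conj {S : Set ι} {j : ι} {q v : Y} (hq : q ∈ QS Z V S) (hv : v ∈ V j) : v * q * v⁻¹ ∈ QS Z V S := by
  have h1 : QS Z V S ≤ (QS Z V S).comap (MulAut.conj v).toMonoidHom := by
    refine QS_le (fun i hi u hu => ?_) fun u hu => ?_
    · rw [Subgroup.mem_comap]
      show v * u * v⁻¹ ∈ QS Z V S
      have h2 : u ∈ QS Z V S := le_QS hi hu
      by_cases h3 : i = st j
      · subst h3
        have h4 : ⁅v, u⁆ ∈ Z := H.br j v hv u hu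
        have h5 : v * u * v⁻¹ = ⁅v, u⁆ * u := by rw [commutatorElement_def]; group
        rw [h5]
        exact mul_mem (Z_le_QS h4) h2
      · have h4 : v * u = u * v := H.comm1 j i h3 v hv u hu
        have h5 : v * u * v⁻¹ = u := by rw [h4]; group
        rwa [h5]
    · rw [Subgroup.mem_comap]
      show v * u * v⁻¹ ∈ QS Z V S
      have h5 : v * u * v⁻¹ = u := by rw [H.cenQ (H.VQ j hv) hu]; group
      rw [h5]
      exact Z_le_QS hu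
  exact h1 hq

/-- `Q_S = V_j Q_{S - j}` -/
theorem QS_split {S : Set ι} (j : ι) {q : Y} (hq : q ∈ QS Z V S) :
    ∃ v ∈ V j, ∃ q' ∈ QS Z V (S \ {j}), q = v * q' := by
  let L : Subgroup Y :=
    { carrier := {q | ∃ v ∈ V j, ∃ q' ∈ QS Z V (S \ {j}), q = v * q'}
      one_mem' := ⟨1, one_mem _, 1, one_mem _, by group⟩
      mul_mem' := by
        rintro _ _ ⟨v, hv, q, hq, rfl⟩ ⟨v', hv', q', hq', rfl⟩
        refine ⟨v * v', mul_mem hv hv', v'⁻¹ * q * v'⁻¹⁻¹ * q',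
          mul_mem (H.QS_conj hq (inv_mem hv')) hq', by group⟩
      inv_mem' := by
        rintro _ ⟨v, hv, q, hq, rfl⟩
        exact ⟨v⁻¹, inv_mem hv, v * q⁻¹ * v⁻¹, H.QS_conj (inv_mem hq) hv, by group⟩ }
  have h1 : QS Z V S ≤ L := by
    refine QS_le (fun i hi u hu => ?_) fun u hu => ?_
    · by_cases hij : i = j
      · subst hij
        exact ⟨u, hu, 1, one_mem _, by group⟩
      · exact ⟨1, one_mem _, u, le_QS (S := S \ {j}) ⟨hi, hij⟩ hu, by group⟩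
    · exact ⟨1, one_mem _, u, Z_le_QS hu, by group⟩
  exact h1 hq

/-- an element of `Q_S` commuting with `V (st j)` lies in `Q_{S - j}` -/
theorem QS_drop {S : Set ι} (j : ι) {q : Y} (hq : q ∈ QS Z V S) (hcom : ∀ w ∈ V (st j), q * w = w * q) :
    q ∈ QS Z V (S \ {j}) := by
  obtain ⟨v, hv, q', hq', rfl⟩ := H.QS_split j hq
  have h3 : v = 1 := by
    refine H.nd j v hv fun w hw => ?_
    have h1 : q' * w = w * q' := by
      refine H.QS_comm ?_ hq' hw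
      rw [H.stst]
      exact fun h0 => h0.2 rfl
    have h3 := hcom w hw
    calc v * w = v * (w * q') * q'⁻¹ := by group
      _ = (v * q' * w) * q'⁻¹ := by rw [← h1]; group
      _ = (w * (v * q')) * q'⁻¹ := by rw [h3]
      _ = w * v := by group
  rw [h3, one_mul]
  exact hq'

variable [Finite ι]

/-- an element of `Q` commuting with `V (st j)` for all `j ∉ S` lies in `Q_S` -/
theorem mem_QS {S : Set ι} {q : Y} (hq : q ∈ Q) (hcom : ∀ j, j ∉ S → ∀ w ∈ V (st j), q * w = w * q) :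
    q ∈ QS Z V S := by
  classical
  have key : ∀ D : Finset ι, (∀ j ∈ D, j ∉ S) → q ∈ QS Z V (Set.univ \ (D : Set ι)) := by
    intro D
    induction D using Finset.induction_on with
    | empty =>
      intro _
      rw [Finset.coe_empty, Set.sdiff_empty, ← H.Q_eq]
      exact hq
    | insert j D hjD ih =>
      intro hD
      have h1 := ih fun x hx => hD x (Finset.mem_insert_of_mem hx)
      have h2 := hD j (Finset.mem_insert_self _ _)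
      have h3 := H.QS_drop (S := Set.univ \ (D : Set ι)) j h1 (hcom j h2)
      rwa [Set.sdiff_sdiff, Set.union_singleton, ← Finset.coe_insert] at h3
  have hfin : (Set.univ \ S : Set ι).Finite := Set.toFinite _
  have h1 := key hfin.toFinset fun c hc => by
    rw [Set.Finite.mem_toFinset] at hc
    exact hc.2
  rwa [Set.Finite.coe_toFinset, Set.sdiff_sdiff_cancel_left (Set.subset_univ S)] at h1

/-- elements of `V_i Z` -/
theorem mem_QS_single {i : ι} {q : Y} (hq : q ∈ QS Z V {i}) : ∃ v ∈ V i, ∃ z ∈ Z, q = v * z := by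
  obtain ⟨v, hv, q', hq', rfl⟩ := H.QS_split i hq
  refine ⟨v, hv, q', ?_, rfl⟩
  rw [Set.sdiff_self] at hq'
  exact QS_le (fun x hx => absurd hx (Set.notMem_empty x)) le_rfl hq'

/-- `C_Q(Q) = Z` -/
theorem mem_Z {q : Y} (hq : q ∈ Q) (hcom : ∀ j, ∀ w ∈ V j, q * w = w * q) : q ∈ Z := by
  have h5 := H.mem_QS (S := ∅) hq fun j _ w hw => hcom _ w hw
  exact QS_le (fun x hx => absurd hx (Set.notMem_empty x)) le_rfl h5

omit [Finite ι] in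
/-- `[Q, Q] ≤ Z` -/
theorem br_Q {q q' : Y} (hq : q ∈ Q) (hq' : q' ∈ Q) : ⁅q, q'⁆ ∈ Z := by
  have hcen : ∀ {p z : Y}, p ∈ Q → z ∈ Z → p * z = z * p := fun hp hz => H.cenQ hp hz
  have h1 : ∀ i, ∀ v ∈ V i, ∀ q ∈ Q, ⁅q, v⁆ ∈ Z := by
    intro i v hv
    let L : Subgroup Y :=
      { carrier := {q | q ∈ Q ∧ ⁅q, v⁆ ∈ Z}
        one_mem' := ⟨one_mem _, by simp [commutatorElement_def]⟩
        mul_mem' := by
          rintro x y ⟨hx, hx'⟩ ⟨hy, hy'⟩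
          refine ⟨mul_mem hx hy, ?_⟩
          have h2 : ⁅x * y, v⁆ = (x * ⁅y, v⁆ * x⁻¹) * ⁅x, v⁆ := by simp only [commutatorElement_def]; group
          have h3 : x * ⁅y, v⁆ * x⁻¹ = ⁅y, v⁆ := by rw [hcen hx hy']; group
          rw [h2, h3]
          exact mul_mem hy' hx'
        inv_mem' := by
          rintro x ⟨hx, hx'⟩
          refine ⟨inv_mem hx, ?_⟩
          have h2 : ⁅x⁻¹, v⁆ = x⁻¹ * ⁅x, v⁆⁻¹ * x := by simp only [commutatorElement_def]; group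
          have h3 : x⁻¹ * ⁅x, v⁆⁻¹ * x = ⁅x, v⁆⁻¹ := by
            rw [hcen (inv_mem hx) (inv_mem hx')]; group
          rw [h2, h3]
          exact inv_mem hx' }
    have hL : Q ≤ L := by
      refine le_trans H.gen (sup_le (iSup_le fun j u hu => ⟨H.VQ j hu, ?_⟩) fun u hu => ⟨H.ZQ hu, ?_⟩)
      · by_cases h2 : i = st j
        · subst h2
          exact H.br j u hu v hv
        · rw [commutatorElement_eq_one_iff_mul_comm.2 (H.comm1 j i h2 u hu v hv)]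
          exact one_mem _
      · rw [commutatorElement_eq_one_iff_mul_comm.2 (hcen (H.VQ i hv) hu).symm]
        exact one_mem _
    intro q hq
    exact (hL hq).2
  let L : Subgroup Y :=
    { carrier := {v | v ∈ Q ∧ ⁅q, v⁆ ∈ Z}
      one_mem' := ⟨one_mem _, by simp [commutatorElement_def]⟩
      mul_mem' := by
        rintro x y ⟨hx, hx'⟩ ⟨hy, hy'⟩
        refine ⟨mul_mem hx hy, ?_⟩
        have h2 : ⁅q, x * y⁆ = ⁅q, x⁆ * (x * ⁅q, y⁆ * x⁻¹) := by simp only [commutatorElement_def]; group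
        have h3 : x * ⁅q, y⁆ * x⁻¹ = ⁅q, y⁆ := by rw [hcen hx hy']; group
        rw [h2, h3]
        exact mul_mem hx' hy'
      inv_mem' := by
        rintro x ⟨hx, hx'⟩
        refine ⟨inv_mem hx, ?_⟩
        have h2 : ⁅q, x⁻¹⁆ = x⁻¹ * ⁅q, x⁆⁻¹ * x := by simp only [commutatorElement_def]; group
        have h3 : x⁻¹ * ⁅q, x⁆⁻¹ * x = ⁅q, x⁆⁻¹ := by
          rw [hcen (inv_mem hx) (inv_mem hx')]; group
        rw [h2, h3]
        exact inv_mem hx' }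
  have hL : Q ≤ L := by
    refine le_trans H.gen (sup_le (iSup_le fun j u hu => ⟨H.VQ j hu, h1 j u hu q hq⟩) fun u hu => ⟨H.ZQ hu, ?_⟩)
    rw [commutatorElement_eq_one_iff_mul_comm.2 (hcen hq hu)]
    exact one_mem _
  exact (hL hq').2

/-- **`Fix` from generation**: every `V j`, `j ≠ st i`, lies in `⟨[x, Q] : x ∈ C_P(V i)⟩ Z`. -/
theorem fix_of_gen {i : ι} (G : Subgroup Y)
    (hG : G ≤ Subgroup.closure {g | ∃ x ∈ P, (∀ v ∈ V i, x * v = v * x) ∧ ∃ w ∈ Q, g = ⁅x, w⁆} ⊔ Z)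
    (hg : ∀ j, j ≠ st i → V j ≤ G) : Fix P Q Z V i := by
  intro q hq hx
  refine H.mem_QS_single (H.mem_QS hq ?_)
  intro j hj w hw
  have hG' : G ≤ Subgroup.centralizer {q} := by
    refine le_trans hG (sup_le ((Subgroup.closure_le _).2 ?_) fun z hz => ?_)
    · rintro _ ⟨x, hxP, hxV, u, hu, rfl⟩
      rw [SetLike.mem_coe, Subgroup.mem_centralizer_singleton_iff]
      -- `x⁻¹ q x = q z`
      have h1 : ⁅x⁻¹, q⁆ ∈ Z := by
        refine hx x⁻¹ (inv_mem hxP) fun v hv => ?_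
        have := hxV v hv
        exact (Commute.inv_left this).eq
      have h2 : ⁅q, u⁆ ∈ Z := H.br_Q hq hu
      have h3 : x * ⁅⁅x⁻¹, q⁆ * q, u⁆ * x⁻¹ = ⁅q, x * u * x⁻¹⁆ := by
        simp only [commutatorElement_def]; group
      have h4 : ⁅⁅x⁻¹, q⁆ * q, u⁆ = ⁅q, u⁆ := by
        have e1 : ⁅⁅x⁻¹, q⁆ * q, u⁆ = (⁅x⁻¹, q⁆ * ⁅q, u⁆ * ⁅x⁻¹, q⁆⁻¹) * ⁅⁅x⁻¹, q⁆, u⁆ := by
          simp only [commutatorElement_def]; group
        have e2 : ⁅⁅x⁻¹, q⁆, u⁆ = 1 := commutatorElement_eq_one_iff_mul_comm.2 (H.cenQ hu h1).symm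
        have e3 : ⁅x⁻¹, q⁆ * ⁅q, u⁆ = ⁅q, u⁆ * ⁅x⁻¹, q⁆ := H.cenQ (H.ZQ h1) h2
        rw [e1, e2, e3]; group
      have h5 : x * ⁅q, u⁆ * x⁻¹ = ⁅q, u⁆ := by rw [H.cen x hxP _ h2]; group
      rw [h4, h5] at h3
      have h6 : ⁅q, x * u * x⁻¹⁆ = ⁅q, ⁅x, u⁆ * u⁆ := by
        congr 1
        rw [commutatorElement_def]; group
      rw [h6] at h3
      -- `⁅q, c u⁆ = ⁅q, c⁆ ⁅q, u⁆`
      have hc : ⁅x, u⁆ ∈ Q := by
        rw [commutatorElement_def]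
        exact mul_mem (H.QN x hxP u hu) (inv_mem hu)
      have h7 : ⁅q, ⁅x, u⁆ * u⁆ = ⁅q, ⁅x, u⁆⁆ * (⁅x, u⁆ * ⁅q, u⁆ * ⁅x, u⁆⁻¹) := by
        simp only [commutatorElement_def]; group
      rw [h7, H.cenQ hc h2, mul_inv_cancel_right] at h3
      have h8 : ⁅q, ⁅x, u⁆⁆ = 1 := mul_eq_right.1 h3.symm
      exact (commutatorElement_eq_one_iff_mul_comm.1 h8).symm
    · rw [Subgroup.mem_centralizer_singleton_iff]
      exact (H.cenQ hq hz).symm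
  have h1 := hG' (hg (st j) (by
    intro h0
    apply hj
    rw [Set.mem_singleton_iff, ← H.stst j, h0, H.stst]) hw)
  exact (Subgroup.mem_centralizer_singleton_iff.1 h1).symm

section Aut

variable {e : Y} (heP : ∀ p ∈ P, e * p * e⁻¹ * p⁻¹ ∈ Q)

include heP

omit [Finite ι] in
theorem e_mem_Q {q : Y} (hq : q ∈ Q) : e * q * e⁻¹ ∈ Q := by
  have h1 := mul_mem (heP q (H.QP hq)) hq
  rwa [inv_mul_cancel_right] at h1

omit [Finite ι] in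
/-- `e` normalises `V_i Z`. -/
theorem e_pres {i : ι} (hF : Fix P Q Z V i) {v : Y} (hv : v ∈ V i) : ∃ v' ∈ V i, ∃ z ∈ Z, e * v * e⁻¹ = v' * z := by
  have hvQ : v ∈ Q := H.VQ i hv
  have htQ : e * v * e⁻¹ ∈ Q := H.e_mem_Q heP hvQ
  refine hF _ htQ fun x hxP hxV => ?_
  set t := e * v * e⁻¹ with ht
  set q := e * x * e⁻¹ * x⁻¹ with hq
  have hqQ : q ∈ Q := heP x hxP
  have h1 : (q * x) * t = t * (q * x) := by
    have : q * x = e * x * e⁻¹ := by rw [hq]; group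
    rw [this, ht]
    calc e * x * e⁻¹ * (e * v * e⁻¹) = e * (x * v) * e⁻¹ := by group
      _ = e * v * e⁻¹ * (e * x * e⁻¹) := by rw [hxV v hv]; group
  have h2 : ⁅x, t⁆ = ⁅q⁻¹, t⁆ := by
    rw [commutatorElement_def, commutatorElement_def]
    calc x * t * x⁻¹ * t⁻¹ = q⁻¹ * ((q * x) * t) * x⁻¹ * t⁻¹ := by group
      _ = _ := by rw [h1]; group
  rw [h2]
  exact H.br_Q (inv_mem hqQ) htQ

omit [Finite ι] in
/-- The action of `e` on `V_i Z / Z`. -/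
theorem e_act [Finite ↥Z] {i : ι} (hF : Fix P Q Z V i) (hL : Lin P T V i) (hZ : ∀ z ∈ Z, e * z * e⁻¹ ∈ Z) :
    ∃ s ∈ T, ∀ v ∈ V i, ∃ z ∈ Z, e * v * e⁻¹ = s * v * s⁻¹ * z := by
  classical
  have h0 : ∀ v ∈ V i, ∃ v', v' ∈ V i ∧ ∃ z ∈ Z, e * v * e⁻¹ = v' * z := fun v hv => by
    obtain ⟨v', hv', z, hz, e1⟩ := H.e_pres heP hF hv
    exact ⟨v', hv', z, hz, e1⟩
  have huniq : ∀ v ∈ V i, ∀ z ∈ Z, ∀ v' ∈ V i, ∀ z' ∈ Z, v * z = v' * z' → v = v' := by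
    intro v hv z hz v' hv' z' hz' h1
    have h2 : v'⁻¹ * v = z' * z⁻¹ := by
      calc v'⁻¹ * v = v'⁻¹ * (v * z) * z⁻¹ := by group
        _ = _ := by rw [h1]; group
    have h3 : v'⁻¹ * v = 1 := H.VZ (mul_mem (inv_mem hv') hv) (by rw [h2]; exact mul_mem hz' (inv_mem hz))
    exact (inv_mul_eq_one.1 h3).symm
  choose! f hf1 z hz e1 using h0
  have m1 : ∀ u ∈ V i, ∀ v ∈ V i, f (u * v) = f u * f v := by
    intro u hu v hv
    refine huniq _ (hf1 _ (mul_mem hu hv)) (z (u * v)) (hz _ (mul_mem hu hv)) _ (mul_mem (hf1 u hu) (hf1 v hv))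
      (z u * z v) (mul_mem (hz u hu) (hz v hv)) ?_
    rw [← e1 _ (mul_mem hu hv)]
    have h1 : z u * f v = f v * z u := (H.cenQ (H.VQ i (hf1 v hv)) (hz u hu)).symm
    calc e * (u * v) * e⁻¹ = (e * u * e⁻¹) * (e * v * e⁻¹) := by group
      _ = (f u * z u) * (f v * z v) := by rw [e1 u hu, e1 v hv]
      _ = f u * (z u * f v) * z v := by group
      _ = _ := by rw [h1]; group
  have m2 : ∀ v ∈ V i, f v = 1 → v = 1 := by
    intro v hv h1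
    have h2 := e1 v hv
    rw [h1, one_mul] at h2
    -- `e v e⁻¹ ∈ Z`, so `v ∈ Z`
    have hinj : Function.Injective (fun z : Z => (⟨e * z.1 * e⁻¹, hZ z.1 z.2⟩ : Z)) := by
      intro z z' hzz
      have h1 : e * z.1 * e⁻¹ = e * z'.1 * e⁻¹ := congrArg Subtype.val hzz
      exact Subtype.ext (mul_left_cancel (mul_right_cancel h1))
    obtain ⟨z', hz'⟩ := (Finite.injective_iff_surjective.1 hinj) ⟨z v, hz v hv⟩
    have h3 : e * z'.1 * e⁻¹ = z v := congrArg Subtype.val hz'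
    rw [← h2] at h3
    have h4 : z'.1 = v := mul_left_cancel (mul_right_cancel h3)
    exact H.VZ hv (h4 ▸ z'.2)
  have m3 : ∀ t ∈ T, t ∈ P → ∀ v ∈ V i, f (t * v * t⁻¹) = t * f v * t⁻¹ := by
    intro t ht htP v hv
    set q := e * t * e⁻¹ * t⁻¹ with hq
    have hqQ : q ∈ Q := heP t htP
    have htv : t * v * t⁻¹ ∈ V i := H.TV t ht i v hv
    have h1 : t * f v * t⁻¹ ∈ V i := H.TV t ht i _ (hf1 v hv)
    have h2 : t * z v * t⁻¹ ∈ Z := H.TZ t ht _ (hz v hv)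
    have h3 : (t * f v * t⁻¹) * (t * z v * t⁻¹) ∈ Q := mul_mem (H.VQ i h1) (H.ZQ h2)
    have h4 : ⁅q, (t * f v * t⁻¹) * (t * z v * t⁻¹)⁆ ∈ Z := H.br_Q hqQ h3
    refine huniq _ (hf1 _ htv) (z (t * v * t⁻¹)) (hz _ htv) _ h1
      ((t * z v * t⁻¹) * ⁅q, (t * f v * t⁻¹) * (t * z v * t⁻¹)⁆) (mul_mem h2 h4) ?_
    rw [← e1 _ htv]
    have h5 : q * t = e * t * e⁻¹ := by rw [hq]; group
    have h6 := H.cenQ h3 h4
    calc e * (t * v * t⁻¹) * e⁻¹ = (e * t * e⁻¹) * (e * v * e⁻¹) * (e * t * e⁻¹)⁻¹ := by group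
      _ = (q * t) * (f v * z v) * (q * t)⁻¹ := by rw [h5, e1 v hv]
      _ = ⁅q, (t * f v * t⁻¹) * (t * z v * t⁻¹)⁆ * ((t * f v * t⁻¹) * (t * z v * t⁻¹)) := by
          rw [commutatorElement_def]; group
      _ = _ := by rw [← h6]; group
  obtain ⟨s, hs, es⟩ := hL f hf1 m1 m2 m3
  exact ⟨s, hs, fun v hv => ⟨z v, hz v hv, by rw [e1 v hv, es v hv]⟩⟩

omit [Finite ι] in
/-- **(k4)** -/
theorem k4 [Finite ↥Z] {i : ι} (hF : Fix P Q Z V i) (hL : Lin P T V i) (hF' : Fix P Q Z V (st i))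
    (hL' : Lin P T V (st i)) (hsurj : ∃ v ∈ V i, ∀ z ∈ Z, ∃ w ∈ V (st i), ⁅v, w⁆ = z)
    {T0 : Subgroup Y} (hT0 : T0 ≤ T) (tr : ∀ x ∈ Z, x ≠ 1 → ∀ y ∈ Z, y ≠ 1 → ∃ t ∈ T0, t * x * t⁻¹ = y)
    (hZ : ∀ z ∈ Z, e * z * e⁻¹ ∈ Z) : ∃ t ∈ T0, ∀ z ∈ Z, e * z * e⁻¹ = t * z * t⁻¹ := by
  obtain ⟨s, hsT, es⟩ := H.e_act heP hF hL hZ
  obtain ⟨s', hsT', es'⟩ := H.e_act heP hF' hL' hZ
  -- the action of `e` on `⁅v, w⁆`
  have hact : ∀ v ∈ V i, ∀ w ∈ V (st i), e * ⁅v, w⁆ * e⁻¹ = ⁅s * v * s⁻¹, s' * w * s'⁻¹⁆ := by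
    intro v hv w hw
    obtain ⟨z, hz, e1⟩ := es v hv
    obtain ⟨z', hz', e2⟩ := es' w hw
    have h1 : s * v * s⁻¹ ∈ Q := H.VQ i (H.TV s hsT i v hv)
    have h2 : s' * w * s'⁻¹ ∈ Q := H.VQ _ (H.TV s' hsT' _ w hw)
    have e3 : e * ⁅v, w⁆ * e⁻¹ = ⁅e * v * e⁻¹, e * w * e⁻¹⁆ := by simp only [commutatorElement_def]; group
    rw [e3, e1, e2]
    have c1 : Commute z (s' * w * s'⁻¹) := (H.cenQ h2 hz).symm
    have c2 : Commute z' (s * v * s⁻¹) := (H.cenQ h1 hz').symm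
    have c3 : Commute z z' := (H.cenQ (H.ZQ hz) hz')
    set a := s * v * s⁻¹
    set c := s' * w * s'⁻¹
    rw [commutatorElement_def, commutatorElement_def]
    calc a * z * (c * z') * (a * z)⁻¹ * (c * z')⁻¹ = a * (z * (c * z')) * z⁻¹ * a⁻¹ * z'⁻¹ * c⁻¹ := by group
      _ = a * ((c * z') * z) * z⁻¹ * a⁻¹ * z'⁻¹ * c⁻¹ := by rw [(c1.mul_right c3).eq]
      _ = a * c * (z' * a⁻¹) * z'⁻¹ * c⁻¹ := by group
      _ = a * c * (a⁻¹ * z') * z'⁻¹ * c⁻¹ := by rw [(c2.inv_right).eq]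
      _ = a * c * a⁻¹ * c⁻¹ := by group
  obtain ⟨v1, hv1, hv2⟩ := hsurj
  -- `e` commutes with `T` on `Z`
  have hcomm : ∀ t ∈ T, ∀ z ∈ Z, e * (t * z * t⁻¹) * e⁻¹ = t * (e * z * e⁻¹) * t⁻¹ := by
    intro t ht z hz
    obtain ⟨w, hw, rfl⟩ := hv2 z hz
    have h1 : t * ⁅v1, w⁆ * t⁻¹ = ⁅t * v1 * t⁻¹, t * w * t⁻¹⁆ := by simp only [commutatorElement_def]; group
    rw [h1, hact _ (H.TV t ht i _ hv1) _ (H.TV t ht _ _ hw), hact v1 hv1 w hw]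
    have h2 := H.Tab s hsT t ht
    have h3 := H.Tab s' hsT' t ht
    have e1 : s * (t * v1 * t⁻¹) * s⁻¹ = t * (s * v1 * s⁻¹) * t⁻¹ := by
      calc s * (t * v1 * t⁻¹) * s⁻¹ = (s * t) * v1 * (s * t)⁻¹ := by group
        _ = _ := by rw [h2]; group
    have e2 : s' * (t * w * t⁻¹) * s'⁻¹ = t * (s' * w * s'⁻¹) * t⁻¹ := by
      calc s' * (t * w * t⁻¹) * s'⁻¹ = (s' * t) * w * (s' * t)⁻¹ := by group
        _ = _ := by rw [h3]; group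
    rw [e1, e2]
    simp only [commutatorElement_def]; group
  by_cases hne : ∃ z ∈ Z, z ≠ 1
  · obtain ⟨z0, hz0, hz01⟩ := hne
    have he0 : e * z0 * e⁻¹ ≠ 1 := by
      intro h0
      apply hz01
      calc z0 = e⁻¹ * (e * z0 * e⁻¹) * e := by group
        _ = 1 := by rw [h0]; group
    obtain ⟨t, ht, et⟩ := tr z0 hz0 hz01 _ (hZ z0 hz0) he0
    refine ⟨t, ht, fun z hz => ?_⟩
    by_cases hz1 : z = 1
    · subst hz1; group
    obtain ⟨k, hk, rfl⟩ := tr z0 hz0 hz01 z hz hz1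
    rw [hcomm k (hT0 hk) z0 hz0, ← et]
    have h1 := H.Tab t (hT0 ht) k (hT0 hk)
    calc k * (t * z0 * t⁻¹) * k⁻¹ = (k * t) * z0 * (k * t)⁻¹ := by group
      _ = (t * k) * z0 * (t * k)⁻¹ := by rw [h1]
      _ = _ := by group
  · push Not at hne
    refine ⟨1, one_mem _, fun z hz => ?_⟩
    rw [hne z hz]; group

end Aut

section B

variable {y : Y} (hyP : ∀ p ∈ P, y * p * y⁻¹ * p⁻¹ ∈ Q) (hyX : ∀ z ∈ Z, y * z = z * y) {N : ℕ} (hy2 : y ^ 2 ^ N = 1)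

include hyP hyX hy2

omit [Finite ι] in
/-- (B1) for `V i` -/
theorem y_triv0 [Finite ↥Z] {i : ι} (hF : Fix P Q Z V i) (hL : Lin P T V i) {v : Y} (hv : v ∈ V i) :
    ⁅y, v⁆ ∈ Z := by
  have hXr : ∀ z ∈ Z, y * z * y⁻¹ ∈ Z := fun z hz => by
    have : y * z * y⁻¹ = z := by rw [hyX z hz]; group
    rwa [this]
  obtain ⟨s, hsT, es⟩ := H.e_act hyP hF hL hXr
  have key : ∀ k : ℕ, ∃ z ∈ Z, y ^ k * v * (y ^ k)⁻¹ = s ^ k * v * (s ^ k)⁻¹ * z := by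
    intro k
    induction k with
    | zero => exact ⟨1, one_mem _, by simp⟩
    | succ k ih =>
      obtain ⟨z, hz, e1⟩ := ih
      have h1 : s ^ k * v * (s ^ k)⁻¹ ∈ V i := H.TV _ (pow_mem hsT k) i v hv
      obtain ⟨z', hz', e2⟩ := es _ h1
      refine ⟨z' * z, mul_mem hz' hz, ?_⟩
      calc y ^ (k + 1) * v * (y ^ (k + 1))⁻¹ = y * (y ^ k * v * (y ^ k)⁻¹) * y⁻¹ := by
            rw [pow_succ']; group
        _ = (y * (s ^ k * v * (s ^ k)⁻¹) * y⁻¹) * (y * z * y⁻¹) := by rw [e1]; group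
        _ = (y * (s ^ k * v * (s ^ k)⁻¹) * y⁻¹) * z := by
            have : y * z * y⁻¹ = z := by rw [hyX z hz]; group
            rw [this]
        _ = s * (s ^ k * v * (s ^ k)⁻¹) * s⁻¹ * (z' * z) := by rw [e2]; group
        _ = _ := by rw [pow_succ']; group
  obtain ⟨z, hz, e1⟩ := key (2 ^ N)
  rw [hy2, one_mul, inv_one, mul_one] at e1
  have h1 : s ^ 2 ^ N * v * (s ^ 2 ^ N)⁻¹ ∈ V i := H.TV _ (pow_mem hsT _) i v hv
  have h2 : z = 1 := by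
    refine H.VZ (i := i) ?_ hz
    have h4 : z = (s ^ 2 ^ N * v * (s ^ 2 ^ N)⁻¹)⁻¹ * v := by
      calc z = (s ^ 2 ^ N * v * (s ^ 2 ^ N)⁻¹)⁻¹ * (s ^ 2 ^ N * v * (s ^ 2 ^ N)⁻¹ * z) := by group
        _ = _ := by rw [← e1]
    rw [h4]
    exact (V i).mul_mem ((V i).inv_mem h1) hv
  rw [h2, mul_one] at e1
  -- `s` commutes with `v`
  have h3 : Commute (s ^ 2 ^ N) v := by
    show s ^ 2 ^ N * v = v * s ^ 2 ^ N
    calc s ^ 2 ^ N * v = (s ^ 2 ^ N * v * (s ^ 2 ^ N)⁻¹) * s ^ 2 ^ N := by group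
      _ = v * s ^ 2 ^ N := by rw [← e1]
  have h4 : Commute s v := by
    have hcop : (orderOf s).Coprime (2 ^ N) := by
      have h5 : orderOf s ∣ Nat.card T := Subgroup.orderOf_dvd_natCard T hsT
      exact (Nat.Coprime.pow_right N (Nat.Coprime.coprime_dvd_left h5 H.Todd))
    have h5 : s ∈ Subgroup.zpowers (s ^ 2 ^ N) := by
      have h6 := (Nat.Coprime.symm hcop)
      obtain ⟨m, hm⟩ := exists_pow_eq_self_of_coprime h6
      exact Subgroup.mem_zpowers_iff.2 ⟨m, by rw [zpow_natCast]; exact hm⟩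
    obtain ⟨m, hm⟩ := h5
    have : s = (s ^ 2 ^ N) ^ m := hm.symm
    rw [this]
    exact h3.zpow_left m
  obtain ⟨z', hz', e2⟩ := es v hv
  have h5 : s * v * s⁻¹ = v := by rw [h4.eq]; group
  rw [h5] at e2
  have h6 : ⁅y, v⁆ = v * z' * v⁻¹ := by rw [commutatorElement_def, e2]
  rw [h6, H.cenQ (H.VQ i hv) hz', mul_assoc, mul_inv_cancel, mul_one]
  exact hz'

omit hy2 [Finite ι] in
/-- (B1) -/
theorem y_triv {i : ι} (h0 : ∀ v ∈ V i, ⁅y, v⁆ ∈ Z)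
    (hncl : ∀ q ∈ Q, (∀ p ∈ P, ∀ v ∈ V i, q * (p * v * p⁻¹) = (p * v * p⁻¹) * q) → q ∈ Z) {q : Y} (hq : q ∈ Q) :
    ⁅y, q⁆ ∈ Z := by
  have hyq : y * q * y⁻¹ ∈ Q := H.e_mem_Q hyP hq
  have hyqQ : ⁅y, q⁆ ∈ Q := by rw [commutatorElement_def]; exact mul_mem hyq (inv_mem hq)
  refine hncl _ hyqQ fun p hp v hv => ?_
  set w := p * v * p⁻¹ with hw
  have hwQ : w ∈ Q := H.QN p hp v (H.VQ i hv)
  -- `y w y⁻¹ = w z`
  have h1 : ∃ z ∈ Z, y * w * y⁻¹ = z * w := by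
    set q' := y * p * y⁻¹ * p⁻¹ with hq'
    have hqQ' : q' ∈ Q := hyP p hp
    have h2 := h0 v hv
    have h3 : ⁅q', w⁆ ∈ Z := H.br_Q hqQ' hwQ
    refine ⟨⁅y, v⁆ * ⁅q', w⁆, mul_mem h2 h3, ?_⟩
    have h4 : y * p = q' * p * y := by rw [hq']; group
    have h5 : p * ⁅y, v⁆ = ⁅y, v⁆ * p := H.cen p hp _ h2
    have h6 : q' * ⁅y, v⁆ = ⁅y, v⁆ * q' := H.cenQ hqQ' h2
    calc y * w * y⁻¹ = (y * p) * v * (y * p)⁻¹ := by rw [hw]; group
      _ = q' * p * (⁅y, v⁆ * v) * p⁻¹ * q'⁻¹ := by rw [h4, commutatorElement_def]; group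
      _ = q' * (p * ⁅y, v⁆) * v * p⁻¹ * q'⁻¹ := by group
      _ = (q' * ⁅y, v⁆) * w * q'⁻¹ := by rw [h5, hw]; group
      _ = ⁅y, v⁆ * (q' * w * q'⁻¹) := by rw [h6]; group
      _ = _ := by rw [commutatorElement_def q']; group
  obtain ⟨z, hz, e1⟩ := h1
  -- `⁅y q y⁻¹, w⁆ = ⁅q, w⁆`
  have h2 : ⁅y * q * y⁻¹, z * w⁆ = ⁅q, w⁆ := by
    rw [← e1]
    have h3 : ⁅y * q * y⁻¹, y * w * y⁻¹⁆ = y * ⁅q, w⁆ * y⁻¹ := by simp only [commutatorElement_def]; group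
    rw [h3, hyX _ (H.br_Q hq hwQ)]; group
  have h3 : ⁅y * q * y⁻¹, z * w⁆ = ⁅y * q * y⁻¹, w⁆ := by
    have h4 : (y * q * y⁻¹) * z = z * (y * q * y⁻¹) := H.cenQ hyq hz
    rw [commutatorElement_def, commutatorElement_def (y * q * y⁻¹)]
    calc y * q * y⁻¹ * (z * w) * (y * q * y⁻¹)⁻¹ * (z * w)⁻¹
        = ((y * q * y⁻¹) * z) * w * (y * q * y⁻¹)⁻¹ * w⁻¹ * z⁻¹ := by group
      _ = z * ((y * q * y⁻¹) * w * (y * q * y⁻¹)⁻¹ * w⁻¹) * z⁻¹ := by rw [h4]; group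
      _ = (y * q * y⁻¹) * w * (y * q * y⁻¹)⁻¹ * w⁻¹ := by
          have h5 : ⁅y * q * y⁻¹, w⁆ ∈ Z := H.br_Q hyq hwQ
          rw [commutatorElement_def] at h5
          rw [← H.cenQ (H.ZQ h5) hz]; group
  rw [h3] at h2
  -- `⁅y q y⁻¹ q⁻¹, w⁆ = 1`
  have h4 : y * q * y⁻¹ = ⁅y, q⁆ * q := by rw [commutatorElement_def]; group
  rw [h4] at h2
  have h5 : ⁅⁅y, q⁆ * q, w⁆ = (⁅y, q⁆ * ⁅q, w⁆ * ⁅y, q⁆⁻¹) * ⁅⁅y, q⁆, w⁆ := by
    simp only [commutatorElement_def]; group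
  rw [h5, H.cenQ hyqQ (H.br_Q hq hwQ), mul_inv_cancel_right] at h2
  exact commutatorElement_eq_one_iff_mul_comm.1 (mul_eq_left.1 h2)

omit hyP hyX hy2 [Finite ι] in
theorem xi_mul (htr : ∀ q ∈ Q, ⁅y, q⁆ ∈ Z) {v w : Y} (hv : v ∈ Q) (hw : w ∈ Q) :
    ⁅y, v * w⁆ = ⁅y, v⁆ * ⁅y, w⁆ := by
  have h1 := htr w hw
  have h2 : v * ⁅y, w⁆ = ⁅y, w⁆ * v := H.cenQ hv h1
  have h3 : ⁅y, v * w⁆ = ⁅y, v⁆ * (v * ⁅y, w⁆ * v⁻¹) := by simp only [commutatorElement_def]; group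
  rw [h3, h2]; group

omit hyX hy2 [Finite ι] in
/-- (B2), (B3) : on `V i` the element `y` acts as an element of `V (st i)`. -/
theorem exists_c (htr : ∀ q ∈ Q, ⁅y, q⁆ ∈ Z) {i : ι} [Finite ↥(V i)] [Finite ↥(V (st i))]
    (hk : ∃ k ∈ T, k ∈ P ∧ (∀ v ∈ V i, k * v * k⁻¹ = v → v = 1) ∧ ∀ v ∈ V (st i), k * v * k⁻¹ = v → v = 1) :
    ∃ c ∈ V (st i), ∀ v ∈ V i, ⁅y, v⁆ = ⁅c, v⁆ := by
  obtain ⟨k, hkT, hkP, hf, hf'⟩ := hk
  have hkr : ∀ z ∈ Z, k * z * k⁻¹ = z := fun z hz => by rw [H.cen k hkP z hz]; group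
  have hkb : ∀ v ∈ V i, k * v * k⁻¹ ∈ V i := fun v hv => H.TV k hkT i v hv
  have hkb'' : ∀ v ∈ V (st i), k⁻¹ * v * k ∈ V (st i) := fun v hv => by
    have := H.TV k⁻¹ (inv_mem hkT) (st i) v hv
    rwa [inv_inv] at this
  -- the element `q`
  set q := y * k * y⁻¹ * k⁻¹ with hqd
  have hqQ : q ∈ Q := hyP k hkP
  have hqQ' := hqQ
  rw [H.Q_eq] at hqQ'
  obtain ⟨c', hc', q', hq', e1⟩ := H.QS_split (st i) hqQ'
  have hqc : ∀ v ∈ V i, ⁅q, v⁆ = ⁅c', v⁆ := by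
    intro v hv
    have h1 : q' * v = v * q' := by
      refine H.QS_comm ?_ hq' hv
      exact fun h0 => h0.2 rfl
    rw [e1, commutatorElement_def, commutatorElement_def]
    calc c' * q' * v * (c' * q')⁻¹ * v⁻¹ = c' * (q' * v) * q'⁻¹ * c'⁻¹ * v⁻¹ := by group
      _ = _ := by rw [h1]; group
  -- choose `c`
  have hkinv : ∀ v ∈ V (st i), k⁻¹ * v * k⁻¹⁻¹ ∈ V (st i) := fun v hv => by
    rw [inv_inv]; exact hkb'' v hv
  obtain ⟨c, hc, ec⟩ := surj_comm (V := V (st i)) (H.ab (st i)) hkinv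
    (fun v hv he => by
      refine hf' v hv ?_
      calc k * v * k⁻¹ = k * (k⁻¹ * v * k⁻¹⁻¹) * k⁻¹ := by rw [he]
        _ = v := by group) (hkb'' c' hc')
  refine ⟨c, hc, fun u hu => ?_⟩
  obtain ⟨v, hv, rfl⟩ := surj_comm (H.ab i) hkb hf hu
  have hvi : v⁻¹ = v := inv_eq_of_mul_eq_one_right (H.sq i v hv)
  have hci : c⁻¹ = c := inv_eq_of_mul_eq_one_right (H.sq _ c hc)
  have hbr : ∀ {c v : Y}, c ∈ V (st i) → v ∈ V i → ⁅c, v⁆ ∈ Z := fun hc hv => H.br' hc hv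
  have hinv : ⁅y, v⁻¹⁆ = ⁅y, v⁆⁻¹ := by
    have h1 := H.xi_mul htr (H.VQ i hv) (inv_mem (H.VQ i hv))
    rw [mul_inv_cancel] at h1
    have h2 : ⁅y, (1 : Y)⁆ = 1 := by simp [commutatorElement_def]
    rw [h2] at h1
    exact (eq_inv_of_mul_eq_one_right h1.symm)
  -- left hand side
  have hL : ⁅y, k * v * k⁻¹⁆ = ⁅y, v⁆ * ⁅q, k * v * k⁻¹⁆ := by
    have h1 := htr v (H.VQ i hv)
    have h2 : k * ⁅y, v⁆ * k⁻¹ = ⁅y, v⁆ := hkr _ h1
    have h3 : q * ⁅y, v⁆ = ⁅y, v⁆ * q := H.cenQ hqQ h1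
    have h4 : y * k = q * k * y := by rw [hqd]; group
    have h5 : y * k * v * k⁻¹ * y⁻¹ = ⁅y, v⁆ * (q * (k * v * k⁻¹) * q⁻¹) := by
      calc y * k * v * k⁻¹ * y⁻¹ = (y * k) * v * (y * k)⁻¹ := by group
        _ = q * (k * (y * v * y⁻¹) * k⁻¹) * q⁻¹ := by rw [h4]; group
        _ = q * (k * (⁅y, v⁆ * v) * k⁻¹) * q⁻¹ := by rw [commutatorElement_def]; group
        _ = q * ((k * ⁅y, v⁆ * k⁻¹) * (k * v * k⁻¹)) * q⁻¹ := by group
        _ = (q * ⁅y, v⁆) * (k * v * k⁻¹) * q⁻¹ := by rw [h2]; group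
        _ = _ := by rw [h3]; group
    calc ⁅y, k * v * k⁻¹⁆ = (y * k * v * k⁻¹ * y⁻¹) * (k * v * k⁻¹)⁻¹ := by
          rw [commutatorElement_def]; group
      _ = _ := by rw [h5, commutatorElement_def q]; group
  have hL2 : ⁅y, k * v * k⁻¹ * v⁻¹⁆ = ⁅c', k * v * k⁻¹⁆ := by
    rw [H.xi_mul htr (H.VQ i (hkb v hv)) (inv_mem (H.VQ i hv)), hinv, hL, hqc _ (hkb v hv)]
    have h1 := htr v (H.VQ i hv)
    have h2 := H.cenQ (H.ZQ h1) (hbr hc' (hkb v hv))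
    rw [h2]; group
  -- right hand side
  have hmul : ∀ {c v w : Y}, c ∈ V (st i) → v ∈ V i → w ∈ V i → ⁅c, v * w⁆ = ⁅c, v⁆ * ⁅c, w⁆ := by
    intro c v w hc hv hw
    have h1 : ⁅c, v * w⁆ = ⁅c, v⁆ * (v * ⁅c, w⁆ * v⁻¹) := by simp only [commutatorElement_def]; group
    rw [h1, H.cenQ (H.VQ i hv) (hbr hc hw)]; group
  have hR : ⁅c, k * v * k⁻¹ * v⁻¹⁆ = ⁅c, k * v * k⁻¹⁆ * ⁅c, v⁆ := by
    rw [hvi, hmul hc (hkb v hv) hv]
  have hR2 : ⁅c, k * v * k⁻¹⁆ = ⁅k⁻¹ * c * k, v⁆ := by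
    have h1 : ⁅c, k * v * k⁻¹⁆ = k * ⁅k⁻¹ * c * k, v⁆ * k⁻¹ := by simp only [commutatorElement_def]; group
    rw [h1]
    exact hkr _ (hbr (hkb'' c hc) hv)
  have hR3 : ⁅c', k * v * k⁻¹⁆ = ⁅k⁻¹ * c' * k, v⁆ := by
    have h1 : ⁅c', k * v * k⁻¹⁆ = k * ⁅k⁻¹ * c' * k, v⁆ * k⁻¹ := by simp only [commutatorElement_def]; group
    rw [h1]
    exact hkr _ (hbr (hkb'' c' hc') hv)
  rw [hL2, hR, hR2, hR3, ← ec, hci, inv_inv]
  -- `⁅k⁻¹ c k * c, v⁆ = ⁅k⁻¹ c k, v⁆ ⁅c, v⁆`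
  set d := k⁻¹ * c * k with hd
  have hdm : d ∈ V (st i) := hkb'' c hc
  have h1 : ⁅d * c, v⁆ = (d * ⁅c, v⁆ * d⁻¹) * ⁅d, v⁆ := by simp only [commutatorElement_def]; group
  have h2 : d * ⁅c, v⁆ = ⁅c, v⁆ * d := H.cenQ (H.VQ _ hdm) (hbr hc hv)
  rw [h1, h2]
  have h3 : ⁅c, v⁆ * ⁅d, v⁆ = ⁅d, v⁆ * ⁅c, v⁆ := H.cenQ (H.ZQ (hbr hc hv)) (hbr hdm hv)
  rw [mul_inv_cancel_right, h3]

omit hyX hy2 in
/-- (B4) -/
theorem exists_q (htr : ∀ q ∈ Q, ⁅y, q⁆ ∈ Z) [∀ i, Finite ↥(V i)]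
    (hk : ∀ i, ∃ k ∈ T, k ∈ P ∧ (∀ v ∈ V i, k * v * k⁻¹ = v → v = 1) ∧ ∀ v ∈ V (st i), k * v * k⁻¹ = v → v = 1) :
    ∃ q ∈ Q, ∀ i, ∀ v ∈ V i, ⁅q, v⁆ = ⁅y, v⁆ := by
  classical
  have := Fintype.ofFinite ι
  have key : ∀ D : Finset ι, ∃ q ∈ Q,
      (∀ i ∈ D, ∀ v ∈ V i, ⁅q, v⁆ = ⁅y, v⁆) ∧ ∀ i, i ∉ D → ∀ v ∈ V i, ⁅q, v⁆ = 1 := by
    intro D
    induction D using Finset.induction_on with
    | empty =>
      exact ⟨1, one_mem _, fun b hb => absurd hb (Finset.notMem_empty b), fun b _ v _ => by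
        simp [commutatorElement_def]⟩
    | insert b D hbD ih =>
      obtain ⟨q, hq1, h1, h2⟩ := ih
      obtain ⟨c, hc, ec⟩ := H.exists_c hyP htr (hk b)
      have hcm : c ∈ Q := H.VQ _ hc
      have hmul : ∀ b', ∀ v ∈ V b', ⁅c * q, v⁆ = ⁅q, v⁆ * ⁅c, v⁆ := by
        intro b' v hv
        have h3 : ⁅q, v⁆ ∈ Z := H.br_Q hq1 (H.VQ _ hv)
        have h4 : ⁅c * q, v⁆ = (c * ⁅q, v⁆ * c⁻¹) * ⁅c, v⁆ := by simp only [commutatorElement_def]; group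
        rw [h4, H.cenQ hcm h3]; group
      have hc1 : ∀ b', b' ≠ b → ∀ v ∈ V b', ⁅c, v⁆ = 1 := by
        intro b' hne v hv
        rw [commutatorElement_eq_one_iff_mul_comm]
        exact H.comm1 (st b) b' (by rwa [H.stst]) c hc v hv
      refine ⟨c * q, mul_mem hcm hq1, ?_, ?_⟩
      · intro b' hb' v hv
        rw [hmul b' v hv]
        by_cases hbb : b' = b
        · subst hbb
          rw [h2 b' hbD v hv, one_mul, ec v hv]
        · rw [h1 b' (Finset.mem_of_mem_insert_of_ne hb' hbb) v hv, hc1 b' hbb v hv, mul_one]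
      · intro b' hn v hv
        rw [Finset.mem_insert, not_or] at hn
        rw [hmul b' v hv, h2 b' hn.2 v hv, one_mul, hc1 b' hn.1 v hv]
  obtain ⟨q, hq1, h1, -⟩ := key Finset.univ
  exact ⟨q, hq1, fun b v hv => h1 b (Finset.mem_univ b) v hv⟩

/-- **(B)** -/
theorem B [Finite ↥Z] [∀ i, Finite ↥(V i)] {i : ι} (hF : Fix P Q Z V i) (hL : Lin P T V i)
    (hncl : ∀ q ∈ Q, (∀ p ∈ P, ∀ v ∈ V i, q * (p * v * p⁻¹) = (p * v * p⁻¹) * q) → q ∈ Z)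
    (hk : ∀ i, ∃ k ∈ T, k ∈ P ∧ (∀ v ∈ V i, k * v * k⁻¹ = v → v = 1) ∧ ∀ v ∈ V (st i), k * v * k⁻¹ = v → v = 1)
    (hP : P ≤ ⁅P, P⁆) : ∃ q ∈ Q, ∀ p ∈ P, y * p * y⁻¹ = q * p * q⁻¹ := by
  have htr : ∀ q ∈ Q, ⁅y, q⁆ ∈ Z := fun q hq =>
    H.y_triv hyP hyX (fun v hv => H.y_triv0 hyP hyX hy2 hF hL hv) hncl hq
  obtain ⟨q, hqQ, hq1⟩ := H.exists_q hyP htr hk
  refine ⟨q, hqQ, ?_⟩
  set y' := q⁻¹ * y with hy'
  -- `y'` centralises `V b`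
  have h1 : ∀ b, ∀ v ∈ V b, y' * v = v * y' := by
    intro b v hv
    have h2 := hq1 b v hv
    rw [commutatorElement_def, commutatorElement_def] at h2
    have h3 : q * v * q⁻¹ = y * v * y⁻¹ := mul_right_cancel h2
    calc y' * v = q⁻¹ * (y * v * y⁻¹) * y := by rw [hy']; group
      _ = v * y' := by rw [← h3, hy']; group
  have h1z : ∀ v ∈ Z, y' * v = v * y' := by
    intro v hv
    rw [hy', mul_assoc, hyX v hv, ← mul_assoc, H.cenQ (inv_mem hqQ) hv, mul_assoc]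
  have h2 : ∀ w ∈ Q, y' * w = w * y' := by
    have h3 : Q ≤ Subgroup.centralizer {y'} := by
      refine le_trans H.gen (sup_le (iSup_le fun b v hv => ?_) fun v hv => ?_)
      · rw [Subgroup.mem_centralizer_singleton_iff]
        exact (h1 b v hv).symm
      · rw [Subgroup.mem_centralizer_singleton_iff]
        exact (h1z v hv).symm
    intro w hw
    exact (Subgroup.mem_centralizer_singleton_iff.1 (h3 hw)).symm
  -- `[y', p] ∈ Z`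
  have h3 : ∀ p ∈ P, y' * p * y'⁻¹ * p⁻¹ ∈ Z := by
    intro p hp
    have h4 : y' * p * y'⁻¹ * p⁻¹ ∈ Q := by
      have h5 : y' * p * y'⁻¹ * p⁻¹ = q⁻¹ * (y * p * y⁻¹ * p⁻¹) * (p * q * p⁻¹) := by rw [hy']; group
      rw [h5]
      exact mul_mem (mul_mem (inv_mem hqQ) (hyP p hp)) (H.QN p hp q hqQ)
    refine H.mem_Z h4 fun j w hw => ?_
    have hwQ : w ∈ Q := H.VQ j hw
    have h6 : p⁻¹ * w * p ∈ Q := by
      have := H.QN p⁻¹ (inv_mem hp) w hwQ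
      rwa [inv_inv] at this
    have h7 := h2 _ h6
    have h8 := h2 _ hwQ
    calc y' * p * y'⁻¹ * p⁻¹ * w = y' * p * (y'⁻¹ * (p⁻¹ * w * p)) * p⁻¹ := by group
      _ = y' * p * ((p⁻¹ * w * p) * y'⁻¹) * p⁻¹ := by
          have : y'⁻¹ * (p⁻¹ * w * p) = (p⁻¹ * w * p) * y'⁻¹ := (Commute.inv_left h7).eq
          rw [this]
      _ = (y' * w) * (p * y'⁻¹ * p⁻¹) := by group
      _ = w * (y' * p * y'⁻¹ * p⁻¹) := by rw [h8]; group
  -- `y'` centralises `P`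
  have h4 : ⁅P, P⁆ ≤ Subgroup.centralizer {y'} := by
    rw [Subgroup.commutator_le]
    intro k hkP v hvP
    rw [Subgroup.mem_centralizer_singleton_iff]
    set zk := y' * k * y'⁻¹ * k⁻¹ with hzk
    set zv := y' * v * y'⁻¹ * v⁻¹ with hzv
    have hzkr : zk ∈ Z := h3 k hkP
    have hzvr : zv ∈ Z := h3 v hvP
    have e1 : y' * k * y'⁻¹ = zk * k := by rw [hzk]; group
    have e2 : y' * v * y'⁻¹ = zv * v := by rw [hzv]; group
    have c1 : Commute zk k := (H.cen k hkP zk hzkr).symm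
    have c2 : Commute zk v := (H.cen v hvP zk hzkr).symm
    have c3 : Commute zv k := (H.cen k hkP zv hzvr).symm
    have c4 : Commute zv v := (H.cen v hvP zv hzvr).symm
    have c5 : Commute zk zv := H.cenQ (H.ZQ hzkr) hzvr
    have e3 : y' * (k * v * k⁻¹ * v⁻¹) * y'⁻¹ = k * v * k⁻¹ * v⁻¹ := by
      calc y' * (k * v * k⁻¹ * v⁻¹) * y'⁻¹
          = (y' * k * y'⁻¹) * (y' * v * y'⁻¹) * (y' * k * y'⁻¹)⁻¹ * (y' * v * y'⁻¹)⁻¹ := by group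
        _ = (zk * k) * (zv * v) * (zk * k)⁻¹ * (zv * v)⁻¹ := by rw [e1, e2]
        _ = zk * (k * (zv * v)) * k⁻¹ * (zk⁻¹ * (v⁻¹ * zv⁻¹)) := by group
        _ = zk * (k * (zv * v)) * k⁻¹ * ((v⁻¹ * zv⁻¹) * zk⁻¹) := by
            rw [((c2.inv_right.mul_right c5.inv_right).inv_left).eq]
        _ = zk * ((k * zv) * v * k⁻¹ * v⁻¹ * zv⁻¹) * zk⁻¹ := by group
        _ = zk * (zv * (k * v * k⁻¹ * v⁻¹) * zv⁻¹) * zk⁻¹ := by rw [← c3.eq]; group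
        _ = zk * (k * v * k⁻¹ * v⁻¹) * zk⁻¹ := by
            rw [(((c3.mul_right c4).mul_right c3.inv_right).mul_right c4.inv_right).eq]; group
        _ = _ := by
            rw [(((c1.mul_right c2).mul_right c1.inv_right).mul_right c2.inv_right).eq]; group
    rw [commutatorElement_def]
    calc (k * v * k⁻¹ * v⁻¹) * y' = (y' * (k * v * k⁻¹ * v⁻¹) * y'⁻¹) * y' := by rw [e3]
      _ = y' * (k * v * k⁻¹ * v⁻¹) := by group
  intro p hp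
  have h6 : y' * p = p * y' := (Subgroup.mem_centralizer_singleton_iff.1 (h4 (hP hp))).symm
  calc y * p * y⁻¹ = q * (y' * p) * (q * y')⁻¹ := by rw [hy']; group
    _ = q * p * q⁻¹ := by rw [h6]; group

end B

end Spec

end Cfsg.Agent.KFacts.SpecKfour

end

-- merged: Cfsg.Agent.KFacts.SpecLoc
section

/-!
# `Loc` (ODD, D4) from `Spec` (helper335)

* `Full P Q Z T T0 V st i` : `Spec` with everything needed for (k4) and (B);
* `Full.loc` : `Loc K R P Q Z T0` (`amb`, `two`, `k3` are hypotheses);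
* `Full.map` : transport along injective homomorphisms.
-/

set_option autoImplicit false
set_option linter.unusedSectionVars false

namespace Cfsg.Agent.KFacts.SpecLoc

open Cfsg.Agent.KFacts.SpecKfour Cfsg.Agent.OddHalf.DblR
open scoped commutatorElement

variable {Y ι : Type*} [Group Y]

/-- `Spec` with everything needed for (k4), (B). -/
structure Full (P Q Z T T0 : Subgroup Y) (V : ι → Subgroup Y) (st : ι → ι) (i : ι) : Prop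
    extends Spec P Q Z T V st where
  fix : Fix P Q Z V i
  fix' : Fix P Q Z V (st i)
  lin : Lin P T V i
  lin' : Lin P T V (st i)
  surj : ∃ v ∈ V i, ∀ z ∈ Z, ∃ w ∈ V (st i), ⁅v, w⁆ = z
  ncl : ∀ q ∈ Q, (∀ p ∈ P, ∀ v ∈ V i, q * (p * v * p⁻¹) = (p * v * p⁻¹) * q) → q ∈ Z
  kap : ∀ j, ∃ k ∈ T, k ∈ P ∧ ∀ v ∈ V j, k * v * k⁻¹ = v → v = 1
  perf : P ≤ ⁅P, P⁆
  T0T : T0 ≤ T
  T0Q : ∀ h ∈ T0, ∀ p ∈ P, h * p * h⁻¹ * p⁻¹ ∈ Q
  tr : ∀ x ∈ Z, x ≠ 1 → ∀ y ∈ Z, y ≠ 1 → ∃ t ∈ T0, t * x * t⁻¹ = y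
  big : ∃ x ∈ Z, ∃ y ∈ Z, x ≠ 1 ∧ y ≠ 1 ∧ x ≠ y
  zsq : ∀ z ∈ Z, z * z = 1

namespace Full

variable {P Q Z T T0 : Subgroup Y} {V : ι → Subgroup Y} {st : ι → ι} {i : ι} (H : Full P Q Z T T0 V st i)

include H

/-- a fixed point free `k` is fixed point free on the dual group, too -/
theorem kap2 (j : ι) [Finite ↥(V j)] : ∃ k ∈ T, k ∈ P ∧ (∀ v ∈ V j, k * v * k⁻¹ = v → v = 1) ∧
    ∀ v ∈ V (st j), k * v * k⁻¹ = v → v = 1 := by
  obtain ⟨k, hkT, hkP, hf⟩ := H.kap j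
  refine ⟨k, hkT, hkP, hf, fun w hw he => ?_⟩
  refine H.nd (st j) w hw fun u hu => ?_
  rw [H.stst] at hu
  obtain ⟨v, hv, rfl⟩ := surj_comm (H.ab j) (fun v hv => H.TV k hkT j v hv) hf hu
  have hkv := H.TV k hkT j v hv
  have h1 : ⁅k * v * k⁻¹, w⁆ = ⁅v, w⁆ := by
    have h2 : ⁅k * v * k⁻¹, k * w * k⁻¹⁆ = k * ⁅v, w⁆ * k⁻¹ := by simp only [commutatorElement_def]; group
    rw [he] at h2
    rw [h2, H.cen k hkP _ (H.br j v hv w hw)]; group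
  have h3 : ⁅k * v * k⁻¹ * v⁻¹, w⁆ = 1 := by
    have h4 : ⁅k * v * k⁻¹ * v⁻¹, w⁆ = (k * v * k⁻¹) * ⁅v⁻¹, w⁆ * (k * v * k⁻¹)⁻¹ * ⁅k * v * k⁻¹, w⁆ := by
      simp only [commutatorElement_def]; group
    have h5 : ⁅v⁻¹, w⁆ = v⁻¹ * ⁅v, w⁆⁻¹ * v := by simp only [commutatorElement_def]; group
    have h6 : v⁻¹ * ⁅v, w⁆⁻¹ = ⁅v, w⁆⁻¹ * v⁻¹ :=
      H.cenQ (H.VQ j (inv_mem hv)) (inv_mem (H.br j v hv w hw))
    have h7 : (k * v * k⁻¹) * ⁅v, w⁆⁻¹ = ⁅v, w⁆⁻¹ * (k * v * k⁻¹) :=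
      H.cenQ (H.VQ j hkv) (inv_mem (H.br j v hv w hw))
    rw [h4, h5, h6, h1]
    calc k * v * k⁻¹ * (⁅v, w⁆⁻¹ * v⁻¹ * v) * (k * v * k⁻¹)⁻¹ * ⁅v, w⁆
        = (k * v * k⁻¹ * ⁅v, w⁆⁻¹) * (k * v * k⁻¹)⁻¹ * ⁅v, w⁆ := by group
      _ = 1 := by rw [h7]; group
  exact (commutatorElement_eq_one_iff_mul_comm.1 h3).symm

/-- **`Loc`** -/
theorem loc [Finite Y] [Finite ι] {K R : Subgroup Y} (PK : P ≤ K) (TK : T0 ≤ K) (amb : Amb K R)
    (two : ∀ c ∈ C1 K R, IsPGroup 2 (Subgroup.zpowers c) → c ∈ R)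
    (k3 : ∀ c : Y, (∀ a ∈ R, c * a = a * c) → (∀ p ∈ P, c * p = p * c) → ∃ x ∈ Z, x⁻¹ * c ∈ C1 K R) :
    Loc K R P Q Z T0 where
  amb := amb
  PK := PK
  QP := H.QP
  XQ := H.ZQ
  XX := H.zsq
  XZ := fun x hx p hp => (H.cen p hp x hx).symm
  QN := H.QN
  TK := TK
  TX := fun t ht x hx => H.TZ t (H.T0T ht) x hx
  TQ := H.T0Q
  Tab := fun s hs t ht => H.Tab s (H.T0T hs) t (H.T0T ht)
  Ttr := H.tr
  big := H.big
  two := two
  k3 := k3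
  k4 := fun _ _ _ heX he => H.k4 he H.fix H.lin H.fix' H.lin' H.surj H.T0T H.tr heX
  B := by
    intro y hy hyP hyX
    obtain ⟨k, hk⟩ := hy ⟨y, Subgroup.mem_zpowers y⟩
    have hy2 : y ^ 2 ^ k = 1 := congrArg Subtype.val hk
    exact H.B hyP hyX hy2 H.fix H.lin H.ncl (fun j => H.kap2 j) H.perf

/-! ### transport -/

variable {Y' : Type*} [Group Y'] (f : Y →* Y') (hf : Function.Injective f)

include hf

omit H in
theorem comm_map {a b : Y} : f a * f b = f b * f a ↔ a * b = b * a := by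
  rw [← map_mul, ← map_mul]
  exact hf.eq_iff

omit H in
theorem fix_map {P Q Z : Subgroup Y} {V : ι → Subgroup Y} {i : ι} (h : Fix P Q Z V i) :
    Fix (P.map f) (Q.map f) (Z.map f) (fun j => (V j).map f) i := by
  rintro _ ⟨q, hq, rfl⟩ h1
  obtain ⟨v, hv, z, hz, e⟩ := h q hq (fun x hx hxv => by
    have h2 := h1 (f x) ⟨x, hx, rfl⟩ (by
      rintro _ ⟨v, hv, rfl⟩
      exact (comm_map f hf).2 (hxv v hv))
    rw [← map_commutatorElement] at h2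
    obtain ⟨z, hz, e⟩ := h2
    rw [← hf e]; exact hz)
  exact ⟨f v, ⟨v, hv, rfl⟩, f z, ⟨z, hz, rfl⟩, by rw [e, map_mul]⟩

omit H in
theorem lin_map {P T : Subgroup Y} {V : ι → Subgroup Y} {i : ι} (hTV : ∀ t ∈ T, ∀ v ∈ V i, t * v * t⁻¹ ∈ V i)
    (h : Lin P T V i) : Lin (P.map f) (T.map f) (fun j => (V j).map f) i := by
  classical
  intro g hg hm hi ht
  have h0 : ∀ v ∈ V i, ∃ v', v' ∈ V i ∧ g (f v) = f v' := by
    intro v hv
    obtain ⟨v', hv', e⟩ := hg (f v) ⟨v, hv, rfl⟩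
    exact ⟨v', hv', e.symm⟩
  choose! k hk1 hk2 using h0
  obtain ⟨s, hs, es⟩ := h k hk1 (fun u hu v hv => by
      apply hf
      rw [map_mul, ← hk2 _ (mul_mem hu hv), ← hk2 u hu, ← hk2 v hv, map_mul]
      exact hm _ ⟨u, hu, rfl⟩ _ ⟨v, hv, rfl⟩)
    (fun v hv h1 => by
      have h2 := hk2 v hv
      rw [h1, map_one] at h2
      have h3 := hi _ ⟨v, hv, rfl⟩ h2
      exact hf (by rw [h3, map_one]))
    (fun t htT htP v hv => by
      have h1 := ht (f t) ⟨t, htT, rfl⟩ ⟨t, htP, rfl⟩ (f v) ⟨v, hv, rfl⟩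
      apply hf
      rw [← hk2 _ (hTV t htT v hv), map_mul, map_mul, map_inv, map_mul, map_mul, map_inv, ← hk2 v hv]
      exact h1)
  refine ⟨f s, ⟨s, hs, rfl⟩, ?_⟩
  rintro _ ⟨v, hv, rfl⟩
  rw [hk2 v hv, es v hv, map_mul, map_mul, map_inv]

/-- transport of `Full` -/
theorem map : Full (P.map f) (Q.map f) (Z.map f) (T.map f) (T0.map f) (fun j => (V j).map f) st i where
  QP := Subgroup.map_mono H.QP
  ZQ := Subgroup.map_mono H.ZQ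
  VQ j := Subgroup.map_mono (H.VQ j)
  gen := by
    rw [← Subgroup.map_iSup, ← Subgroup.map_sup]
    exact Subgroup.map_mono H.gen
  cen := by
    rintro _ ⟨p, hp, rfl⟩ _ ⟨z, hz, rfl⟩
    exact (comm_map f hf).2 (H.cen p hp z hz)
  QN := by
    rintro _ ⟨p, hp, rfl⟩ _ ⟨q, hq, rfl⟩
    exact ⟨_, H.QN p hp q hq, by rw [map_mul, map_mul, map_inv]⟩
  stst := H.stst
  ab := by
    rintro j _ ⟨u, hu, rfl⟩ _ ⟨v, hv, rfl⟩
    exact (comm_map f hf).2 (H.ab j u hu v hv)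
  comm1 := by
    rintro j k hjk _ ⟨u, hu, rfl⟩ _ ⟨v, hv, rfl⟩
    exact (comm_map f hf).2 (H.comm1 j k hjk u hu v hv)
  br := by
    rintro j _ ⟨u, hu, rfl⟩ _ ⟨v, hv, rfl⟩
    rw [← map_commutatorElement]
    exact ⟨_, H.br j u hu v hv, rfl⟩
  nd := by
    rintro j _ ⟨u, hu, rfl⟩ h1
    rw [H.nd j u hu fun v hv => (comm_map f hf).1 (h1 _ ⟨v, hv, rfl⟩), map_one]
  sq := by
    rintro j _ ⟨u, hu, rfl⟩
    rw [← map_mul, H.sq j u hu, map_one]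
  TV := by
    rintro _ ⟨t, ht, rfl⟩ j _ ⟨v, hv, rfl⟩
    exact ⟨_, H.TV t ht j v hv, by rw [map_mul, map_mul, map_inv]⟩
  TZ := by
    rintro _ ⟨t, ht, rfl⟩ _ ⟨v, hv, rfl⟩
    exact ⟨_, H.TZ t ht v hv, by rw [map_mul, map_mul, map_inv]⟩
  Tab := by
    rintro _ ⟨t, ht, rfl⟩ _ ⟨v, hv, rfl⟩
    exact (comm_map f hf).2 (H.Tab t ht v hv)
  Todd := by
    have h1 : Nat.card ↥(T.map f) = Nat.card ↥T := (Nat.card_congr (T.equivMapOfInjective f hf).toEquiv).symm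
    rw [h1]
    exact H.Todd
  fix := fix_map f hf H.fix
  fix' := fix_map f hf H.fix'
  lin := lin_map f hf (fun t ht v hv => H.TV t ht _ v hv) H.lin
  lin' := lin_map f hf (fun t ht v hv => H.TV t ht _ v hv) H.lin'
  surj := by
    obtain ⟨v, hv, h1⟩ := H.surj
    refine ⟨f v, ⟨v, hv, rfl⟩, ?_⟩
    rintro _ ⟨z, hz, rfl⟩
    obtain ⟨w, hw, e⟩ := h1 z hz
    exact ⟨f w, ⟨w, hw, rfl⟩, by rw [← map_commutatorElement, e]⟩
  ncl := by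
    rintro _ ⟨q, hq, rfl⟩ h1
    refine ⟨q, H.ncl q hq fun p hp v hv => ?_, rfl⟩
    have h2 := h1 (f p) ⟨p, hp, rfl⟩ (f v) ⟨v, hv, rfl⟩
    rw [← map_inv, ← map_mul, ← map_mul] at h2
    exact (comm_map f hf).1 h2
  kap := by
    intro j
    obtain ⟨k, hkT, hkP, h1⟩ := H.kap j
    refine ⟨f k, ⟨k, hkT, rfl⟩, ⟨k, hkP, rfl⟩, ?_⟩
    rintro _ ⟨v, hv, rfl⟩ h2
    rw [h1 v hv (hf (by rw [map_mul, map_mul, map_inv]; exact h2)), map_one]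
  perf := by
    rw [← Subgroup.map_commutator]
    exact Subgroup.map_mono H.perf
  T0T := Subgroup.map_mono H.T0T
  T0Q := by
    rintro _ ⟨t, ht, rfl⟩ _ ⟨v, hv, rfl⟩
    exact ⟨_, H.T0Q t ht v hv, by rw [map_mul, map_mul, map_mul, map_inv, map_inv]⟩
  tr := by
    rintro _ ⟨x, hx, rfl⟩ hx1 _ ⟨y, hy, rfl⟩ hy1
    obtain ⟨t, ht, e⟩ := H.tr x hx (by rintro rfl; exact hx1 (map_one f)) y hy (by rintro rfl; exact hy1 (map_one f))
    exact ⟨f t, ⟨t, ht, rfl⟩, by rw [← e, map_mul, map_mul, map_inv]⟩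
  big := by
    obtain ⟨x, hx, y, hy, h1, h2, h3⟩ := H.big
    refine ⟨f x, ⟨x, hx, rfl⟩, f y, ⟨y, hy, rfl⟩, fun h => h1 (hf (by rw [h, map_one])),
      fun h => h2 (hf (by rw [h, map_one])), fun h => h3 (hf h)⟩
  zsq := by
    rintro _ ⟨x, hx, rfl⟩
    rw [← map_mul, H.zsq x hx, map_one]

end Full

end Cfsg.Agent.KFacts.SpecLoc

end
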