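import Mathlib
import Cfsg.Agent.KFacts.SysFltS
import Cfsg.Agent.KFacts.RootDisj

-- merged: Cfsg.Agent.KFacts.SysPol
section

/-!
# The middle root of `A_{2m}` (ODD, D4, (k3))

`Sys R e`, simply laced. `r, r'` positive roots swapped by the diagram symmetry `σ`, `δ = r + r'` a root.

* `Ideal` : ideals of positive roots; `Ideal.conj`, `comm_le`, `Ideal.inf`, `inf_single`;
* `pol_vac` : an automorphism `φ` fixing `U` with diagram symmetry `σ` and no field part, `φ φ (e r a) = e r a`, which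
  fixes `e r a * e r' b * z` (`z ∈ X δ`) : `a = b = 0`.
-/

set_option autoImplicit false
set_option linter.unusedSectionVars false

namespace Cfsg.Agent.KFacts.SysPol

open CoxeterSystem Cfsg.Agent.ChevalleyStructure.CoxeterGeom Cfsg.Agent.Tits.Roots Cfsg.Agent.Tits.Core
  Cfsg.Agent.Tits.Exchange Cfsg.Agent.Nodes.Reps Cfsg.Agent.Nodes.BNOf Cfsg.Agent.Nodes.StabComb
  Cfsg.Agent.Nodes.Bruhat Cfsg.Agent.Nodes.OppDec Cfsg.Agent.Nodes.LeviDec Cfsg.Agent.Nodes.NormalForm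
  Cfsg.Agent.Nodes.Coroot Cfsg.Agent.Nodes.PosPair Cfsg.Agent.KFacts.RgdPar Cfsg.Agent.KFacts.RgdTI
  Cfsg.Agent.KFacts.RgdOpp Cfsg.Agent.KFacts.RgdAut Cfsg.Agent.KFacts.RgdDiag Cfsg.Agent.KFacts.RgdRigid
  Cfsg.Agent.KFacts.RgdCent Cfsg.Agent.KFacts.RgdKap Cfsg.Agent.KFacts.RgdField Cfsg.Agent.KFacts.RgdTau
  Cfsg.Agent.KFacts.RgdSys Cfsg.Agent.KFacts.RgdOver Cfsg.Agent.KFacts.RgdPure Cfsg.Agent.KFacts.ChevTwo
  Cfsg.Agent.KFacts.SysOut Cfsg.Agent.KFacts.SysLine Cfsg.Agent.KFacts.SysFlt Cfsg.Agent.KFacts.SLRow.Diag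
  Cfsg.Agent.KFacts.SysFree Cfsg.Agent.KFacts.SysFltS Cfsg.Agent.OddHalf.D4.Free Cfsg.Agent.KFacts.RootDisj
open Cfsg.Agent.KFacts.RgdSL (SL)
open scoped commutatorElement

variable {I W Y K : Type*} [Fintype I] [DecidableEq I] [Group W] [Group Y] [Field K] {M : CoxeterMatrix I}
variable {cs : CoxeterSystem M W} {A : I → I → ℤ} {h : IsCartan M A} {e : (I → ℤ) → K → Y}
  {T : Subgroup Y} {n : I → Y} {X : (I → ℤ) → Subgroup Y}

/-- ideals of the positive roots -/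
structure Ideal (cs : CoxeterSystem M W) (h : IsCartan M A) (Q : Set (I → ℤ)) : Prop where
  pos : Q ⊆ RGD.Pos cs h
  add : ∀ x ∈ Q, ∀ y ∈ RGD.Pos cs h, IsRoot cs h (x + y) → x + y ∈ Q

theorem pos_add {x y : I → ℤ} (hx : x ∈ RGD.Pos cs h) (hy : y ∈ RGD.Pos cs h) (hxy : IsRoot cs h (x + y)) :
    x + y ∈ RGD.Pos cs h := ⟨hxy, add_nonneg hx.2 hy.2⟩

theorem ne_neg {x y : I → ℤ} (hx : x ∈ RGD.Pos cs h) (hy : y ∈ RGD.Pos cs h) : x ≠ -y := by
  rintro rfl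
  have h1 := ht_pos hx
  have h2 := ht_pos hy
  have h3 := ht_smul (-1) y
  rw [neg_one_smul] at h3
  omega

section Ideal

variable [Finite W] {R : RGD cs h 2 T n X} (S : Sys R e) (hs : SL cs h)

include hs

theorem Ideal.closed {Q : Set (I → ℤ)} (hQ : Ideal cs h Q) : Nodes.Unique.Closed cs h Q := by
  intro x hx y hy z hz
  by_cases hxy : x = y
  · subst hxy
    rw [Nodes.Unique.btwn_self (hQ.pos hx).1 hz]
    exact hx
  · obtain ⟨-, rfl⟩ := hs.btwn (hQ.pos hx).1 (hQ.pos hy).1 hxy (ne_neg (hQ.pos hx) (hQ.pos hy)) hz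
    exact hQ.add x hx y (hQ.pos hy) hz.1

include S

/-- the commutator of two root elements -/
theorem comm_cases {x y : I → ℤ} (hx : x ∈ RGD.Pos cs h) (hy : y ∈ RGD.Pos cs h) {g v : Y} (hg : g ∈ X x)
    (hv : v ∈ X y) : ⁅g, v⁆ = 1 ∨ (IsRoot cs h (x + y) ∧ ⁅g, v⁆ ∈ X (x + y)) := by
  obtain ⟨t, rfl⟩ := (S.mem_X x hx.1 g).1 hg
  obtain ⟨u, rfl⟩ := (S.mem_X y hy.1 v).1 hv
  by_cases hc : 0 ≤ cpr cs h x y
  · exact Or.inl (commutatorElement_eq_one_iff_mul_comm.2 (S.data.comm_of_nonneg hx.1 hy.1 hc t u))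
  · right
    push Not at hc
    have h1 : cpr cs h x y = -1 := by
      rcases hs.cases hx.1 hy.1 with ⟨-, h2⟩ | ⟨h2, -⟩ | ⟨-, -, h2, -⟩
      · omega
      · exact absurd h2 (ne_neg hx hy)
      · omega
    have h2 : cpr cs h y x = -1 := by rw [← hs x y hx.1 hy.1, h1]
    have h3 := RgdSL.isRoot_add hx.1 hy.1 h1
    refine ⟨h3, ?_⟩
    rw [S.data.comm1 x y hx.1 hy.1 h1 h2]
    exact S.mem h3 _

/-- ideals are normal in `U` -/
theorem Ideal.conj {Q : Set (I → ℤ)} (hQ : Ideal cs h Q) {u v : Y} (hu : u ∈ RGD.Sup X (RGD.Pos cs h))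
    (hv : v ∈ RGD.Sup X Q) : u * v * u⁻¹ ∈ RGD.Sup X Q := by
  have h1 : ∀ y ∈ RGD.Pos cs h, ∀ g ∈ X y, ∀ v ∈ RGD.Sup X Q, g * v * g⁻¹ ∈ RGD.Sup X Q := by
    intro y hy g hg v hv
    have h1 : RGD.Sup X Q ≤ (RGD.Sup X Q).comap (MulAut.conj g).toMonoidHom := by
      refine RGD.Sup_le fun x hx v hv => ?_
      show g * v * g⁻¹ ∈ RGD.Sup X Q
      have h2 : g * v * g⁻¹ = ⁅g, v⁆ * v := by rw [commutatorElement_def]; group
      rw [h2]
      refine mul_mem ?_ (RGD.le_Sup hx hv)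
      rcases comm_cases S hs hy (hQ.pos hx) hg hv with h3 | ⟨h3, h4⟩
      · rw [h3]
        exact one_mem _
      · have h5 := hQ.add x hx y hy (by rwa [add_comm])
        rw [add_comm] at h4
        exact RGD.le_Sup h5 h4
    exact h1 hv
  have h2 : RGD.Sup X (RGD.Pos cs h) ≤ Subgroup.normalizer (RGD.Sup X Q : Set Y) := by
    refine RGD.Sup_le fun y hy g hg => ?_
    rw [Subgroup.mem_normalizer_iff]
    intro w
    refine ⟨h1 y hy g hg w, fun hw => ?_⟩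
    have h3 := h1 y hy g⁻¹ (inv_mem hg) _ hw
    have h4 : g⁻¹ * (g * w * g⁻¹) * g⁻¹⁻¹ = w := by group
    rwa [h4] at h3
  exact (Subgroup.mem_normalizer_iff.1 (h2 hu) v).1 hv

theorem Ideal.conj' {Q : Set (I → ℤ)} (hQ : Ideal cs h Q) {u v : Y} (hu : u ∈ RGD.Sup X (RGD.Pos cs h))
    (hv : v ∈ RGD.Sup X Q) : u⁻¹ * v * u ∈ RGD.Sup X Q := by
  have := hQ.conj S hs (inv_mem hu) hv
  rwa [inv_inv] at this

/-- commutators -/
theorem comm_le {Q₁ Q₂ Q₃ : Set (I → ℤ)} (h1 : Q₁ ⊆ RGD.Pos cs h) (h2 : Q₂ ⊆ RGD.Pos cs h) (h3 : Ideal cs h Q₃)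
    (h12 : ∀ x ∈ Q₁, ∀ y ∈ Q₂, IsRoot cs h (x + y) → x + y ∈ Q₃) {u v : Y} (hu : u ∈ RGD.Sup X Q₁)
    (hv : v ∈ RGD.Sup X Q₂) : ⁅u, v⁆ ∈ RGD.Sup X Q₃ := by
  have hp1 : RGD.Sup X Q₁ ≤ RGD.Sup X (RGD.Pos cs h) := RGD.Sup_mono h1
  have hp2 : RGD.Sup X Q₂ ≤ RGD.Sup X (RGD.Pos cs h) := RGD.Sup_mono h2
  have key : ∀ x ∈ Q₁, ∀ g ∈ X x, ∀ v ∈ RGD.Sup X Q₂, ⁅g, v⁆ ∈ RGD.Sup X Q₃ := by
    intro x hx g hg v hv
    let L : Subgroup Y :=
      { carrier := {v | v ∈ RGD.Sup X Q₂ ∧ ⁅g, v⁆ ∈ RGD.Sup X Q₃}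
        one_mem' := ⟨one_mem _, by rw [commutatorElement_one_right]; exact one_mem _⟩
        mul_mem' := by
          rintro a b ⟨ha, ha'⟩ ⟨hb, hb'⟩
          refine ⟨mul_mem ha hb, ?_⟩
          have h2 : ⁅g, a * b⁆ = ⁅g, a⁆ * (a * ⁅g, b⁆ * a⁻¹) := by
            simp only [commutatorElement_def]; group
          show ⁅g, a * b⁆ ∈ RGD.Sup X Q₃
          rw [h2]
          exact mul_mem ha' (h3.conj S hs (hp2 ha) hb')
        inv_mem' := by
          rintro a ⟨ha, ha'⟩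
          refine ⟨inv_mem ha, ?_⟩
          have h2 : ⁅g, a⁻¹⁆ = a⁻¹ * (⁅g, a⁆)⁻¹ * a⁻¹⁻¹ := by
            simp only [commutatorElement_def]; group
          show ⁅g, a⁻¹⁆ ∈ RGD.Sup X Q₃
          rw [h2]
          exact h3.conj S hs (hp2 (inv_mem ha)) (inv_mem ha') }
    have h4 : RGD.Sup X Q₂ ≤ L := by
      refine RGD.Sup_le fun y hy v hv => ⟨RGD.le_Sup hy hv, ?_⟩
      rcases comm_cases S hs (h1 hx) (h2 hy) hg hv with h5 | ⟨h5, h6⟩
      · rw [h5]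
        exact one_mem _
      · exact RGD.le_Sup (h12 x hx y hy h5) h6
    exact (h4 hv).2
  let L : Subgroup Y :=
    { carrier := {g | g ∈ RGD.Sup X Q₁ ∧ ∀ v ∈ RGD.Sup X Q₂, ⁅g, v⁆ ∈ RGD.Sup X Q₃}
      one_mem' := ⟨one_mem _, fun v _ => by rw [commutatorElement_one_left]; exact one_mem _⟩
      mul_mem' := by
        rintro a b ⟨ha, ha'⟩ ⟨hb, hb'⟩
        refine ⟨mul_mem ha hb, fun v hv => ?_⟩
        have h2 : ⁅a * b, v⁆ = (a * ⁅b, v⁆ * a⁻¹) * ⁅a, v⁆ := by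
          simp only [commutatorElement_def]; group
        rw [h2]
        exact mul_mem (h3.conj S hs (hp1 ha) (hb' v hv)) (ha' v hv)
      inv_mem' := by
        rintro a ⟨ha, ha'⟩
        refine ⟨inv_mem ha, fun v hv => ?_⟩
        have h2 : ⁅a⁻¹, v⁆ = a⁻¹ * (⁅a, v⁆)⁻¹ * a⁻¹⁻¹ := by
          simp only [commutatorElement_def]; group
        rw [h2]
        exact h3.conj S hs (hp1 (inv_mem ha)) (inv_mem (ha' v hv)) }
  have h4 : RGD.Sup X Q₁ ≤ L := RGD.Sup_le fun x hx g hg => ⟨RGD.le_Sup hx hg, key x hx g hg⟩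
  exact (h4 hu).2 v hv

omit S in
theorem Ideal.inf (R : RGD cs h 2 T n X) {Q₁ Q₂ : Set (I → ℤ)} (h1 : Ideal cs h Q₁) (h2 : Ideal cs h Q₂) {z : Y}
    (hz1 : z ∈ RGD.Sup X Q₁) (hz2 : z ∈ RGD.Sup X Q₂) : z ∈ RGD.Sup X (Q₁ ∩ Q₂) := by
  have h3 := Nodes.Unique.inf_eq R h1.pos h2.pos (h1.closed hs) (h2.closed hs)
  rw [← h3]
  exact ⟨hz1, hz2⟩

omit S in
theorem inf_single (R : RGD cs h 2 T n X) {Q : Set (I → ℤ)} (hQ : Ideal cs h Q) {r : I → ℤ} (hr : r ∈ RGD.Pos cs h)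
    (hrQ : r ∉ Q) {z : Y} (hz : z ∈ X r) (hz' : z ∈ RGD.Sup X Q) : z = 1 := by
  have h1 : Nodes.Unique.Closed cs h ({r} : Set (I → ℤ)) := by
    rintro _ rfl _ rfl z hz
    exact Nodes.Unique.btwn_self hr.1 hz
  have h3 := Nodes.Unique.inf_eq R (S := {r}) (Set.singleton_subset_iff.2 hr) hQ.pos h1 (hQ.closed hs)
  have h4 : z ∈ RGD.Sup X {r} ⊓ RGD.Sup X Q := ⟨RGD.le_Sup (Set.mem_singleton r) hz, hz'⟩
  have h5 : ({r} : Set (I → ℤ)) ∩ Q = ∅ := by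
    ext x
    simp only [Set.mem_inter_iff, Set.mem_singleton_iff, Set.mem_empty_iff_false, iff_false]
    rintro ⟨rfl, h6⟩
    exact hrQ h6
  rw [h3, h5, Sup_empty] at h4
  exact Subgroup.mem_bot.1 h4

end Ideal

/-! ### Polarities -/

section Pol

variable [Finite W] {R : RGD cs h 2 T n X} (S : Sys R e) (hs : SL cs h)

/-- the roots not below `δ`, together with the roots above `r` -/
def NI (cs : CoxeterSystem M W) (h : IsCartan M A) (δ r : I → ℤ) : Set (I → ℤ) :=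
  {d | d ∈ RGD.Pos cs h ∧ (¬ d ≤ δ ∨ r ≤ d)}

theorem ideal_NI (δ r : I → ℤ) : Ideal cs h (NI cs h δ r) where
  pos _ hd := hd.1
  add := by
    rintro x ⟨hx, hx1⟩ y hy hxy
    have h1 : x ≤ x + y := le_add_of_nonneg_right hy.2
    refine ⟨pos_add hx hy hxy, ?_⟩
    rcases hx1 with h2 | h2
    · exact Or.inl fun h3 => h2 (h1.trans h3)
    · exact Or.inr (h2.trans h1)

/-- the roots not below `δ` -/
def NO (cs : CoxeterSystem M W) (h : IsCartan M A) (δ : I → ℤ) : Set (I → ℤ) := {d | d ∈ RGD.Pos cs h ∧ ¬ d ≤ δ}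

theorem ideal_NO (δ : I → ℤ) : Ideal cs h (NO cs h δ) where
  pos _ hd := hd.1
  add := by
    rintro x ⟨hx, hx1⟩ y hy hxy
    exact ⟨pos_add hx hy hxy, fun h3 => hx1 ((le_add_of_nonneg_right hy.2).trans h3)⟩

include S hs

/-- **Polarities are vacuous on the middle root.** -/
theorem pol_core {u : Y} (hu : u ∈ RGD.Sup X (RGD.Pos cs h)) {φ : MulAut Y} {σ : Equiv.Perm I}
    (hσp : ∀ d ∈ RGD.Pos cs h, d ∘ σ.symm ∈ RGD.Pos cs h)
    (hφ : ∀ d ∈ RGD.Pos cs h, ∀ y ∈ X d, u * φ y * u⁻¹ ∈ X (d ∘ σ.symm)) {r r' : I → ℤ} (hr : r ∈ RGD.Pos cs h)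
    (hr' : r' ∈ RGD.Pos cs h) (e1 : r ∘ σ.symm = r') (e2 : r' ∘ σ.symm = r) (hc : cpr cs h r r' = -1)
    (hfix : ∀ z ∈ X (r + r'), u * φ z * u⁻¹ = z) (hdis : ∀ i, r i = 0 ∨ r' i = 0) {a b : K} {z : Y}
    (hz : z ∈ X (r + r')) (hx : φ (e r a * e r' b * z) = e r a * e r' b * z) (hx2 : φ (φ (e r a)) = e r a) :
    a = 0 ∧ b = 0 := by
  set δ := r + r' with hδ
  have hδr : IsRoot cs h δ := RgdSL.isRoot_add hr.1 hr'.1 hc
  have hδp : δ ∈ RGD.Pos cs h := pos_add hr hr' hδr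
  have hδσ : δ ∘ σ.symm = δ := by
    have h1 : δ ∘ σ.symm = r ∘ σ.symm + r' ∘ σ.symm := rfl
    rw [h1, e1, e2, add_comm]
  have hp : ∀ {Q : Set (I → ℤ)}, Ideal cs h Q → RGD.Sup X Q ≤ RGD.Sup X (RGD.Pos cs h) := fun hQ =>
    RGD.Sup_mono hQ.pos
  -- images of the ideals
  have himg : ∀ {Q Q' : Set (I → ℤ)}, Ideal cs h Q → Ideal cs h Q' → (∀ d ∈ Q, d ∘ σ.symm ∈ Q') →
      ∀ y ∈ RGD.Sup X Q, φ y ∈ RGD.Sup X Q' := by
    intro Q Q' hQ hQ' h1 y hy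
    have h2 : RGD.Sup X Q ≤ (RGD.Sup X Q').comap φ.toMonoidHom := by
      refine RGD.Sup_le fun d hd y hy => ?_
      show φ y ∈ RGD.Sup X Q'
      have h3 := hQ'.conj' S hs hu (RGD.le_Sup (h1 d hd) (hφ d (hQ.pos hd) y hy))
      have h4 : u⁻¹ * (u * φ y * u⁻¹) * u = φ y := by group
      rwa [h4] at h3
    exact h2 hy
  have hle : ∀ {d c : I → ℤ}, d ≤ c → d ∘ σ.symm ≤ c ∘ σ.symm := fun h1 i => h1 _
  have hle' : ∀ {d : I → ℤ}, d ∘ σ.symm ≤ δ → d ≤ δ := by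
    intro d h1 i
    have h2 := h1 (σ i)
    have h3 := congrFun hδσ (σ i)
    simp only [Function.comp_apply, Equiv.symm_apply_apply] at h2 h3
    rw [← h3] at h2
    simpa using h2
  have iN := ideal_NO (cs := cs) (h := h) δ
  have i1 := ideal_NI (cs := cs) (h := h) δ r
  have i2 := ideal_NI (cs := cs) (h := h) δ r'
  have iD := ideal_NI (cs := cs) (h := h) δ δ
  have gN : ∀ y ∈ RGD.Sup X (NO cs h δ), φ y ∈ RGD.Sup X (NO cs h δ) :=
    himg iN iN fun d hd => ⟨hσp d hd.1, fun h1 => hd.2 (hle' h1)⟩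
  have g1 : ∀ y ∈ RGD.Sup X (NI cs h δ r), φ y ∈ RGD.Sup X (NI cs h δ r') := by
    refine himg i1 i2 fun d hd => ⟨hσp d hd.1, ?_⟩
    rcases hd.2 with h1 | h1
    · exact Or.inl fun h2 => h1 (hle' h2)
    · right
      rw [← e1]
      exact hle h1
  have g2 : ∀ y ∈ RGD.Sup X (NI cs h δ r'), φ y ∈ RGD.Sup X (NI cs h δ r) := by
    refine himg i2 i1 fun d hd => ⟨hσp d hd.1, ?_⟩
    rcases hd.2 with h1 | h1
    · exact Or.inl fun h2 => h1 (hle' h2)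
    · right
      rw [← e2]
      exact hle h1
  have gD : ∀ y ∈ RGD.Sup X (NI cs h δ δ), φ y ∈ RGD.Sup X (NI cs h δ δ) := by
    refine himg iD iD fun d hd => ⟨hσp d hd.1, ?_⟩
    rcases hd.2 with h1 | h1
    · exact Or.inl fun h2 => h1 (hle' h2)
    · right
      rw [← hδσ]
      exact hle h1
  -- inclusions
  have hN1 : RGD.Sup X (NO cs h δ) ≤ RGD.Sup X (NI cs h δ r) := RGD.Sup_mono fun d hd => ⟨hd.1, Or.inl hd.2⟩
  have hND : RGD.Sup X (NO cs h δ) ≤ RGD.Sup X (NI cs h δ δ) := RGD.Sup_mono fun d hd => ⟨hd.1, Or.inl hd.2⟩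
  have hsum : ∀ d, r ≤ d → r' ≤ d → δ ≤ d := by
    intro d h1 h2 i
    have h3 : r i ≤ d i := h1 i
    have h4 : r' i ≤ d i := h2 i
    show r i + r' i ≤ d i
    rcases hdis i with h5 | h5 <;> omega
  have hinf : NI cs h δ r ∩ NI cs h δ r' = NI cs h δ δ := by
    ext d
    constructor
    · rintro ⟨⟨h1, h2⟩, -, h3⟩
      refine ⟨h1, ?_⟩
      rcases h2 with h2 | h2
      · exact Or.inl h2
      rcases h3 with h3 | h3
      · exact Or.inl h3
      exact Or.inr (hsum d h2 h3)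
    · rintro ⟨h1, h2⟩
      rcases h2 with h2 | h2
      · exact ⟨⟨h1, Or.inl h2⟩, h1, Or.inl h2⟩
      · exact ⟨⟨h1, Or.inr ((le_add_of_nonneg_right hr'.2).trans h2)⟩, h1,
          Or.inr ((le_add_of_nonneg_left hr.2).trans h2)⟩
  -- commutators
  have c12 : ∀ {v w : Y}, v ∈ RGD.Sup X (NI cs h δ r) → w ∈ RGD.Sup X (NI cs h δ r') →
      ⁅v, w⁆ ∈ RGD.Sup X (NI cs h δ δ) := by
    intro v w hv hw
    refine comm_le S hs i1.pos i2.pos iD (fun x hx y hy hxy => ?_) hv hw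
    refine ⟨pos_add hx.1 hy.1 hxy, ?_⟩
    rcases hx.2 with h1 | h1
    · exact Or.inl fun h2 => h1 ((le_add_of_nonneg_right hy.1.2).trans h2)
    rcases hy.2 with h2 | h2
    · exact Or.inl fun h3 => h2 ((le_add_of_nonneg_left hx.1.2).trans h3)
    · exact Or.inr (add_le_add h1 h2)
  have cD : ∀ {v w : Y}, v ∈ RGD.Sup X (RGD.Pos cs h) → w ∈ RGD.Sup X (NI cs h δ δ) →
      ⁅v, w⁆ ∈ RGD.Sup X (NO cs h δ) := by
    intro v w hv hw
    refine comm_le S hs (fun _ hx => hx) iD.pos iN (fun x hx y hy hxy => ?_) hv hw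
    refine ⟨pos_add hx hy.1 hxy, fun h3 => ?_⟩
    rcases hy.2 with h2 | h2
    · exact h2 ((le_add_of_nonneg_left hx.2).trans h3)
    · have h4 : x + y ≤ y := h3.trans h2
      have h5 : x ≤ 0 := by
        intro i
        have := h4 i
        simp only [Pi.add_apply, Pi.zero_apply] at this ⊢
        omega
      exact hx.1.ne_zero (le_antisymm h5 hx.2)
  -- `φ w` and `w`
  have hDw : ∀ w ∈ RGD.Sup X (NI cs h δ δ), φ w * w⁻¹ ∈ RGD.Sup X (NO cs h δ) := by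
    let L : Subgroup Y :=
      { carrier := {w | w ∈ RGD.Sup X (NI cs h δ δ) ∧ φ w * w⁻¹ ∈ RGD.Sup X (NO cs h δ)}
        one_mem' := ⟨one_mem _, by rw [map_one, inv_one, mul_one]; exact one_mem _⟩
        mul_mem' := by
          rintro v w ⟨hv, hv'⟩ ⟨hw, hw'⟩
          refine ⟨mul_mem hv hw, ?_⟩
          have h1 : φ (v * w) * (v * w)⁻¹ = (φ v * (φ w * w⁻¹) * (φ v)⁻¹) * (φ v * v⁻¹) := by
            rw [map_mul]; group
          show φ (v * w) * (v * w)⁻¹ ∈ RGD.Sup X (NO cs h δ)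
          rw [h1]
          exact mul_mem (iN.conj S hs (hp iD (gD v hv)) hw') hv'
        inv_mem' := by
          rintro v ⟨hv, hv'⟩
          refine ⟨inv_mem hv, ?_⟩
          have h1 : φ v⁻¹ * v⁻¹⁻¹ = (φ v)⁻¹ * (φ v * v⁻¹)⁻¹ * φ v := by
            rw [map_inv]; group
          show φ v⁻¹ * v⁻¹⁻¹ ∈ RGD.Sup X (NO cs h δ)
          rw [h1]
          exact iN.conj' S hs (hp iD (gD v hv)) (inv_mem hv') }
    have h1 : RGD.Sup X (NI cs h δ δ) ≤ L := by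
      refine RGD.Sup_le fun d hd w hw => ⟨RGD.le_Sup hd hw, ?_⟩
      by_cases h2 : d ≤ δ
      · have h3 : d = δ := by
          rcases hd.2 with h4 | h4
          · exact absurd h2 h4
          · exact le_antisymm h2 h4
        subst h3
        have h4 := hfix w hw
        have h5 : φ w * w⁻¹ = u⁻¹ * (w * u * w⁻¹ * u⁻¹) * u := by
          have : φ w = u⁻¹ * w * u := by
            conv_rhs => rw [← h4]
            group
          rw [this]; group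
        rw [h5]
        have h6 : w * u * w⁻¹ * u⁻¹ = ⁅u, w⁆⁻¹ := by rw [commutatorElement_def]; group
        rw [h6]
        exact iN.conj' S hs hu (inv_mem (cD hu (RGD.le_Sup hd hw)))
      · have h3 : w ∈ RGD.Sup X (NO cs h δ) := RGD.le_Sup (S := NO cs h δ) ⟨hd.1, h2⟩ hw
        exact mul_mem (gN w h3) (inv_mem h3)
    exact fun w hw => (h1 hw).2
  obtain ⟨p, hpd⟩ : ∃ p, p = e r a := ⟨_, rfl⟩
  obtain ⟨q, hqd⟩ : ∃ q, q = e r' b := ⟨_, rfl⟩
  have hpX : p ∈ X r := by rw [hpd]; exact S.mem hr.1 a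
  have hqX : q ∈ X r' := by rw [hqd]; exact S.mem hr'.1 b
  have hp1 : p ∈ RGD.Sup X (NI cs h δ r) := RGD.le_Sup (S := NI cs h δ r) ⟨hr, Or.inr le_rfl⟩ hpX
  have hq2 : q ∈ RGD.Sup X (NI cs h δ r') := RGD.le_Sup (S := NI cs h δ r') ⟨hr', Or.inr le_rfl⟩ hqX
  have hzD : z ∈ RGD.Sup X (NI cs h δ δ) := RGD.le_Sup (S := NI cs h δ δ) ⟨hδp, Or.inr le_rfl⟩ hz
  rw [← hpd, ← hqd, map_mul, map_mul] at hx
  rw [← hpd] at hx2
  obtain ⟨n₁, hn₁d⟩ : ∃ n₁, n₁ = z * (φ z)⁻¹ := ⟨_, rfl⟩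
  have hn₁ : n₁ ∈ RGD.Sup X (NO cs h δ) := by
    have := inv_mem (hDw z hzD)
    have h2 : (φ z * z⁻¹)⁻¹ = z * (φ z)⁻¹ := by group
    rwa [h2, ← hn₁d] at this
  have hxx : φ p * φ q = p * q * n₁ := by
    rw [hn₁d]
    calc φ p * φ q = φ p * φ q * φ z * (φ z)⁻¹ := by group
      _ = _ := by rw [hx]; group
  -- `w`
  obtain ⟨w, hwd⟩ : ∃ w, w = q⁻¹ * φ p := ⟨_, rfl⟩
  have hw2 : w ∈ RGD.Sup X (NI cs h δ r') := by
    rw [hwd]
    exact mul_mem (inv_mem hq2) (g1 p hp1)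
  have hw1 : w ∈ RGD.Sup X (NI cs h δ r) := by
    have h1 : w = (q⁻¹ * p * q) * n₁ * (φ q)⁻¹ := by
      rw [hwd]
      calc q⁻¹ * φ p = q⁻¹ * (φ p * φ q) * (φ q)⁻¹ := by group
        _ = _ := by rw [hxx]; group
    rw [h1]
    exact mul_mem (mul_mem (i1.conj' S hs (hp i2 hq2) hp1) (hN1 hn₁)) (inv_mem (g2 q hq2))
  have hwD : w ∈ RGD.Sup X (NI cs h δ δ) := by
    rw [← hinf]
    exact Ideal.inf hs R i1 i2 hw1 hw2
  have hφp : φ p = q * w := by rw [hwd]; group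
  have hφq : φ q = w⁻¹ * q⁻¹ * p * q * n₁ := by
    calc φ q = (φ p)⁻¹ * (φ p * φ q) := by group
      _ = _ := by rw [hxx, hφp]; group
  rw [hφp, map_mul, hφq] at hx2
  -- `hx2 : w⁻¹ * q⁻¹ * p * q * n₁ * φ w = p`
  have hn₂ := hDw w hwD
  obtain ⟨n₂, hn₂d⟩ : ∃ n₂, n₂ = φ w * w⁻¹ := ⟨_, rfl⟩
  rw [← hn₂d] at hn₂
  have hφw : φ w = n₂ * w := by rw [hn₂d]; group
  rw [hφw] at hx2
  have hpU : p ∈ RGD.Sup X (RGD.Pos cs h) := hp i1 hp1
  have h1 : ⁅q⁻¹, p⁆ ∈ RGD.Sup X (NO cs h δ) := by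
    have h2 : q⁻¹ * p * q = w * p * w⁻¹ * (n₁ * n₂)⁻¹ := by
      have h3 : q⁻¹ * p * q * (n₁ * n₂) = w * p * w⁻¹ := by
        calc q⁻¹ * p * q * (n₁ * n₂) = w * (w⁻¹ * q⁻¹ * p * q * n₁ * (n₂ * w)) * w⁻¹ := by group
          _ = _ := by rw [hx2]
      rw [← h3]; group
    have h4 : ⁅q⁻¹, p⁆ = ⁅p, w⁆⁻¹ * (p * (n₁ * n₂)⁻¹ * p⁻¹) := by
      rw [commutatorElement_def, inv_inv, h2, commutatorElement_def]
      group
    rw [h4]
    exact mul_mem (inv_mem (cD hpU hwD)) (iN.conj S hs hpU (inv_mem (mul_mem hn₁ hn₂)))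
  have h2 : ⁅q⁻¹, p⁆ = e δ (b * a) := by
    have h3 : cpr cs h r' r = -1 := by rw [← hs r r' hr.1 hr'.1, hc]
    rw [hqd, hpd, S.data.inv hr'.1, S.data.comm1 r' r hr'.1 hr.1 h3 hc, hδ, add_comm r' r]
  rw [h2] at h1
  have h3 : b * a = 0 := S.data.inj δ hδr _ (inf_single hs R iN hδp (fun h4 => h4.2 le_rfl) (S.mem hδr _) h1)
  have hrD : r ∉ NI cs h δ δ := by
    rintro ⟨-, h4 | h4⟩
    · exact h4 (le_add_of_nonneg_right hr'.2)
    · apply hr'.1.ne_zero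
      refine le_antisymm (fun i => ?_) hr'.2
      have := h4 i
      simp only [hδ, Pi.add_apply, Pi.zero_apply] at this ⊢
      omega
  have hrD' : r' ∉ NI cs h δ δ := by
    rintro ⟨-, h4 | h4⟩
    · exact h4 (le_add_of_nonneg_left hr.2)
    · apply hr.1.ne_zero
      refine le_antisymm (fun i => ?_) hr.2
      have := h4 i
      simp only [hδ, Pi.add_apply, Pi.zero_apply] at this ⊢
      omega
  rcases mul_eq_zero.1 h3 with h4 | h4
  · -- `q = 1`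
    have hq1 : q = 1 := by rw [hqd, h4, S.data.zero hr'.1]
    rw [hq1, one_mul] at hφp
    have h5 : p ∈ RGD.Sup X (NI cs h δ δ) := by
      have h6 := gD w hwD
      rw [← hφp] at h6
      have h7 : φ (φ p) = p := by
        rw [hφp, hφw]
        rw [hq1] at hx2
        have h8 : w⁻¹ * p * n₁ * (n₂ * w) = p := by
          calc w⁻¹ * p * n₁ * (n₂ * w) = w⁻¹ * (1 : Y)⁻¹ * p * 1 * n₁ * (n₂ * w) := by group
            _ = p := hx2
        have h9 : φ q = w⁻¹ * p * n₁ := by rw [hφq, hq1]; group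
        rw [hq1, map_one] at h9
        calc n₂ * w = 1 * (n₂ * w) := by group
          _ = w⁻¹ * p * n₁ * (n₂ * w) := by rw [← h9]
          _ = p := h8
      rwa [h7] at h6
    have h6 := inf_single hs R iD hr hrD hpX h5
    rw [hpd] at h6
    exact ⟨S.data.inj r hr.1 _ h6, h4⟩
  · have hp1' : p = 1 := by rw [hpd, h4, S.data.zero hr.1]
    rw [hp1', map_one] at hφp
    have h5 : q ∈ RGD.Sup X (NI cs h δ δ) := by
      have h6 : q = w⁻¹ := by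
        rw [eq_inv_iff_mul_eq_one]
        exact hφp.symm
      rw [h6]
      exact inv_mem hwD
    have h6 := inf_single hs R iD hr' hrD' hqX h5
    rw [hqd] at h6
    exact ⟨h4, S.data.inj r' hr'.1 _ h6⟩

end Pol

/-! ### In an overgroup -/

section Over

variable {G : Type*} [Group G] [Finite G] {K₀ S : Subgroup G} [Finite W] [Finite K] [Nonempty I] [CharP K 2]
  {R : RGD cs h 2 T n X} {S' : Sys R e} (H : Hyp cs h T X) {l : MulAut Y →* Equiv.Perm I × (K ≃+* K)}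
  (L : IsOut S' l) {f : Y →* G}

include H L

/-- **Polarities are vacuous on the middle root.** -/
theorem pol_vac (hs : SL cs h) (D : Std cs h X K₀ S f) {y : G} (hy : y ∈ S) {φ : MulAut Y} (hφ : Acts f y φ)
    (hl : (l φ).2 = 1) {r r' : I → ℤ} (hr : r ∈ RGD.Pos cs h) (hr' : r' ∈ RGD.Pos cs h)
    (e1 : r ∘ (l φ).1.symm = r') (e2 : r' ∘ (l φ).1.symm = r) (hc : cpr cs h r r' = -1) (hyy : y * y = 1) {a b : K}
    {z : Y} (hz : z ∈ X (r + r')) (hx : f (e r a * e r' b * z) * y = y * f (e r a * e r' b * z)) : a = 0 ∧ b = 0 := by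
  have : Fact (Nat.Prime 2) := ⟨Nat.prime_two⟩
  have hY : Finite Y := Finite.of_injective f D.inj
  obtain ⟨u, hu, B, hp⟩ := exists_frameU H L (D.fix hy hφ)
  obtain ⟨k, hk⟩ := D.exists_pow hy hφ
  have hM := matrix_of H L φ
  have hA := H.cart _ hM
  have hδ : IsRoot cs h (r + r') := RgdSL.isRoot_add hr.1 hr'.1 hc
  have hδσ : (r + r') ∘ (l φ).1.symm = r + r' := by
    have h1 : (r + r') ∘ (l φ).1.symm = r ∘ (l φ).1.symm + r' ∘ (l φ).1.symm := rfl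
    rw [h1, e1, e2, add_comm]
  obtain ⟨a₀, ha₀, h1⟩ := Tau.pure R (coords S' H.gen) B (hp _ hk) hδ hδσ
  refine pol_core S' hs hu (φ := φ) (σ := (l φ).1) (fun d hd => pos_comp hM hA hd) (fun d hd v hv => ?_) hr hr' e1 e2 hc
    (fun v hv => ?_) (disj hs H.conn hA hr.1 hr'.1 hr.2 hr'.2 e1 e2 hc) hz ?_ ?_
  · obtain ⟨t, rfl⟩ := (S'.mem_X d hd.1 v).1 hv
    obtain ⟨c, hc0, hβ⟩ := Tau.root R (coords S' H.gen) B hd.1
    have h2 := hβ t
    rw [MulAut.mul_apply, MulAut.conj_apply] at h2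
    rw [h2]
    exact S'.mem (pos_comp hM hA hd).1 _
  · obtain ⟨t, rfl⟩ := (S'.mem_X _ hδ v).1 hv
    have h2 := h1 (a₀⁻¹ * t)
    rw [hl, RingAut.one_apply, mul_inv_cancel_left₀ ha₀, MulAut.mul_apply, MulAut.conj_apply] at h2
    exact h2
  · apply D.inj
    rw [hφ, ← hx, mul_inv_cancel_right]
  · apply D.inj
    rw [hφ, hφ]
    calc y * (y * f (e r a) * y⁻¹) * y⁻¹ = (y * y) * f (e r a) * (y * y)⁻¹ := by group
      _ = _ := by rw [hyy, one_mul, inv_one, mul_one]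

end Over

end Cfsg.Agent.KFacts.SysPol

end

-- merged: Cfsg.Agent.KFacts.SysMid
section

/-!
# Diagonal lines (ODD, D4, (k3))

`Sys R e`, simply laced. `r, r'` positive roots of the same height.

* `star_diag` : `u ∈ U` commuting with `e r a * e r' b` and `e r' b * e r a`, `a, b ≠ 0`, commutes with
  `e r (t a) * e r' (t b)` and `e r' (t b) * e r (t a)` for all `t`;
* `star_orth` (`⟨r, r'⟩ = 0`), `star_mid` (`⟨r, r'⟩ = -1`).
-/

set_option autoImplicit false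
set_option linter.unusedSectionVars false

namespace Cfsg.Agent.KFacts.SysMid

open CoxeterSystem Cfsg.Agent.ChevalleyStructure.CoxeterGeom Cfsg.Agent.Tits.Roots Cfsg.Agent.Tits.Core
  Cfsg.Agent.Tits.Exchange Cfsg.Agent.Nodes.Reps Cfsg.Agent.Nodes.BNOf Cfsg.Agent.Nodes.StabComb
  Cfsg.Agent.Nodes.Bruhat Cfsg.Agent.Nodes.OppDec Cfsg.Agent.Nodes.LeviDec Cfsg.Agent.Nodes.NormalForm
  Cfsg.Agent.Nodes.Coroot Cfsg.Agent.Nodes.PosPair Cfsg.Agent.KFacts.RgdPar Cfsg.Agent.KFacts.RgdTI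
  Cfsg.Agent.KFacts.RgdOpp Cfsg.Agent.KFacts.RgdAut Cfsg.Agent.KFacts.RgdDiag Cfsg.Agent.KFacts.RgdRigid
  Cfsg.Agent.KFacts.RgdCent Cfsg.Agent.KFacts.RgdKap Cfsg.Agent.KFacts.RgdField Cfsg.Agent.KFacts.RgdTau
  Cfsg.Agent.KFacts.RgdSys Cfsg.Agent.KFacts.RgdOver Cfsg.Agent.KFacts.RgdPure Cfsg.Agent.KFacts.ChevTwo
  Cfsg.Agent.KFacts.SysOut Cfsg.Agent.KFacts.SysLine Cfsg.Agent.KFacts.SysFlt Cfsg.Agent.KFacts.SLRow.Diag
  Cfsg.Agent.KFacts.SysFree Cfsg.Agent.KFacts.SysFltS Cfsg.Agent.OddHalf.D4.Free Cfsg.Agent.KFacts.RootDisj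
  Cfsg.Agent.KFacts.SysPol
open Cfsg.Agent.KFacts.RgdSL (SL)
open scoped commutatorElement

variable {I W Y K : Type*} [Fintype I] [DecidableEq I] [Group W] [Group Y] [Field K] {M : CoxeterMatrix I}
variable {cs : CoxeterSystem M W} {A : I → I → ℤ} {h : IsCartan M A} {e : (I → ℤ) → K → Y}
  {T : Subgroup Y} {n : I → Y} {X : (I → ℤ) → Subgroup Y}

/-- `w` commutes with `p q` and `q p` -/
def Cm (w p q : Y) : Prop := w * (p * q) = p * q * w ∧ w * (q * p) = q * p * w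

theorem Cm.symm {w p q : Y} (H : Cm w p q) : Cm w q p := ⟨H.2, H.1⟩

theorem Cm.mul {w v p q : Y} (H : Cm w p q) (H' : Cm v p q) : Cm (w * v) p q := by
  refine ⟨?_, ?_⟩
  · rw [mul_assoc, H'.1, ← mul_assoc, H.1]; group
  · rw [mul_assoc, H'.2, ← mul_assoc, H.2]; group

theorem Cm.of_mul {w v p q : Y} (H : Cm w p q) (H' : Cm (w * v) p q) : Cm v p q := by
  refine ⟨?_, ?_⟩
  · have h1 : w * (v * (p * q)) = w * (p * q * v) := by
      rw [← mul_assoc, H'.1, ← mul_assoc w (p * q) v, H.1]; group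
    exact mul_left_cancel h1
  · have h1 : w * (v * (q * p)) = w * (q * p * v) := by
      rw [← mul_assoc, H'.2, ← mul_assoc w (q * p) v, H.2]; group
    exact mul_left_cancel h1

theorem Cm.one (p q : Y) : Cm (1 : Y) p q := ⟨by group, by group⟩

theorem Cm.of_comm {w p q : Y} (h1 : w * p = p * w) (h2 : w * q = q * w) : Cm w p q := by
  refine ⟨?_, ?_⟩
  · rw [← mul_assoc, h1, mul_assoc, h2, mul_assoc]
  · rw [← mul_assoc, h2, mul_assoc, h1, mul_assoc]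

/-- the commutator of `g g'` and `p q` -/
theorem comm_four {g g' p q k k' : Y} (hgq : g * q = q * g) (hgp' : g' * p = p * g') (hgp : g * p = k * p * g)
    (hgq' : g' * q = k' * q * g') (h1 : k' * g = g * k') (h2 : k' * p = p * k') :
    g * g' * (p * q) = k * k' * (p * q) * (g * g') := by
  calc g * g' * (p * q) = g * (g' * p) * q := by group
    _ = (g * p) * (g' * q) := by rw [hgp']; group
    _ = k * p * (g * k') * q * g' := by rw [hgp, hgq']; group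
    _ = k * (p * k') * (g * q) * g' := by rw [← h1]; group
    _ = _ := by rw [← h2, hgq]; group

theorem cm_four {g g' p q k : Y} (hgq : g * q = q * g) (hgp' : g' * p = p * g') (hgp : g * p = k * p * g)
    (hgq' : g' * q = k * q * g') (h1 : k * g = g * k) (h2 : k * p = p * k) (h1' : k * g' = g' * k)
    (h2' : k * q = q * k) (hk : k * k = 1) : Cm (g * g') p q := by
  refine ⟨?_, ?_⟩
  · rw [comm_four hgq hgp' hgp hgq' h1 h2, hk, one_mul]
  · calc g * g' * (q * p) = g * (g' * q) * p := by group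
      _ = (g * k) * q * (g' * p) := by rw [hgq']; group
      _ = k * (g * q) * p * g' := by rw [← h1, hgp']; group
      _ = k * q * (g * p) * g' := by rw [hgq]; group
      _ = k * (q * k) * p * g * g' := by rw [hgp]; group
      _ = (k * k) * (q * p) * (g * g') := by rw [← h2']; group
      _ = _ := by rw [hk, one_mul]

/-- roots of height `> i` -/
def HS (cs : CoxeterSystem M W) (h : IsCartan M A) (i : ℕ) : Set (I → ℤ) :=
  {r | r ∈ RGD.Pos cs h ∧ (i : ℤ) < ht r}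

theorem ideal_btw {Q : Set (I → ℤ)} {i : ℕ} (h1 : HS cs h (i + 1) ⊆ Q) (h2 : Q ⊆ HS cs h i) : Ideal cs h Q where
  pos _ hx := (h2 hx).1
  add := by
    intro x hx y hy hxy
    refine h1 ⟨pos_add (h2 hx).1 hy hxy, ?_⟩
    have h3 := (h2 hx).2
    have h4 := ht_pos hy
    rw [ht_add]
    push_cast
    omega

section Step

variable [Finite W] {R : RGD cs h 2 T n X} (S : Sys R e) (hs : SL cs h)

include S hs

/-- splitting off a root -/
theorem exists_dec {Q : Set (I → ℤ)} {d : I → ℤ} (hd : d ∈ RGD.Pos cs h) (hQ : Ideal cs h (Q \ {d})) {u : Y}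
    (hu : u ∈ RGD.Sup X Q) : ∃ c : K, ∃ v ∈ RGD.Sup X (Q \ {d}), u = e d c * v := by
  have hXU : X d ≤ RGD.Sup X (RGD.Pos cs h) := RGD.le_Sup hd
  have hmem : ∀ c, e d c ∈ RGD.Sup X (RGD.Pos cs h) := fun c => hXU (S.mem hd.1 c)
  let L : Subgroup Y :=
    { carrier := {u | ∃ c : K, ∃ v ∈ RGD.Sup X (Q \ {d}), u = e d c * v}
      one_mem' := ⟨0, 1, one_mem _, by rw [S.data.zero hd.1, one_mul]⟩
      mul_mem' := by
        rintro _ _ ⟨c, v, hv, rfl⟩ ⟨c', v', hv', rfl⟩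
        refine ⟨c + c', (e d c')⁻¹ * v * e d c' * v', mul_mem (hQ.conj' S hs (hmem c') hv) hv', ?_⟩
        rw [S.data.add d hd.1]
        group
      inv_mem' := by
        rintro _ ⟨c, v, hv, rfl⟩
        refine ⟨c, e d c * v⁻¹ * (e d c)⁻¹, hQ.conj S hs (hmem c) (inv_mem hv), ?_⟩
        have h1 := S.data.sq hd.1 c
        calc (e d c * v)⁻¹ = v⁻¹ * (e d c)⁻¹ := by group
          _ = (e d c * e d c) * (v⁻¹ * (e d c)⁻¹) := by rw [h1, one_mul]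
          _ = _ := by group }
  have h1 : RGD.Sup X Q ≤ L := by
    refine RGD.Sup_le fun x hx v hv => ?_
    by_cases hxd : x = d
    · subst hxd
      obtain ⟨c, rfl⟩ := (S.mem_X x hd.1 v).1 hv
      exact ⟨c, 1, one_mem _, by rw [mul_one]⟩
    · exact ⟨0, v, RGD.le_Sup (S := Q \ {d}) ⟨hx, hxd⟩ hv, by rw [S.data.zero hd.1, one_mul]⟩
  exact h1 hu

/-- root elements with nonnegative pairing commute -/
theorem comm_e {x y : I → ℤ} (hx : IsRoot cs h x) (hy : IsRoot cs h y) (hc : 0 ≤ cpr cs h x y) (a b : K) :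
    e x a * e y b = e y b * e x a := S.data.comm_of_nonneg hx hy hc a b

/-- root elements with pairing `-1` -/
theorem comm_e' {x y : I → ℤ} (hx : IsRoot cs h x) (hy : IsRoot cs h y) (hc : cpr cs h x y = -1) (a b : K) :
    e x a * e y b = e (x + y) (a * b) * e y b * e x a := by
  have h1 : cpr cs h y x = -1 := by rw [← hs x y hx hy, hc]
  have h2 := S.data.comm1 x y hx hy hc h1 a b
  rw [commutatorElement_def] at h2
  rw [← h2]
  group

/-- **One step of the induction.** -/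
theorem step {Q : Set (I → ℤ)} {i : ℕ} (hQ1 : HS cs h (i + 1) ⊆ Q) (hQ2 : Q ⊆ HS cs h i) {d : I → ℤ} (hd : d ∈ Q)
    (hdi : ht d = i + 1) {r r' : I → ℤ} (hr : r ∈ RGD.Pos cs h) (hr' : r' ∈ RGD.Pos cs h) (hrr : r ≠ r')
    (hht : ht r = ht r') (hc0 : cpr cs h r r' ≤ 0) (hdr : cpr cs h d r = -1) {a b : K} (ha : a ≠ 0) (hb : b ≠ 0) {u : Y}
    (hu : u ∈ RGD.Sup X Q) (hux : u * (e r a * e r' b) = e r a * e r' b * u) :
    ∃ w v Q', u = w * v ∧ v ∈ RGD.Sup X Q' ∧ Q' ⊂ Q ∧ HS cs h (i + 1) ⊆ Q' ∧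
      ∀ t, Cm w (e r (t * a)) (e r' (t * b)) := by
  have hdp : d ∈ RGD.Pos cs h := (hQ2 hd).1
  have hρ : IsRoot cs h (d + r) := RgdSL.isRoot_add hdp.1 hr.1 hdr
  obtain ⟨ρ, hρd⟩ : ∃ ρ, ρ = d + r := ⟨_, rfl⟩
  rw [← hρd] at hρ
  have hρp : ρ ∈ RGD.Pos cs h := by rw [hρd] at hρ ⊢; exact pos_add hdp hr hρ
  have hρh : ht ρ = i + 1 + ht r := by rw [hρd, ht_add, hdi]
  -- the ideal `E`
  obtain ⟨E, hE⟩ : ∃ E : Set (I → ℤ), E = {z | z ∈ RGD.Pos cs h ∧ ht ρ ≤ ht z ∧ z ≠ ρ} := ⟨_, rfl⟩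
  have iE : Ideal cs h E := by
    rw [hE]
    refine ⟨fun x hx => hx.1, fun x hx y hy hxy => ⟨pos_add hx.1 hy hxy, ?_, ?_⟩⟩
    · have h1 := hx.2.1
      have h2 := ht_pos hy
      rw [ht_add]; omega
    · intro h3
      have h1 := hx.2.1
      have h2 := ht_pos hy
      have h4 : ht x + ht y = ht ρ := by rw [← ht_add, h3]
      omega
  have hρE : ∀ c : K, e ρ c ∈ RGD.Sup X E → c = 0 := fun c hc =>
    S.data.inj ρ hρ _ (inf_single hs R iE hρp (by rw [hE]; rintro ⟨-, -, h1⟩; exact h1 rfl) (S.mem hρ c) hc)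
  -- splitting off `d`
  have hQd1 : HS cs h (i + 1) ⊆ Q \ {d} := fun x hx => ⟨hQ1 hx, fun h1 => by
    rw [Set.mem_singleton_iff] at h1
    have := hx.2
    rw [h1] at this
    push_cast at this
    omega⟩
  have hQd2 : Q \ {d} ⊆ HS cs h i := fun x hx => hQ2 hx.1
  have iQd := ideal_btw hQd1 hQd2
  obtain ⟨c, v, hv, rfl⟩ := exists_dec S hs hdp iQd hu
  have hdU : ∀ c, e d c ∈ RGD.Sup X (RGD.Pos cs h) := fun c => RGD.le_Sup hdp (S.mem hdp.1 c)
  have hrU : ∀ c, e r c ∈ RGD.Sup X (RGD.Pos cs h) := fun c => RGD.le_Sup hr (S.mem hr.1 c)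
  have hrU' : ∀ c, e r' c ∈ RGD.Sup X (RGD.Pos cs h) := fun c => RGD.le_Sup hr' (S.mem hr'.1 c)
  -- pairings
  have c1 : cpr cs h ρ d = 1 := by
    rw [hρd, cpr_add cs h _ _ hdp.1, cpr_self cs h hdp.1, hs r d hr.1 hdp.1, hdr]; norm_num
  have c2 : cpr cs h ρ r = 1 := by rw [hρd, cpr_add cs h _ _ hr.1, cpr_self cs h hr.1, hdr]; norm_num
  -- elements without `ρ`-part
  have hlow : ∀ {Q'' : Set (I → ℤ)}, Q'' ⊆ HS cs h i → (∀ y ∈ Q'', y + r ≠ ρ ∧ y + r' ≠ ρ) →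
      ∀ v ∈ RGD.Sup X Q'', ⁅v, e r a * e r' b⁆ ∈ RGD.Sup X E := by
    intro Q'' h1 h2 v hv
    have h3 : e r a * e r' b ∈ RGD.Sup X {x | x = r ∨ x = r'} :=
      mul_mem (RGD.le_Sup (S := {x | x = r ∨ x = r'}) (Or.inl rfl) (S.mem hr.1 a))
        (RGD.le_Sup (S := {x | x = r ∨ x = r'}) (Or.inr rfl) (S.mem hr'.1 b))
    refine comm_le S hs (fun x hx => (h1 hx).1) (fun x hx => ?_) iE (fun x hx y hy hxy => ?_) hv h3
    · rcases hx with rfl | rfl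
      · exact hr
      · exact hr'
    · have h4 := (h1 hx).2
      rw [hE]
      rcases hy with rfl | rfl
      · refine ⟨pos_add (h1 hx).1 hr hxy, ?_, (h2 x hx).1⟩
        rw [ht_add, hρh]
        omega
      · refine ⟨pos_add (h1 hx).1 hr' hxy, ?_, (h2 x hx).2⟩
        rw [ht_add, hρh, hht]
        omega
  -- from the commutation to a commutator of the low part
  have hcl : ∀ {g v : Y}, g ∈ RGD.Sup X (RGD.Pos cs h) → g * v * (e r a * e r' b) = e r a * e r' b * (g * v) →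
      ⁅v, e r a * e r' b⁆ ∈ RGD.Sup X E → ⁅g, e r a * e r' b⁆ ∈ RGD.Sup X E := by
    intro g v hg h1 h2
    have h3 : ⁅g, e r a * e r' b⁆ = g * ⁅v, e r a * e r' b⁆⁻¹ * g⁻¹ := by
      simp only [commutatorElement_def]
      have h4 : e r a * e r' b = (g * v) * (e r a * e r' b) * (g * v)⁻¹ := by rw [h1]; group
      calc g * (e r a * e r' b) * g⁻¹ * (e r a * e r' b)⁻¹ =
          g * (e r a * e r' b) * g⁻¹ * ((g * v) * (e r a * e r' b) * (g * v)⁻¹)⁻¹ := by rw [← h4]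
        _ = _ := by group
    rw [h3]
    exact iE.conj S hs hg (inv_mem h2)
  by_cases hd' : ∃ d' ∈ Q, d' + r' = ρ
  · obtain ⟨d', hd'Q, hd'ρ⟩ := hd'
    have hdd : d' ≠ d := by
      rintro rfl
      apply hrr
      rw [hρd] at hd'ρ
      exact (add_left_cancel hd'ρ).symm
    have hdp' : d' ∈ RGD.Pos cs h := (hQ2 hd'Q).1
    have hd'h : ht d' = i + 1 := by
      have h1 : ht d' + ht r' = ht ρ := by rw [← ht_add, hd'ρ]
      omega
    -- pairings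
    have hne : ∀ {x : I → ℤ}, x ∈ RGD.Pos cs h → (∃ y ∈ RGD.Pos cs h, x + y = ρ) → cpr cs h x ρ ≤ 1 := by
      rintro x hx ⟨y, hy, hxy⟩
      rcases hs.cases hx.1 hρ with ⟨h1, -⟩ | ⟨h1, -⟩ | ⟨-, -, -, h2⟩
      · exfalso
        have h3 := ht_pos hy
        have h4 : ht x + ht y = ht ρ := by rw [← ht_add, hxy]
        rw [h1] at h4
        omega
      · exact absurd h1 (ne_neg hx hρp)
      · exact h2
    have c3 : cpr cs h d' r' = -1 := by
      have h1 : cpr cs h d' ρ + cpr cs h r' ρ = 2 := by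
        rw [← cpr_add cs h _ _ hρ, hd'ρ, cpr_self cs h hρ]
      have h2 := hne hdp' ⟨r', hr', hd'ρ⟩
      have h3 := hne hr' ⟨d', hdp', by rw [add_comm, hd'ρ]⟩
      have h4 : cpr cs h ρ r' = 1 := by rw [hs ρ r' hρ hr'.1]; omega
      rw [← hd'ρ, cpr_add cs h _ _ hr'.1, cpr_self cs h hr'.1] at h4
      omega
    have c4 : cpr cs h ρ d' = 1 := by
      rw [← hd'ρ, cpr_add cs h _ _ hdp'.1, cpr_self cs h hdp'.1, hs r' d' hr'.1 hdp'.1, c3]; norm_num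
    have c5 : cpr cs h ρ r' = 1 := by rw [← hd'ρ, cpr_add cs h _ _ hr'.1, cpr_self cs h hr'.1, c3]; norm_num
    have c6 : 0 ≤ cpr cs h d r' := by
      have h1 : cpr cs h d r' + cpr cs h r r' = 1 := by rw [← cpr_add cs h _ _ hr'.1, ← hρd, c5]
      omega
    have c7 : 0 ≤ cpr cs h d' r := by
      have h1 : cpr cs h d' r + cpr cs h r' r = 1 := by rw [← cpr_add cs h _ _ hr.1, hd'ρ, c2]
      rw [hs r' r hr'.1 hr.1] at h1
      omega
    -- splitting off `d'`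
    have hQe1 : HS cs h (i + 1) ⊆ (Q \ {d}) \ {d'} := fun x hx => ⟨hQd1 hx, fun h1 => by
      rw [Set.mem_singleton_iff] at h1
      have := hx.2
      rw [h1] at this
      push_cast at this
      omega⟩
    have hQe2 : (Q \ {d}) \ {d'} ⊆ HS cs h i := fun x hx => hQd2 hx.1
    have iQe := ideal_btw hQe1 hQe2
    obtain ⟨c', v', hv', rfl⟩ := exists_dec S hs hdp' iQe hv
    have hcomm : ∀ t : K, e d c * e d' c' * (e r (t * a) * e r' (t * b)) =
        e ρ (c * (t * a)) * e ρ (c' * (t * b)) * (e r (t * a) * e r' (t * b)) * (e d c * e d' c') := by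
      intro t
      refine comm_four (comm_e S hs hdp.1 hr'.1 c6 _ _) (comm_e S hs hdp'.1 hr.1 c7 _ _) ?_ ?_
        (comm_e S hs hρ hdp.1 (by omega) _ _) (comm_e S hs hρ hr.1 (by omega) _ _)
      · rw [hρd]; exact comm_e' S hs hdp.1 hr.1 hdr _ _
      · rw [← hd'ρ]; exact comm_e' S hs hdp'.1 hr'.1 c3 _ _
    have hdU' : ∀ c, e d' c ∈ RGD.Sup X (RGD.Pos cs h) := fun c => RGD.le_Sup hdp' (S.mem hdp'.1 c)
    have h1 : ⁅e d c * e d' c', e r a * e r' b⁆ ∈ RGD.Sup X E := by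
      refine hcl (v := v') (mul_mem (hdU c) (hdU' c')) ?_ (hlow hQe2 (fun y hy => ⟨fun h1 => ?_, fun h1 => ?_⟩) v' hv')
      · rw [mul_assoc (e d c)]
        exact hux
      · apply hy.1.2
        rw [Set.mem_singleton_iff]
        rw [hρd] at h1
        exact add_right_cancel h1
      · apply hy.2
        rw [Set.mem_singleton_iff]
        rw [← hd'ρ] at h1
        exact add_right_cancel h1
    have h2 : ⁅e d c * e d' c', e r a * e r' b⁆ = e ρ (c * a + c' * b) := by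
      have h3 := hcomm 1
      rw [one_mul, one_mul] at h3
      rw [commutatorElement_def, h3, S.data.add ρ hρ]
      group
    rw [h2] at h1
    have h4 := hρE _ h1
    have h5 : c' * b = c * a := by
      have h6 := S.data.two (c * a)
      have h7 : c * a + c' * b = c * a + c * a := by rw [h4, h6]
      exact add_left_cancel h7
    refine ⟨e d c * e d' c', v', (Q \ {d}) \ {d'}, by group, hv', ?_, hQe1, fun t => ?_⟩
    · exact ⟨fun x hx => hx.1.1, fun h6 => (h6 hd).1.2 rfl⟩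
    · refine cm_four (k := e ρ (c * (t * a))) (comm_e S hs hdp.1 hr'.1 c6 _ _) (comm_e S hs hdp'.1 hr.1 c7 _ _) ?_ ?_
        (comm_e S hs hρ hdp.1 (by omega) _ _) (comm_e S hs hρ hr.1 (by omega) _ _)
        (comm_e S hs hρ hdp'.1 (by omega) _ _) (comm_e S hs hρ hr'.1 (by omega) _ _) (S.data.sq hρ _)
      · rw [hρd]; exact comm_e' S hs hdp.1 hr.1 hdr _ _
      · have h6 : c * (t * a) = c' * (t * b) := by linear_combination (-t) * h5
        rw [h6, ← hd'ρ]; exact comm_e' S hs hdp'.1 hr'.1 c3 _ _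
  · push Not at hd'
    have h1 : ⁅e d c, e r a * e r' b⁆ ∈ RGD.Sup X E := by
      refine hcl (v := v) (hdU c) hux (hlow hQd2 (fun y hy => ⟨fun h1 => ?_, fun h1 => ?_⟩) v hv)
      · apply hy.2
        rw [Set.mem_singleton_iff]
        rw [hρd] at h1
        exact add_right_cancel h1
      · exact hd' y hy.1 h1
    have h2 : ⁅e d c, e r' b⁆ ∈ RGD.Sup X E := by
      rcases comm_cases S hs hdp hr' (S.mem hdp.1 c) (S.mem hr'.1 b) with h3 | ⟨h3, h4⟩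
      · rw [h3]; exact one_mem _
      · refine RGD.le_Sup ?_ h4
        rw [hE]
        refine ⟨pos_add hdp hr' h3, ?_, hd' d hd⟩
        rw [ht_add, hρh, hht, hdi]
    have h3 : ⁅e d c, e r a * e r' b⁆ = e ρ (c * a) * (e r a * ⁅e d c, e r' b⁆ * (e r a)⁻¹) := by
      have h4 := comm_e' S hs hdp.1 hr.1 hdr c a
      rw [← hρd] at h4
      simp only [commutatorElement_def]
      calc e d c * (e r a * e r' b) * (e d c)⁻¹ * (e r a * e r' b)⁻¹ =
          (e d c * e r a) * e r' b * (e d c)⁻¹ * (e r a * e r' b)⁻¹ := by group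
        _ = _ := by rw [h4]; group
    rw [h3] at h1
    have h4 : e ρ (c * a) ∈ RGD.Sup X E := by
      have h5 := mul_mem h1 (inv_mem (iE.conj S hs (hrU a) h2))
      rwa [mul_inv_cancel_right] at h5
    have h5 := hρE _ h4
    rcases mul_eq_zero.1 h5 with h6 | h6
    · refine ⟨1, v, Q \ {d}, ?_, hv, ⟨fun x hx => hx.1, fun h7 => (h7 hd).2 rfl⟩, hQd1, fun t => Cm.one _ _⟩
      rw [h6, S.data.zero hdp.1]
    · exact absurd h6 ha

/-- **Diagonal lines, general form.** -/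
theorem star_diag {r r' : I → ℤ} (hr : r ∈ RGD.Pos cs h) (hr' : r' ∈ RGD.Pos cs h) (hrr : r ≠ r')
    (hht : ht r = ht r') (hc0 : cpr cs h r r' ≤ 0) {a b : K} (ha : a ≠ 0) (hb : b ≠ 0) {u : Y}
    (hu : u ∈ RGD.Sup X (RGD.Pos cs h)) (hux : Cm u (e r a) (e r' b)) (t : K) : Cm u (e r (t * a)) (e r' (t * b)) := by
  have hfin : (RGD.Pos cs h).Finite := (RGD.finite_roots (cs := cs) (h := h)).subset fun x hx => hx.1
  have key : ∀ n : ℕ, ∀ Q : Set (I → ℤ), Q.ncard ≤ n → (∃ i : ℕ, HS cs h (i + 1) ⊆ Q ∧ Q ⊆ HS cs h i) →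
      ∀ u ∈ RGD.Sup X Q, Cm u (e r a) (e r' b) → Cm u (e r (t * a)) (e r' (t * b)) := by
    intro n
    induction n with
    | zero =>
      rintro Q hn ⟨i, hQ1, hQ2⟩ u hu -
      have h1 : Q.Finite := hfin.subset fun x hx => (hQ2 hx).1
      have h2 : Q = ∅ := (Set.ncard_eq_zero h1).1 (Nat.le_zero.1 hn)
      rw [h2, Sup_empty, Subgroup.mem_bot] at hu
      rw [hu]
      exact Cm.one _ _
    | succ n ih =>
      rintro Q hn ⟨i₀, hQ1₀, hQ2₀⟩ u hu hux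
      have hQf : Q.Finite := hfin.subset fun x hx => (hQ2₀ hx).1
      by_cases hQe : Q.Nonempty
      swap
      · rw [Set.not_nonempty_iff_eq_empty] at hQe
        rw [hQe, Sup_empty, Subgroup.mem_bot] at hu
        rw [hu]
        exact Cm.one _ _
      obtain ⟨d, hd, hmin⟩ := Set.exists_min_image Q ht hQf hQe
      have hdp := (hQ2₀ hd).1
      obtain ⟨i, hi⟩ : ∃ i : ℕ, ht d = i + 1 := ⟨(ht d - 1).toNat, by have := ht_pos hdp; omega⟩
      have hQ2 : Q ⊆ HS cs h i := fun x hx => ⟨(hQ2₀ hx).1, by have := hmin x hx; omega⟩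
      have hQ1 : HS cs h (i + 1) ⊆ Q := fun x hx => hQ1₀ ⟨hx.1, by
        have h1 := hx.2
        have h2 := (hQ2₀ hd).2
        push_cast at h1 ⊢
        omega⟩
      -- the conclusion from a step
      have hstep : (∃ w v Q', u = w * v ∧ v ∈ RGD.Sup X Q' ∧ Q' ⊂ Q ∧ HS cs h (i + 1) ⊆ Q' ∧
          ∀ t, Cm w (e r (t * a)) (e r' (t * b))) → Cm u (e r (t * a)) (e r' (t * b)) := by
        rintro ⟨w, v, Q', rfl, hv, hQ', hQ'1, hw⟩
        have h1 : Q'.ncard < Q.ncard := Set.ncard_lt_ncard hQ' hQf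
        have h2 := hw 1
        rw [one_mul, one_mul] at h2
        exact (hw t).mul (ih Q' (by omega) ⟨i, hQ'1, hQ'.1.trans hQ2⟩ v hv (h2.of_mul hux))
      by_cases hc1 : cpr cs h d r = -1
      · exact hstep (step S hs hQ1 hQ2 hd hi hr hr' hrr hht hc0 hc1 ha hb hu hux.1)
      by_cases hc2 : cpr cs h d r' = -1
      · obtain ⟨w, v, Q', h1, h2, h3, h4, h5⟩ := step S hs hQ1 hQ2 hd hi hr' hr hrr.symm hht.symm
          (by rw [← hs r r' hr.1 hr'.1]; exact hc0) hc2 hb ha hu hux.2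
        exact hstep ⟨w, v, Q', h1, h2, h3, h4, fun t => (h5 t).symm⟩
      · have hge : ∀ {x : I → ℤ}, x ∈ RGD.Pos cs h → cpr cs h d x ≠ -1 → 0 ≤ cpr cs h d x := by
          intro x hx h1
          rcases hs.cases hdp.1 hx.1 with ⟨-, h2⟩ | ⟨h2, -⟩ | ⟨-, -, h2, -⟩
          · omega
          · exact absurd h2 (ne_neg hdp hx)
          · omega
        have hQd1 : HS cs h (i + 1) ⊆ Q \ {d} := fun x hx => ⟨hQ1 hx, fun h1 => by
          rw [Set.mem_singleton_iff] at h1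
          have := hx.2
          rw [h1] at this
          push_cast at this
          omega⟩
        obtain ⟨c, v, hv, h1⟩ := exists_dec S hs hdp (ideal_btw hQd1 fun x hx => hQ2 hx.1) hu
        exact hstep ⟨e d c, v, Q \ {d}, h1, hv, ⟨fun x hx => hx.1, fun h7 => (h7 hd).2 rfl⟩, hQd1, fun t =>
          Cm.of_comm (comm_e S hs hdp.1 hr.1 (hge hr hc1) _ _) (comm_e S hs hdp.1 hr'.1 (hge hr' hc2) _ _)⟩
  refine key _ (RGD.Pos cs h) le_rfl ⟨0, fun x hx => hx.1, fun x hx => ⟨hx, by exact_mod_cast ht_pos hx⟩⟩ u hu hux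

/-- **Orthogonal roots.** -/
theorem star_orth {r r' : I → ℤ} (hr : r ∈ RGD.Pos cs h) (hr' : r' ∈ RGD.Pos cs h) (hht : ht r = ht r')
    (hc : cpr cs h r r' = 0) {a b : K} (ha : a ≠ 0) (hb : b ≠ 0) {u : Y} (hu : u ∈ RGD.Sup X (RGD.Pos cs h))
    (hux : u * (e r a * e r' b) = e r a * e r' b * u) (t : K) :
    u * (e r (t * a) * e r' (t * b)) = e r (t * a) * e r' (t * b) * u := by
  have hrr : r ≠ r' := by
    rintro rfl
    rw [cpr_self cs h hr.1] at hc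
    omega
  have h1 : e r' b * e r a = e r a * e r' b := (comm_e S hs hr.1 hr'.1 hc.ge _ _).symm
  exact (star_diag S hs hr hr' hrr hht hc.le ha hb hu ⟨hux, by rw [h1]; exact hux⟩ t).1

/-- **The middle root of `A_{2m}`.** -/
theorem star_mid (hG1 : RGD.Sup X {x | IsRoot cs h x} = ⊤) {r r' : I → ℤ} (hr : r ∈ RGD.Pos cs h)
    (hr' : r' ∈ RGD.Pos cs h) (hht : ht r = ht r') (hc : cpr cs h r r' = -1) {a b : K} (ha : a ≠ 0) (hb : b ≠ 0) {u : Y}
    (hu : u ∈ RGD.Sup X (RGD.Pos cs h)) {z : Y} (hz : z ∈ X (r + r'))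
    (hux : u * (e r a * e r' b * z) = e r a * e r' b * z * u) :
    (∀ z' ∈ X (r + r'), u * z' = z' * u) ∧ ∀ t, Cm u (e r (t * a)) (e r' (t * b)) := by
  have hrr : r ≠ r' := by
    rintro rfl
    rw [cpr_self cs h hr.1] at hc
    omega
  have hc' : cpr cs h r' r = -1 := by rw [← hs r r' hr.1 hr'.1, hc]
  have hδ : IsRoot cs h (r + r') := RgdSL.isRoot_add hr.1 hr'.1 hc
  obtain ⟨δ, hδd⟩ : ∃ δ, δ = r + r' := ⟨_, rfl⟩
  rw [← hδd] at hz hδ ⊢
  have d1 : cpr cs h δ r = 1 := by rw [hδd, cpr_add cs h _ _ hr.1, cpr_self cs h hr.1, hc']; norm_num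
  have d2 : cpr cs h δ r' = 1 := by rw [hδd, cpr_add cs h _ _ hr'.1, cpr_self cs h hr'.1, hc]; norm_num
  obtain ⟨c, rfl⟩ := (S.mem_X δ hδ z).1 hz
  obtain ⟨p, hp⟩ : ∃ p, p = e r a := ⟨_, rfl⟩
  obtain ⟨q, hq⟩ : ∃ q, q = e r' b := ⟨_, rfl⟩
  obtain ⟨k, hk⟩ : ∃ k, k = e δ (a * b) := ⟨_, rfl⟩
  obtain ⟨w, hw⟩ : ∃ w, w = e δ c := ⟨_, rfl⟩
  rw [← hp, ← hq, ← hw] at hux
  have e1 : p * q = k * q * p := by rw [hp, hq, hk, hδd]; exact comm_e' S hs hr.1 hr'.1 hc _ _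
  have e2 : w * p = p * w := by rw [hp, hw]; exact comm_e S hs hδ hr.1 (by omega) _ _
  have e3 : w * q = q * w := by rw [hq, hw]; exact comm_e S hs hδ hr'.1 (by omega) _ _
  have e4 : w * w = 1 := by rw [hw]; exact S.data.sq hδ _
  have e5 : p * p = 1 := by rw [hp]; exact S.data.sq hr.1 _
  have e6 : q * q = 1 := by rw [hq]; exact S.data.sq hr'.1 _
  have e7 : k * p = p * k := by rw [hp, hk]; exact comm_e S hs hδ hr.1 (by omega) _ _
  have e8 : k * q = q * k := by rw [hq, hk]; exact comm_e S hs hδ hr'.1 (by omega) _ _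
  have e9 : k * k = 1 := by rw [hk]; exact S.data.sq hδ _
  -- the square
  have h1 : p * q * w * (p * q * w) = k := by
    calc p * q * w * (p * q * w) = p * q * (w * p) * q * w := by group
      _ = p * q * p * (w * q) * w := by rw [e2]; group
      _ = p * q * p * q * (w * w) := by rw [e3]; group
      _ = p * q * (p * q) := by rw [e4]; group
      _ = p * q * (k * q * p) := by rw [← e1]
      _ = p * (q * k) * q * p := by group
      _ = (p * k) * (q * q) * p := by rw [← e8]; group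
      _ = k * (p * p) := by rw [← e7, e6]; group
      _ = k := by rw [e5, mul_one]
  have h2 : u * k = k * u := by
    rw [← h1]
    calc u * (p * q * w * (p * q * w)) = (u * (p * q * w)) * (p * q * w) := by group
      _ = (p * q * w * u) * (p * q * w) := by rw [hux]
      _ = p * q * w * (u * (p * q * w)) := by group
      _ = p * q * w * (p * q * w * u) := by rw [hux]
      _ = _ := by group
  have h3 : ∀ z' ∈ X δ, u * z' = z' * u := by
    intro z' hz'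
    rw [hk] at h2
    exact comm_all S hG1 hδ (S.mem hδ (a * b)) (S.data.ne_one hδ (mul_ne_zero ha hb)) h2 hz'
  refine ⟨h3, ?_⟩
  have h4 : u * w = w * u := h3 w (by rw [hw]; exact S.mem hδ c)
  have h5 : u * (p * q) = p * q * u := by
    have h6 : u * (p * q) * w = p * q * u * w := by
      calc u * (p * q) * w = u * (p * q * w) := by group
        _ = p * q * (w * u) := by rw [hux]; group
        _ = _ := by rw [← h4]; group
    exact mul_right_cancel h6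
  have h6 : u * (q * p) = q * p * u := by
    have h7 : q * p = k * (p * q) := by
      rw [e1]
      calc q * p = (k * k) * (q * p) := by rw [e9, one_mul]
        _ = _ := by group
    rw [h7]
    calc u * (k * (p * q)) = (u * k) * (p * q) := by group
      _ = k * (u * (p * q)) := by rw [h2]; group
      _ = _ := by rw [h5]; group
  rw [hp, hq] at h5 h6
  exact star_diag S hs hr hr' hrr hht (by omega) ha hb hu ⟨h5, h6⟩

end Step

end Cfsg.Agent.KFacts.SysMid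

end

-- merged: Cfsg.Agent.KFacts.SysFltG
section

/-!
# (k3) for `Sys` with diagram symmetries (ODD, D4, free pairs)

`Sys R e`, simply laced, `β` the frame representative of a diagram symmetry `σ` of order `≤ 2`, without field part.

* `Vt j = {u ∈ UH j | β u u⁻¹ ∈ UH (j + 1)}`; `Dg r = {x β(x) z | x ∈ X r, z ∈ X (r + σ r)}`;
* the refined filtration `UH j > Vt j > UH (j + 1)` with the lines `X r` (`σ r ≠ r`), resp. `X r` (`σ r = r`), `Dg r`;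
* `exists_fltS` : `FltS` for every good subgroup.
-/

set_option autoImplicit false
set_option linter.unusedSectionVars false

namespace Cfsg.Agent.KFacts.SysFltG

open CoxeterSystem Cfsg.Agent.ChevalleyStructure.CoxeterGeom Cfsg.Agent.Tits.Roots Cfsg.Agent.Tits.Core
  Cfsg.Agent.Tits.Exchange Cfsg.Agent.Nodes.Reps Cfsg.Agent.Nodes.BNOf Cfsg.Agent.Nodes.StabComb
  Cfsg.Agent.Nodes.Bruhat Cfsg.Agent.Nodes.OppDec Cfsg.Agent.Nodes.LeviDec Cfsg.Agent.Nodes.NormalForm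
  Cfsg.Agent.Nodes.Coroot Cfsg.Agent.Nodes.PosPair Cfsg.Agent.KFacts.RgdPar Cfsg.Agent.KFacts.RgdTI
  Cfsg.Agent.KFacts.RgdOpp Cfsg.Agent.KFacts.RgdAut Cfsg.Agent.KFacts.RgdDiag Cfsg.Agent.KFacts.RgdRigid
  Cfsg.Agent.KFacts.RgdCent Cfsg.Agent.KFacts.RgdKap Cfsg.Agent.KFacts.RgdField Cfsg.Agent.KFacts.RgdTau
  Cfsg.Agent.KFacts.RgdSys Cfsg.Agent.KFacts.RgdOver Cfsg.Agent.KFacts.RgdPure Cfsg.Agent.KFacts.ChevTwo
  Cfsg.Agent.KFacts.SysOut Cfsg.Agent.KFacts.SysLine Cfsg.Agent.KFacts.SysFlt Cfsg.Agent.KFacts.SLRow.Diag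
  Cfsg.Agent.KFacts.SysFree Cfsg.Agent.KFacts.SysFltS Cfsg.Agent.OddHalf.D4.Free Cfsg.Agent.KFacts.RootDisj
  Cfsg.Agent.KFacts.SysPol Cfsg.Agent.KFacts.SysMid
open Cfsg.Agent.KFacts.RgdSL (SL)
open scoped commutatorElement

variable {I W Y K : Type*} [Fintype I] [DecidableEq I] [Group W] [Group Y] [Field K] {M : CoxeterMatrix I}
variable {cs : CoxeterSystem M W} {A : I → I → ℤ} {h : IsCartan M A} {e : (I → ℤ) → K → Y}
  {T : Subgroup Y} {n : I → Y} {X : (I → ℤ) → Subgroup Y}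

/-- frame representative of a diagram symmetry of order at most two, without field part -/
structure TB (cs : CoxeterSystem M W) {A : I → I → ℤ} (h : IsCartan M A) (X : (I → ℤ) → Subgroup Y)
    (e : (I → ℤ) → K → Y) (β : MulAut Y) (σ : Equiv.Perm I) : Prop where
  mat : ∀ i j, M (σ i) (σ j) = M i j
  cart : ∀ i j, A (σ i) (σ j) = A i j
  inv : ∀ i, σ (σ i) = i
  root : ∀ d, IsRoot cs h d → ∀ y ∈ X d, β y ∈ X (d ∘ σ.symm)
  sq : ∀ y, β (β y) = y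
  fix : ∀ d, IsRoot cs h d → d ∘ σ.symm = d → ∀ y ∈ X d, β y = y
  lin : ∀ d, IsRoot cs h d → ∃ c : K, c ≠ 0 ∧ ∀ t, β (e d t) = e (d ∘ σ.symm) (c * t)

theorem TB.one : TB cs h X e (1 : MulAut Y) (1 : Equiv.Perm I) where
  mat _ _ := rfl
  cart _ _ := rfl
  inv _ := rfl
  root _ _ _ hy := hy
  sq _ := rfl
  fix _ _ _ _ _ := rfl
  lin _ _ := ⟨1, one_ne_zero, fun t => by rw [one_mul]; rfl⟩

section Basic

variable [Finite W] [Nonempty I] [Finite K] [CharP K 2] {R : RGD cs h 2 T n X} (S : Sys R e) (hs : SL cs h)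
  {β : MulAut Y} {σ : Equiv.Perm I} (B : TB cs h X e β σ)

theorem TB.twice (B : TB cs h X e β σ) (d : I → ℤ) : (d ∘ σ.symm) ∘ σ.symm = d := by
  funext i
  simp only [Function.comp_apply]
  congr 1
  rw [Equiv.symm_apply_eq, Equiv.symm_apply_eq, B.inv]

theorem TB.pos (B : TB cs h X e β σ) {d : I → ℤ} (hd : d ∈ RGD.Pos cs h) : d ∘ σ.symm ∈ RGD.Pos cs h :=
  pos_comp B.mat B.cart hd

theorem TB.map_UH (B : TB cs h X e β σ) {j : ℕ} {y : Y} (hy : y ∈ UH cs h X j) : β y ∈ UH cs h X j := by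
  have h1 : UH cs h X j ≤ (UH cs h X j).comap β.toMonoidHom := by
    refine RGD.Sup_le fun d hd y hy => ?_
    show β y ∈ UH cs h X j
    exact RGD.le_Sup (S := {r | r ∈ RGD.Pos cs h ∧ (j : ℤ) < ht r}) ⟨B.pos hd.1, by rw [ht_comp]; exact hd.2⟩
      (B.root d hd.1.1 y hy)
  exact h1 hy

/-- distinct positive roots of the same height have nonpositive pairing -/
theorem cpr_nonpos (hs : SL cs h) {r r' : I → ℤ} (hr : r ∈ RGD.Pos cs h) (hr' : r' ∈ RGD.Pos cs h) (hrr : r ≠ r')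
    (hht : ht r = ht r') : cpr cs h r r' = 0 ∨ cpr cs h r r' = -1 := by
  rcases hs.cases hr.1 hr'.1 with ⟨h1, -⟩ | ⟨h1, -⟩ | ⟨-, -, h2, h3⟩
  · exact absurd h1 hrr
  · exact absurd h1 (ne_neg hr hr')
  · by_cases h4 : cpr cs h r r' = 1
    · exfalso
      have h5 := RgdSL.isRoot_sub hr.1 hr'.1 h4
      have h6 : ht (r - r') = 0 := by
        have h7 := ht_add (r - r') r'
        rw [sub_add_cancel] at h7
        omega
      rcases h5.pos_or_neg with h8 | h8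
      · have := ht_pos (cs := cs) (h := h) (x := r - r') ⟨h5, h8⟩
        omega
      · have h9 := ht_pos (cs := cs) (h := h) (x := -(r - r')) ⟨h5.neg, neg_nonneg.2 h8⟩
        have h10 := ht_smul (-1) (r - r')
        rw [neg_one_smul] at h10
        omega
    · omega

include S

theorem conj_mem {j : ℕ} {g v : Y} (hg : g ∈ UH cs h X 0) (hv : v ∈ UH cs h X j) : g * v * g⁻¹ ∈ UH cs h X j :=
  UH_conj S hg hv

theorem conj_mem' {j : ℕ} {g v : Y} (hg : g ∈ UH cs h X 0) (hv : v ∈ UH cs h X j) : g⁻¹ * v * g ∈ UH cs h X j := by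
  have := UH_conj S (inv_mem hg) hv
  rwa [inv_inv] at this

theorem comm_mem {j : ℕ} {g v : Y} (hg : g ∈ UH cs h X 0) (hv : v ∈ UH cs h X j) :
    g * v * g⁻¹ * v⁻¹ ∈ UH cs h X (j + 1) := by
  have := UH_comm S hg hv
  rwa [commutatorElement_def] at this

/-- the sections have exponent two -/
theorem sq_UH {j : ℕ} {x : Y} (hx : x ∈ UH cs h X j) : x * x ∈ UH cs h X (j + 1) := by
  let L : Subgroup Y :=
    { carrier := {x | x ∈ UH cs h X j ∧ x * x ∈ UH cs h X (j + 1)}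
      one_mem' := ⟨one_mem _, by rw [mul_one]; exact one_mem _⟩
      mul_mem' := by
        rintro x y ⟨hx, hx'⟩ ⟨hy, hy'⟩
        refine ⟨mul_mem hx hy, ?_⟩
        have h1 : x * y * (x * y) = (x * x) * (x⁻¹ * y * x⁻¹⁻¹ * y⁻¹) * (y * y) := by group
        show x * y * (x * y) ∈ UH cs h X (j + 1)
        rw [h1]
        exact mul_mem (mul_mem hx' (comm_mem S (UH_le (Nat.zero_le j) (inv_mem hx)) hy)) hy'
      inv_mem' := by
        rintro x ⟨hx, hx'⟩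
        refine ⟨inv_mem hx, ?_⟩
        have h1 : x⁻¹ * x⁻¹ = (x * x)⁻¹ := by group
        show x⁻¹ * x⁻¹ ∈ UH cs h X (j + 1)
        rw [h1]
        exact inv_mem hx' }
  have h1 : UH cs h X j ≤ L := by
    refine RGD.Sup_le fun r hr v hv => ?_
    refine ⟨RGD.le_Sup (S := {r | r ∈ RGD.Pos cs h ∧ (j : ℤ) < ht r}) hr hv, ?_⟩
    obtain ⟨a, rfl⟩ := (S.mem_X r hr.1.1 v).1 hv
    rw [S.data.sq hr.1.1]
    exact one_mem _
  exact (h1 hx).2

/-- the intermediate term -/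
def Vt (S : Sys R e) (B : TB cs h X e β σ) (j : ℕ) : Subgroup Y where
  carrier := {u | u ∈ UH cs h X j ∧ β u * u⁻¹ ∈ UH cs h X (j + 1)}
  one_mem' := ⟨one_mem _, by rw [map_one, inv_one, mul_one]; exact one_mem _⟩
  mul_mem' := by
    rintro u v ⟨hu, hu'⟩ ⟨hv, hv'⟩
    refine ⟨mul_mem hu hv, ?_⟩
    have h1 : β (u * v) * (u * v)⁻¹ = (β u * (β v * v⁻¹) * (β u)⁻¹) * (β u * u⁻¹) := by
      rw [map_mul]; group
    show β (u * v) * (u * v)⁻¹ ∈ UH cs h X (j + 1)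
    rw [h1]
    exact mul_mem (conj_mem S (UH_le (Nat.zero_le j) (B.map_UH hu)) hv') hu'
  inv_mem' := by
    rintro u ⟨hu, hu'⟩
    refine ⟨inv_mem hu, ?_⟩
    have h1 : β u⁻¹ * u⁻¹⁻¹ = (β u)⁻¹ * (β u * u⁻¹)⁻¹ * β u := by rw [map_inv]; group
    show β u⁻¹ * u⁻¹⁻¹ ∈ UH cs h X (j + 1)
    rw [h1]
    exact conj_mem' S (UH_le (Nat.zero_le j) (B.map_UH hu)) (inv_mem hu')

theorem mem_Vt {j : ℕ} {u : Y} : u ∈ Vt S B j ↔ u ∈ UH cs h X j ∧ β u * u⁻¹ ∈ UH cs h X (j + 1) := Iff.rfl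

theorem Vt_le (j : ℕ) : Vt S B j ≤ UH cs h X j := fun _ hu => hu.1

theorem le_Vt (j : ℕ) : UH cs h X (j + 1) ≤ Vt S B j := fun _ hu =>
  ⟨UH_le (Nat.le_succ j) hu, mul_mem (B.map_UH hu) (inv_mem hu)⟩

/-- `φ = conj u` or `φ = conj u ∘ β` -/
def Two (cs : CoxeterSystem M W) (h : IsCartan M A) (X : (I → ℤ) → Subgroup Y) (β φ : MulAut Y) : Prop :=
  ∃ u ∈ RGD.Sup X (RGD.Pos cs h), (∀ y, φ y = u * y * u⁻¹) ∨ (∀ y, φ y = u * β y * u⁻¹)

include B

theorem fix_even {φ : MulAut Y} (hφ : Two cs h X β φ) {j : ℕ} {x : Y} (hx : x ∈ UH cs h X j) :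
    φ x * x⁻¹ ∈ Vt S B j := by
  obtain ⟨u, hu, h1 | h1⟩ := hφ
  · rw [← UH_zero] at hu
    rw [h1]
    exact le_Vt S B j (comm_mem S hu hx)
  · rw [← UH_zero] at hu
    have h2 : φ x * x⁻¹ = (u * β x * u⁻¹ * (β x)⁻¹) * (β x * x⁻¹) := by rw [h1]; group
    rw [h2]
    refine mul_mem (le_Vt S B j (comm_mem S hu (B.map_UH hx))) ⟨mul_mem (B.map_UH hx) (inv_mem hx), ?_⟩
    have h3 : β (β x * x⁻¹) * (β x * x⁻¹)⁻¹ = (x * (β x)⁻¹) * (x * (β x)⁻¹) := by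
      rw [map_mul, B.sq, map_inv]; group
    rw [h3]
    exact sq_UH S (mul_mem hx (inv_mem (B.map_UH hx)))

theorem fix_odd {φ : MulAut Y} (hφ : Two cs h X β φ) {j : ℕ} {x : Y} (hx : x ∈ Vt S B j) :
    φ x * x⁻¹ ∈ UH cs h X (j + 1) := by
  obtain ⟨u, hu, h1 | h1⟩ := hφ
  · rw [← UH_zero] at hu
    rw [h1]
    exact comm_mem S hu hx.1
  · rw [← UH_zero] at hu
    have h2 : φ x * x⁻¹ = (u * β x * u⁻¹ * (β x)⁻¹) * (β x * x⁻¹) := by rw [h1]; group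
    rw [h2]
    exact mul_mem (comm_mem S hu (B.map_UH hx.1)) hx.2

/-- `X r ∩ Vt j = 1` for `σ r ≠ r` -/
theorem X_inf_Vt {r : I → ℤ} (hr : r ∈ RGD.Pos cs h) (hrσ : r ∘ σ.symm ≠ r) {j : ℕ} (hj : ht r = j + 1) {x : Y}
    (hx : x ∈ X r) (hx' : x ∈ Vt S B j) : x = 1 := by
  have h1 := mul_mem_UH S (B.pos hr) hr hrσ (by rw [ht_comp, hj]) hj (B.root r hr.1 x hx) (inv_mem hx) hx'.2
  exact β.injective (by rw [h1, map_one])

/-! ### The diagonal lines -/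

omit S B in
/-- `X (r + σ r)`, or `1` -/
def ZX (cs : CoxeterSystem M W) (h : IsCartan M A) (X : (I → ℤ) → Subgroup Y) (σ : Equiv.Perm I) (r : I → ℤ) :
    Subgroup Y := RGD.Sup X {x | x = r + r ∘ σ.symm ∧ IsRoot cs h x}

omit S B in
theorem ZX_cases (r : I → ℤ) : (IsRoot cs h (r + r ∘ σ.symm) ∧ ZX cs h X σ r = X (r + r ∘ σ.symm)) ∨
    (¬ IsRoot cs h (r + r ∘ σ.symm) ∧ ZX cs h X σ r = ⊥) := by
  by_cases h1 : IsRoot cs h (r + r ∘ σ.symm)
  · refine Or.inl ⟨h1, le_antisymm (RGD.Sup_le ?_) (RGD.le_Sup ⟨rfl, h1⟩)⟩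
    rintro x ⟨rfl, -⟩
    exact le_rfl
  · refine Or.inr ⟨h1, ?_⟩
    rw [eq_bot_iff]
    refine RGD.Sup_le ?_
    rintro x ⟨rfl, h2⟩
    exact absurd h2 h1

omit B in
include hs in
/-- `X (r + r')` commutes with `X r` -/
theorem comm_add {r r' : I → ℤ} (hr : r ∈ RGD.Pos cs h) (hr' : r' ∈ RGD.Pos cs h) (hδ : IsRoot cs h (r + r')) {z x : Y}
    (hz : z ∈ X (r + r')) (hx : x ∈ X r) : z * x = x * z := by
  obtain ⟨c, rfl⟩ := (S.mem_X _ hδ z).1 hz
  obtain ⟨a, rfl⟩ := (S.mem_X _ hr.1 x).1 hx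
  refine comm_e S hs hδ hr.1 ?_ _ _
  have h1 : cpr cs h (r + r') r = 2 + cpr cs h r' r := by rw [cpr_add cs h _ _ hr.1, cpr_self cs h hr.1]
  rcases hs.cases hr'.1 hr.1 with ⟨-, h2⟩ | ⟨h2, -⟩ | ⟨-, -, h2, -⟩
  · omega
  · exact absurd h2 (ne_neg hr' hr)
  · omega

include hs in
theorem ZX_comm {r : I → ℤ} (hr : r ∈ RGD.Pos cs h) {z x : Y} (hz : z ∈ ZX cs h X σ r) (hx : x ∈ X r) :
    z * x = x * z := by
  rcases ZX_cases (cs := cs) (h := h) (X := X) (σ := σ) r with ⟨h1, h2⟩ | ⟨h1, h2⟩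
  · rw [h2] at hz
    exact comm_add S hs hr (B.pos hr) h1 hz hx
  · rw [h2, Subgroup.mem_bot] at hz
    rw [hz, one_mul, mul_one]

include hs in
theorem ZX_comm' {r : I → ℤ} (hr : r ∈ RGD.Pos cs h) {z x : Y} (hz : z ∈ ZX cs h X σ r) (hx : x ∈ X (r ∘ σ.symm)) :
    z * x = x * z := by
  rcases ZX_cases (cs := cs) (h := h) (X := X) (σ := σ) r with ⟨h1, h2⟩ | ⟨h1, h2⟩
  · rw [h2, add_comm] at hz
    rw [add_comm] at h1
    exact comm_add S hs (B.pos hr) hr h1 hz hx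
  · rw [h2, Subgroup.mem_bot] at hz
    rw [hz, one_mul, mul_one]

include hs in
theorem ZX_swap {r : I → ℤ} (hr : r ∈ RGD.Pos cs h) {x y : Y} (hx : x ∈ X r) (hy : y ∈ X (r ∘ σ.symm)) :
    ∃ z ∈ ZX cs h X σ r, y * x = x * y * z := by
  refine ⟨y⁻¹ * x⁻¹ * y * x, ?_, by group⟩
  have h3 : y⁻¹ * x⁻¹ * y * x = ⁅y⁻¹, x⁻¹⁆ := by rw [commutatorElement_def]; group
  rw [h3]
  rcases comm_cases S hs (B.pos hr) hr (inv_mem hy) (inv_mem hx) with h1 | ⟨h1, h2⟩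
  · rw [h1]; exact one_mem _
  · rw [add_comm] at h1 h2
    exact RGD.le_Sup (S := {x | x = r + r ∘ σ.symm ∧ IsRoot cs h x}) ⟨rfl, h1⟩ h2

/-- the diagonal line -/
def Dg (S : Sys R e) (hs : SL cs h) (B : TB cs h X e β σ) {r : I → ℤ} (hr : r ∈ RGD.Pos cs h) : Subgroup Y where
  carrier := {y | ∃ x ∈ X r, ∃ z ∈ ZX cs h X σ r, y = x * β x * z}
  one_mem' := ⟨1, one_mem _, 1, one_mem _, by rw [map_one, mul_one, mul_one]⟩
  mul_mem' := by
    rintro _ _ ⟨x, hx, z, hz, rfl⟩ ⟨x', hx', z', hz', rfl⟩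
    obtain ⟨w, hw, h1⟩ := ZX_swap S hs B hr hx' (B.root r hr.1 x hx)
    refine ⟨x * x', mul_mem hx hx', w * z * z', mul_mem (mul_mem hw hz) hz', ?_⟩
    have h2 := ZX_comm S hs B hr hz hx'
    have h3 := ZX_comm' S hs B hr hz (B.root r hr.1 x' hx')
    have h4 := ZX_comm' S hs B hr hw (B.root r hr.1 x' hx')
    calc x * β x * z * (x' * β x' * z') = x * β x * (z * x') * β x' * z' := by group
      _ = x * (β x * x') * (z * β x') * z' := by rw [h2]; group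
      _ = x * (x' * β x * w) * (β x' * z) * z' := by rw [h1, h3]
      _ = x * x' * β x * (w * β x') * z * z' := by group
      _ = _ := by rw [h4, map_mul]; group
  inv_mem' := by
    rintro _ ⟨x, hx, z, hz, rfl⟩
    obtain ⟨w, hw, h1⟩ := ZX_swap S hs B hr (inv_mem hx) (inv_mem (B.root r hr.1 x hx))
    refine ⟨x⁻¹, inv_mem hx, w * z⁻¹, mul_mem hw (inv_mem hz), ?_⟩
    have h2 := ZX_comm S hs B hr (inv_mem hz) (inv_mem hx)
    have h3 := ZX_comm' S hs B hr (inv_mem hz) (inv_mem (B.root r hr.1 x hx))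
    calc (x * β x * z)⁻¹ = z⁻¹ * (β x)⁻¹ * x⁻¹ := by group
      _ = (β x)⁻¹ * (z⁻¹ * x⁻¹) := by rw [h3]; group
      _ = (β x)⁻¹ * x⁻¹ * z⁻¹ := by rw [h2]; group
      _ = _ := by rw [h1, map_inv]; group

theorem mem_Dg {r : I → ℤ} (hr : r ∈ RGD.Pos cs h) {y : Y} :
    y ∈ Dg S hs B hr ↔ ∃ x ∈ X r, ∃ z ∈ ZX cs h X σ r, y = x * β x * z := Iff.rfl

omit B S in
theorem ZX_le {r : I → ℤ} (hr : r ∈ RGD.Pos cs h) (hr' : r ∘ σ.symm ∈ RGD.Pos cs h) {j : ℕ} (hj : ht r = j + 1) :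
    ZX cs h X σ r ≤ UH cs h X (j + 1) := by
  refine RGD.Sup_le ?_
  rintro x ⟨rfl, h2⟩
  refine RGD.le_Sup (S := {r | r ∈ RGD.Pos cs h ∧ ((j + 1 : ℕ) : ℤ) < ht r}) ⟨pos_add hr hr' h2, ?_⟩
  rw [ht_add, ht_comp]
  push_cast
  omega

theorem Dg_le {r : I → ℤ} (hr : r ∈ RGD.Pos cs h) {j : ℕ} (hj : ht r = j + 1) : Dg S hs B hr ≤ Vt S B j := by
  rintro _ ⟨x, hx, z, hz, rfl⟩
  have hxU : x ∈ UH cs h X j := RGD.le_Sup (S := {r | r ∈ RGD.Pos cs h ∧ (j : ℤ) < ht r}) ⟨hr, by omega⟩ hx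
  have hβU := B.map_UH hxU
  refine mul_mem ⟨mul_mem hxU hβU, ?_⟩ (le_Vt S B j (ZX_le hr (B.pos hr) hj hz))
  have h1 : β (x * β x) * (x * β x)⁻¹ = β x * x * (β x)⁻¹ * x⁻¹ := by rw [map_mul, B.sq]; group
  rw [h1]
  exact comm_mem S (UH_le (Nat.zero_le j) hβU) hxU

/-- elements of the diagonal line in `UH (j + 1)` -/
theorem Dg_one {r : I → ℤ} (hr : r ∈ RGD.Pos cs h) (hrσ : r ∘ σ.symm ≠ r) {j : ℕ} (hj : ht r = j + 1) {x y : Y}
    (hx : x ∈ X r) (hy : y ∈ X (r ∘ σ.symm)) (hxy : x * y ∈ UH cs h X (j + 1)) : x = 1 :=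
  mul_mem_UH S hr (B.pos hr) hrσ.symm hj (by rw [ht_comp, hj]) hx hy hxy

/-! ### Generation -/

theorem gen_even (j : ℕ) {u : Y} (hu : u ∈ UH cs h X j) : u ∈ Subgroup.closure
    ({x | ∃ r, r ∈ RGD.Pos cs h ∧ ht r = j + 1 ∧ r ∘ σ.symm ≠ r ∧ x ∈ X r} ∪ (Vt S B j : Set Y)) := by
  have h1 : UH cs h X j ≤ Subgroup.closure
      ({x | ∃ r, r ∈ RGD.Pos cs h ∧ ht r = j + 1 ∧ r ∘ σ.symm ≠ r ∧ x ∈ X r} ∪ (Vt S B j : Set Y)) := by
    refine RGD.Sup_le fun r hr x hx => Subgroup.subset_closure ?_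
    by_cases h1 : ht r = j + 1
    · by_cases h2 : r ∘ σ.symm = r
      · right
        refine ⟨RGD.le_Sup (S := {r | r ∈ RGD.Pos cs h ∧ (j : ℤ) < ht r}) hr hx, ?_⟩
        rw [B.fix r hr.1.1 h2 x hx, mul_inv_cancel]
        exact one_mem _
      · exact Or.inl ⟨r, hr.1, h1, h2, hx⟩
    · refine Or.inr (le_Vt S B j (RGD.le_Sup (S := {r | r ∈ RGD.Pos cs h ∧ ((j + 1 : ℕ) : ℤ) < ht r}) ⟨hr.1, ?_⟩ hx))
      have := hr.2
      push_cast
      omega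
  exact h1 hu

theorem gen_odd (j : ℕ) {u : Y} (hu : u ∈ Vt S B j) : u ∈ Subgroup.closure
    ({x | ∃ r, ∃ hr : r ∈ RGD.Pos cs h, ht r = j + 1 ∧ ((r ∘ σ.symm = r ∧ x ∈ X r) ∨
      (r ∘ σ.symm ≠ r ∧ x ∈ Dg S hs B hr))} ∪ (UH cs h X (j + 1) : Set Y)) := by
  obtain ⟨C, hC⟩ : ∃ C : Subgroup Y, C = Subgroup.closure
    ({x | ∃ r, ∃ hr : r ∈ RGD.Pos cs h, ht r = j + 1 ∧ ((r ∘ σ.symm = r ∧ x ∈ X r) ∨
      (r ∘ σ.symm ≠ r ∧ x ∈ Dg S hs B hr))} ∪ (UH cs h X (j + 1) : Set Y)) := ⟨_, rfl⟩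
  rw [← hC]
  have hCl : ∀ r, ∀ hr : r ∈ RGD.Pos cs h, ht r = j + 1 → ∀ x, ((r ∘ σ.symm = r ∧ x ∈ X r) ∨
      (r ∘ σ.symm ≠ r ∧ x ∈ Dg S hs B hr)) → x ∈ C := fun r hr hj x hx => by
    rw [hC]
    exact Subgroup.subset_closure (Or.inl ⟨r, hr, hj, hx⟩)
  have hCU : UH cs h X (j + 1) ≤ C := fun x hx => by
    rw [hC]
    exact Subgroup.subset_closure (Or.inr hx)
  have hCV : C ≤ Vt S B j := by
    rw [hC, Subgroup.closure_le]
    rintro x (⟨r, hr, hj, ⟨h1, h2⟩ | ⟨h1, h2⟩⟩ | hx)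
    · refine ⟨RGD.le_Sup (S := {r | r ∈ RGD.Pos cs h ∧ (j : ℤ) < ht r}) ⟨hr, by omega⟩ h2, ?_⟩
      rw [B.fix r hr.1 h1 x h2, mul_inv_cancel]
      exact one_mem _
    · exact Dg_le S hs B hr hj h2
    · exact le_Vt S B j hx
  -- a transversal
  obtain ⟨g, hg⟩ := exists_injective_nat (I → ℤ)
  let Q : Set (I → ℤ) := {r | (r ∈ RGD.Pos cs h ∧ ht r = j + 1 ∧ g r < g (r ∘ σ.symm)) ∨ r ∈ HS cs h (j + 1)}
  let Q' : Set (I → ℤ) := {r | (r ∈ RGD.Pos cs h ∧ ht r = j + 1 ∧ g (r ∘ σ.symm) < g r) ∨ r ∈ HS cs h (j + 1)}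
  have hHS : HS cs h (j + 1) ⊆ HS cs h j := fun r hr => ⟨hr.1, by
    have := hr.2
    push_cast at this
    omega⟩
  have iQ : Ideal cs h Q := ideal_btw (i := j) (fun r hr => Or.inr hr) (by
    rintro r (⟨h1, h2, -⟩ | h1)
    · exact ⟨h1, by omega⟩
    · exact hHS h1)
  have iQ' : Ideal cs h Q' := ideal_btw (i := j) (fun r hr => Or.inr hr) (by
    rintro r (⟨h1, h2, -⟩ | h1)
    · exact ⟨h1, by omega⟩
    · exact hHS h1)
  have hint : Q ∩ Q' = HS cs h (j + 1) := by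
    ext r
    constructor
    · rintro ⟨⟨-, -, h1⟩ | h1, ⟨-, -, h2⟩ | h2⟩
      · omega
      · exact h2
      · exact h1
      · exact h1
    · exact fun h1 => ⟨Or.inr h1, Or.inr h1⟩
  have hUQ : UH cs h X (j + 1) ≤ RGD.Sup X Q := RGD.Sup_mono fun r hr => Or.inr hr
  have hUQ' : UH cs h X (j + 1) ≤ RGD.Sup X Q' := RGD.Sup_mono fun r hr => Or.inr hr
  have hC0 : ∀ c ∈ C, c ∈ RGD.Sup X (RGD.Pos cs h) := fun c hc => by
    rw [← UH_zero]
    exact UH_le (Nat.zero_le j) (hCV hc).1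
  -- decomposition
  let L : Subgroup Y :=
    { carrier := {u | ∃ c ∈ C, ∃ v ∈ RGD.Sup X Q', u = c * v}
      one_mem' := ⟨1, one_mem _, 1, one_mem _, by rw [mul_one]⟩
      mul_mem' := by
        rintro _ _ ⟨c, hc, v, hv, rfl⟩ ⟨c', hc', v', hv', rfl⟩
        exact ⟨c * c', mul_mem hc hc', c'⁻¹ * v * c' * v', mul_mem (iQ'.conj' S hs (hC0 c' hc') hv) hv', by group⟩
      inv_mem' := by
        rintro _ ⟨c, hc, v, hv, rfl⟩
        exact ⟨c⁻¹, inv_mem hc, c * v⁻¹ * c⁻¹, iQ'.conj S hs (hC0 c hc) (inv_mem hv), by group⟩ }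
  have hL : UH cs h X j ≤ L := by
    refine RGD.Sup_le fun r hr x hx => ?_
    by_cases h1 : ht r = j + 1
    · by_cases h2 : r ∘ σ.symm = r
      · exact ⟨x, hCl r hr.1 h1 x (Or.inl ⟨h2, hx⟩), 1, one_mem _, by rw [mul_one]⟩
      · have h3 : g r ≠ g (r ∘ σ.symm) := fun h4 => h2 (hg h4).symm
        rcases lt_or_gt_of_ne h3 with h4 | h4
        · have hβ := B.root r hr.1.1 x hx
          refine ⟨x * β x, hCl r hr.1 h1 _ (Or.inr ⟨h2, x, hx, 1, one_mem _, by rw [mul_one]⟩), (β x)⁻¹,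
            inv_mem (RGD.le_Sup (S := Q') (Or.inl ⟨B.pos hr.1, by rw [ht_comp, h1], ?_⟩) hβ), by group⟩
          rw [B.twice]
          exact h4
        · exact ⟨1, one_mem _, x, RGD.le_Sup (S := Q') (Or.inl ⟨hr.1, h1, h4⟩) hx, by rw [one_mul]⟩
    · refine ⟨1, one_mem _, x, RGD.le_Sup (S := Q') (Or.inr ⟨hr.1, ?_⟩) hx, by rw [one_mul]⟩
      have := hr.2
      push_cast
      omega
  obtain ⟨c, hc, v, hv, rfl⟩ := hL hu.1
  have hvV : v ∈ Vt S B j := by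
    have h1 := mul_mem (inv_mem (hCV hc)) hu
    rwa [inv_mul_cancel_left] at h1
  have hβv : β v ∈ RGD.Sup X Q := by
    have h1 : RGD.Sup X Q' ≤ (RGD.Sup X Q).comap β.toMonoidHom := by
      refine RGD.Sup_le fun r hr y hy => ?_
      show β y ∈ RGD.Sup X Q
      rcases hr with ⟨h1, h2, h3⟩ | h1
      · refine RGD.le_Sup (S := Q) (Or.inl ⟨B.pos h1, by rw [ht_comp, h2], ?_⟩) (B.root r h1.1 y hy)
        rw [B.twice]
        exact h3
      · exact hUQ (B.map_UH (RGD.le_Sup (S := HS cs h (j + 1)) h1 hy))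
    exact h1 hv
  have hvQ : v ∈ RGD.Sup X Q := by
    have h1 := mul_mem (inv_mem (hUQ hvV.2)) hβv
    have h2 : (β v * v⁻¹)⁻¹ * β v = v := by group
    rwa [h2] at h1
  have h3 := Ideal.inf hs R iQ iQ' hvQ hv
  rw [hint] at h3
  exact mul_mem hc (hCU h3)

end Basic

/-! ### In an overgroup -/

section Over

variable {G : Type*} [Group G] [Finite G] {K₀ S : Subgroup G} [Finite W] [Finite K] [Nonempty I] [CharP K 2]
  {R : RGD cs h 2 T n X} {S' : Sys R e} (H : Hyp cs h T X) {l : MulAut Y →* Equiv.Perm I × (K ≃+* K)}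
  (L : IsOut S' l) {f : Y →* G}

include H L

/-- elements without field part and diagram part act as elements of `U` -/
theorem inner_U [Finite Y] {φ : MulAut Y} (hφ : Fix φ (RGD.Sup X (RGD.Pos cs h))) (hl : l φ = 1) {k : ℕ}
    (hk : φ ^ 2 ^ k = 1) : ∃ u ∈ RGD.Sup X (RGD.Pos cs h), φ = MulAut.conj u := by
  have : Fact (Nat.Prime 2) := ⟨Nat.prime_two⟩
  obtain ⟨u, hu, B, hp⟩ := exists_frameU H L hφ
  rw [hl] at B
  have h1 := Tau.eq_one R H.gen (coords S' H.gen) B (hp _ hk)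
  refine ⟨u⁻¹, inv_mem hu, ?_⟩
  rw [map_inv]
  exact (inv_eq_of_mul_eq_one_right h1).symm

/-- **The frame representative of the diagram part of `S ∩ cz K₀ S`.** -/
theorem exists_TB (D : Std cs h X K₀ S f) (hM : DTwo M) : ∃ (β : MulAut Y) (σ : Equiv.Perm I), TB cs h X e β σ ∧
    ∀ x ∈ S, x ∈ cz K₀ S → ∀ φ, Acts f x φ → Two cs h X β φ := by
  classical
  have : Fact (Nat.Prime 2) := ⟨Nat.prime_two⟩
  have hY : Finite Y := Finite.of_injective f D.inj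
  by_cases htriv : ∀ x ∈ S, x ∈ cz K₀ S → ∀ φ, Acts f x φ → (l φ).1 = 1
  · refine ⟨1, 1, TB.one, fun x hx hxz φ hφ => ?_⟩
    obtain ⟨k, hk⟩ := D.exists_pow hx hφ
    obtain ⟨u, hu, h1⟩ := inner_U H L (D.fix hx hφ)
      (Prod.ext (htriv x hx hxz φ hφ) (D.field_of_cz H L hxz hφ)) hk
    exact ⟨u, hu, Or.inl fun y => by rw [h1, MulAut.conj_apply]⟩
  push Not at htriv
  obtain ⟨x₀, hx₀, hxz₀, φ₀, hφ₀, hσ₀⟩ := htriv
  have hτ₀ := D.field_of_cz H L hxz₀ hφ₀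
  obtain ⟨k₀, hk₀⟩ := D.exists_pow hx₀ hφ₀
  obtain ⟨u₀, hu₀, B₀, hp₀⟩ := exists_frameU H L (D.fix hx₀ hφ₀)
  have hmat := matrix_of H L φ₀
  have hcart := H.cart _ hmat
  -- the symmetries of `S ∩ cz`
  let P : Subgroup (Equiv.Perm I) :=
    { carrier := {σ | ∃ x ∈ S, x ∈ cz K₀ S ∧ ∃ φ, Acts f x φ ∧ (l φ).1 = σ}
      one_mem' := ⟨1, one_mem _, one_mem _, 1, Acts.one, by rw [map_one]; rfl⟩
      mul_mem' := by
        rintro _ _ ⟨x, hx, hxz, φ, hφ, rfl⟩ ⟨x', hx', hxz', φ', hφ', rfl⟩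
        exact ⟨x * x', mul_mem hx hx', mul_mem hxz hxz', _, hφ.mul hφ', by rw [map_mul]; rfl⟩
      inv_mem' := by
        rintro _ ⟨x, hx, hxz, φ, hφ, rfl⟩
        exact ⟨x⁻¹, inv_mem hx, inv_mem hxz, _, hφ.inv, by rw [map_inv]; rfl⟩ }
  have hP : IsPGroup 2 ↥P := by
    rintro ⟨_, x, hx, hxz, φ, hφ, rfl⟩
    obtain ⟨k, hk⟩ := D.exists_pow hx hφ
    refine ⟨k, Subtype.ext ?_⟩
    show ((l φ).1) ^ 2 ^ k = 1
    rw [← Prod.pow_fst, ← map_pow, hk, map_one]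
    rfl
  have hPM : ∀ σ ∈ P, ∀ i j, M (σ i) (σ j) = M i j := by
    rintro _ ⟨x, hx, hxz, φ, hφ, rfl⟩
    exact matrix_of H L φ
  have hσP : (l φ₀).1 ∈ P := ⟨x₀, hx₀, hxz₀, φ₀, hφ₀, rfl⟩
  have hσσ : (l φ₀).1 * (l φ₀).1 = 1 := by
    by_contra hne
    have h1 := hM P hP hPM _ (mul_mem hσP hσP) _ hσP hne hσ₀
    exact hσ₀ (mul_left_cancel (h1.trans (mul_one _).symm))
  have hββ : (MulAut.conj u₀ * φ₀) * (MulAut.conj u₀ * φ₀) = 1 := by
    have h1 := B₀.mul B₀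
    rw [hσσ, hτ₀, mul_one] at h1
    obtain ⟨k, hk⟩ : ∃ k : ℕ, ((MulAut.conj u₀ * φ₀) * (MulAut.conj u₀ * φ₀)) ^ 2 ^ k = 1 := by
      refine ⟨k₀, ?_⟩
      rw [← pow_two, ← pow_mul, mul_comm, pow_mul, hp₀ _ hk₀, one_pow]
    exact Tau.eq_one R H.gen (coords S' H.gen) h1 hk
  refine ⟨MulAut.conj u₀ * φ₀, (l φ₀).1, ⟨hmat, hcart, fun i => ?_, fun d hd y hy => ?_, fun y => ?_,
    fun d hd hdσ y hy => ?_, fun d hd => ?_⟩, fun x hx hxz φ hφ => ?_⟩
  · exact congrFun (congrArg DFunLike.coe hσσ) i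
  · obtain ⟨t, rfl⟩ := (S'.mem_X d hd y).1 hy
    obtain ⟨c, hc0, hβ⟩ := Tau.root R (coords S' H.gen) B₀ hd
    rw [hβ t]
    exact S'.mem (isRoot_comp hmat hcart hd) _
  · exact congrFun (congrArg DFunLike.coe hββ) y
  · obtain ⟨t, rfl⟩ := (S'.mem_X d hd y).1 hy
    obtain ⟨a₀, ha₀, h1⟩ := Tau.pure R (coords S' H.gen) B₀ (hp₀ _ hk₀) hd hdσ
    have h2 := h1 (a₀⁻¹ * t)
    rw [hτ₀, RingAut.one_apply, mul_inv_cancel_left₀ ha₀] at h2
    exact h2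
  · obtain ⟨c, hc0, hβ⟩ := Tau.root R (coords S' H.gen) B₀ hd
    refine ⟨c, hc0, fun t => ?_⟩
    rw [hβ t, hτ₀, RingAut.one_apply]
  · have hτ := D.field_of_cz H L hxz hφ
    by_cases h1 : (l φ).1 = 1
    · obtain ⟨k, hk⟩ := D.exists_pow hx hφ
      obtain ⟨u, hu, h2⟩ := inner_U H L (D.fix hx hφ) (Prod.ext h1 hτ) hk
      exact ⟨u, hu, Or.inl fun y => by rw [h2, MulAut.conj_apply]⟩
    · have h2 : (l φ).1 = (l φ₀).1 := hM P hP hPM _ ⟨x, hx, hxz, φ, hφ, rfl⟩ _ hσP h1 hσ₀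
      have h3 := hφ.mul hφ₀.inv
      obtain ⟨k, hk⟩ := D.exists_pow (mul_mem hx (inv_mem hx₀)) h3
      have h4 : l (φ * φ₀⁻¹) = 1 := by
        rw [map_mul, map_inv]
        exact Prod.ext (by rw [Prod.fst_mul, Prod.fst_inv, h2, mul_inv_cancel]; rfl)
          (by rw [Prod.snd_mul, Prod.snd_inv, hτ, hτ₀, mul_inv_cancel]; rfl)
      obtain ⟨u, hu, h5⟩ := inner_U H L (D.fix (mul_mem hx (inv_mem hx₀)) h3) h4 hk
      refine ⟨u * u₀⁻¹, mul_mem hu (inv_mem hu₀), Or.inr fun y => ?_⟩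
      have h6 : φ = MulAut.conj u * φ₀ := by rw [← h5, inv_mul_cancel_right]
      rw [h6, MulAut.mul_apply, MulAut.mul_apply, MulAut.conj_apply, MulAut.conj_apply]
      group

/-! ### The lines -/

theorem comm_of_fix (D : Std cs h X K₀ S f) {y : G} {φ : MulAut Y} (hφ : Acts f y φ) {x : Y} (hx : φ x = x) :
    f x * y = y * f x := by
  have h1 := hφ x
  rw [hx] at h1
  calc f x * y = (y * f x * y⁻¹) * y := by rw [← h1]
    _ = y * f x := by group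

theorem fix_of_comm (D : Std cs h X K₀ S f) {y : G} {φ : MulAut Y} (hφ : Acts f y φ) {x : Y}
    (hx : f x * y = y * f x) : φ x = x := by
  apply D.inj
  rw [hφ, ← hx, mul_inv_cancel_right]

theorem exists_two (hq : 3 ≤ Nat.card K) : ∃ b : K, b ≠ 0 ∧ b ≠ 1 := by
  by_contra hcon
  push Not at hcon
  classical
  have := Fintype.ofFinite K
  have h4 : (Finset.univ : Finset K) ⊆ {0, 1} := by
    intro b _
    by_cases hb : b = 0
    · simp [hb]
    · simp [hcon b hb]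
  have h5 := Finset.card_le_card h4
  have h6 : ({0, 1} : Finset K).card ≤ 2 := Finset.card_le_two
  rw [Finset.card_univ, ← Nat.card_eq_fintype_card] at h5
  omega

/-- **The lines `X r`, `σ r ≠ r`.** -/
theorem line_even (hq : 3 ≤ Nat.card K) (D : Std cs h X K₀ S f) {β : MulAut Y} {σ : Equiv.Perm I}
    (B : TB cs h X e β σ) {r : I → ℤ} (hr : r ∈ RGD.Pos cs h) (hrσ : r ∘ σ.symm ≠ r) {j : ℕ} (hj : ht r = j + 1) :
    IsLineF K₀ S ((Vt S' B j).map f) ((X r).map f) where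
  sq := by
    rintro _ ⟨x, hx, rfl⟩
    obtain ⟨a, rfl⟩ := (S'.mem_X r hr.1 x).1 hx
    rw [← map_mul, S'.data.sq hr.1, map_one]
    exact one_mem _
  pair := by
    have hne : ∀ a : K, a ≠ 0 → f (e r a) ∉ (Vt S' B j).map f := by
      rintro a ha ⟨y, hy, he⟩
      have h2 := D.inj he
      subst h2
      exact S'.data.ne_one hr.1 ha (X_inf_Vt S' B hr hrσ hj (S'.mem hr.1 a) hy)
    obtain ⟨b, hb0, hb1⟩ := exists_two H L hq
    refine ⟨_, ⟨_, S'.mem hr.1 1, rfl⟩, _, ⟨_, S'.mem hr.1 b, rfl⟩, hne 1 one_ne_zero, hne b hb0, ?_⟩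
    rw [← map_inv, ← map_mul, S'.data.inv hr.1, ← S'.data.add r hr.1]
    refine hne _ fun h4 => hb1 ?_
    have h5 := S'.data.two b
    exact (add_right_cancel (h4.trans h5.symm)).symm
  star := by
    have hY : Finite Y := Finite.of_injective f D.inj
    rintro y hy hyz - _ ⟨x, hx, rfl⟩ hxD hc _ ⟨v, hv, rfl⟩
    obtain ⟨φ, hφ⟩ := D.exists_acts (D.le hy)
    obtain ⟨a, rfl⟩ := (S'.mem_X r hr.1 x).1 hx
    refine star_plus H L D hy hφ (D.field_of_cz H L hyz hφ) hr (a := a) ?_ hc hv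
    rintro rfl
    apply hxD
    rw [S'.data.zero hr.1, map_one]
    exact one_mem _

/-- **The diagonal lines.** -/
theorem line_Dg (hs : SL cs h) (hq : 3 ≤ Nat.card K) (D : Std cs h X K₀ S f) {β : MulAut Y} {σ : Equiv.Perm I}
    (B : TB cs h X e β σ) (hall : ∀ x ∈ S, x ∈ cz K₀ S → ∀ φ, Acts f x φ → Two cs h X β φ) {r : I → ℤ}
    (hr : r ∈ RGD.Pos cs h) (hrσ : r ∘ σ.symm ≠ r) {j : ℕ} (hj : ht r = j + 1) :
    IsLineF K₀ S ((UH cs h X (j + 1)).map f) ((Dg S' hs B hr).map f) where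
  sq := by
    rintro _ ⟨x, hx, rfl⟩
    rw [← map_mul]
    exact ⟨_, sq_UH S' (Dg_le S' hs B hr hj hx).1, rfl⟩
  pair := by
    have hmem : ∀ x ∈ X r, x * β x ∈ Dg S' hs B hr := fun x hx => ⟨x, hx, 1, one_mem _, by rw [mul_one]⟩
    have hne : ∀ a : K, a ≠ 0 → f (e r a * β (e r a)) ∉ (UH cs h X (j + 1)).map f := by
      rintro a ha ⟨y, hy, he⟩
      have h2 := D.inj he
      rw [h2] at hy
      exact S'.data.ne_one hr.1 ha (Dg_one S' B hr hrσ hj (S'.mem hr.1 a) (B.root r hr.1 _ (S'.mem hr.1 a)) hy)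
    obtain ⟨b, hb0, hb1⟩ := exists_two H L hq
    refine ⟨_, ⟨_, hmem _ (S'.mem hr.1 1), rfl⟩, _, ⟨_, hmem _ (S'.mem hr.1 b), rfl⟩, hne 1 one_ne_zero, hne b hb0, ?_⟩
    rw [← map_inv, ← map_mul]
    rintro ⟨y, hy, he⟩
    have h2 := D.inj he
    rw [h2] at hy
    have hβ1 := B.root r hr.1 _ (S'.mem hr.1 1)
    have hβ0 : β (e r 1) ∈ UH cs h X 0 := by
      rw [UH_zero]
      exact RGD.le_Sup (B.pos hr) hβ1
    have h3 := conj_mem S' hβ0 hy
    have h4 : β (e r 1) * ((e r 1 * β (e r 1))⁻¹ * (e r b * β (e r b))) * (β (e r 1))⁻¹ =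
        ((e r 1)⁻¹ * e r b) * (β (e r b) * (β (e r 1))⁻¹) := by group
    rw [h4] at h3
    have h5 := Dg_one S' B hr hrσ hj (mul_mem (inv_mem (S'.mem hr.1 1)) (S'.mem hr.1 b))
      (mul_mem (B.root r hr.1 _ (S'.mem hr.1 b)) (inv_mem hβ1)) h3
    apply hb1
    exact (S'.data.injective hr.1 (inv_mul_eq_one.1 h5)).symm
  star := by
    have hY : Finite Y := Finite.of_injective f D.inj
    rintro y hy hyz hyy _ ⟨_, ⟨p, hp, z, hz, rfl⟩, rfl⟩ hxD hc _ ⟨_, ⟨p', hp', z', hz', rfl⟩, rfl⟩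
    obtain ⟨φ, hφ⟩ := D.exists_acts (D.le hy)
    have hfx := fix_of_comm H L D hφ hc
    refine comm_of_fix H L D hφ ?_
    obtain ⟨r', hr'd⟩ : ∃ r', r' = r ∘ σ.symm := ⟨_, rfl⟩
    have hr' : r' ∈ RGD.Pos cs h := by rw [hr'd]; exact B.pos hr
    have hht : ht r = ht r' := by rw [hr'd, ht_comp]
    have hrr : r ≠ r' := by rw [hr'd]; exact hrσ.symm
    obtain ⟨a, rfl⟩ := (S'.mem_X r hr.1 p).1 hp
    obtain ⟨a', rfl⟩ := (S'.mem_X r hr.1 p').1 hp'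
    have ha : a ≠ 0 := by
      rintro rfl
      apply hxD
      rw [S'.data.zero hr.1, map_one, one_mul, one_mul]
      exact ⟨z, ZX_le hr (B.pos hr) hj hz, rfl⟩
    obtain ⟨c, hc0, hlin⟩ := B.lin r hr.1
    rw [← hr'd] at hlin
    have hca : c * a ≠ 0 := mul_ne_zero hc0 ha
    obtain ⟨t, hta⟩ : ∃ t, a' = t * a := ⟨a' * a⁻¹, by rw [inv_mul_cancel_right₀ ha]⟩
    have hca' : c * a' = t * (c * a) := by rw [hta]; ring
    rw [hlin] at hfx
    rw [hlin, hca', hta]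
    rcases cpr_nonpos hs hr hr' hrr hht with hc1 | hc1
    · -- orthogonal roots
      have hnr : ¬ IsRoot cs h (r + r') := by
        intro h1
        have h2 : cpr cs h (r + r') r = 2 := by
          rw [cpr_add cs h _ _ hr.1, cpr_self cs h hr.1, hs r' r hr'.1 hr.1, hc1, add_zero]
        have h3 := hs.eq_of_cpr h1 hr.1 h2.ge
        have h4 : ht (r + r') = ht r + ht r' := ht_add r r'
        rw [h3] at h4
        have h5 := ht_pos hr'
        omega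
      have hZ : ZX cs h X σ r = ⊥ := by
        rcases ZX_cases (cs := cs) (h := h) (X := X) (σ := σ) r with ⟨h1, -⟩ | ⟨-, h2⟩
        · rw [← hr'd] at h1
          exact absurd h1 hnr
        · exact h2
      rw [hZ, Subgroup.mem_bot] at hz hz'
      subst hz hz'
      rw [mul_one] at hfx ⊢
      have hβ : ∀ s, β (e r (s * a) * e r' (s * (c * a))) = e r (s * a) * e r' (s * (c * a)) := by
        intro s
        have h1 : s * (c * a) = c * (s * a) := by ring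
        rw [h1, ← hlin, map_mul, B.sq, hlin]
        exact comm_e S' hs hr'.1 hr.1 (by rw [hs r' r hr'.1 hr.1, hc1]) _ _
      obtain ⟨u, hu, h1 | h1⟩ := hall y hy hyz φ hφ
      · rw [h1] at hfx ⊢
        have h2 := star_orth S' hs hr hr' hht hc1 ha hca hu (mul_inv_eq_iff_eq_mul.1 hfx) t
        exact mul_inv_eq_iff_eq_mul.2 h2
      · have h3 := hβ 1
        rw [one_mul, one_mul] at h3
        rw [h1, h3] at hfx
        have h2 := star_orth S' hs hr hr' hht hc1 ha hca hu (mul_inv_eq_iff_eq_mul.1 hfx) t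
        rw [h1, hβ]
        exact mul_inv_eq_iff_eq_mul.2 h2
    · -- the middle root
      have hδ : IsRoot cs h (r + r') := RgdSL.isRoot_add hr.1 hr'.1 hc1
      have hZ : ZX cs h X σ r = X (r + r') := by
        rcases ZX_cases (cs := cs) (h := h) (X := X) (σ := σ) r with ⟨-, h2⟩ | ⟨h1, -⟩
        · rw [h2, hr'd]
        · rw [← hr'd] at h1
          exact absurd hδ h1
      rw [hZ] at hz hz'
      obtain ⟨u, hu, h1 | h1⟩ := hall y hy hyz φ hφ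
      · rw [h1] at hfx ⊢
        obtain ⟨h2, h3⟩ := star_mid S' hs H.gen hr hr' hht hc1 ha hca hu hz (mul_inv_eq_iff_eq_mul.1 hfx)
        apply mul_inv_eq_iff_eq_mul.2
        rw [← mul_assoc, (h3 t).1, mul_assoc _ u, h2 z' hz', ← mul_assoc]
      · exfalso
        have e1 : r ∘ σ.symm = r' := hr'd.symm
        have e2 : r' ∘ σ.symm = r := by rw [hr'd, B.twice]
        have hδσ : (r + r') ∘ σ.symm = r + r' := by
          have h2 : (r + r') ∘ σ.symm = r ∘ σ.symm + r' ∘ σ.symm := rfl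
          rw [h2, e1, e2, add_comm]
        have h4 : ∀ v, u⁻¹ * φ v * u⁻¹⁻¹ = β v := fun v => by rw [h1]; group
        refine ha (pol_core S' hs (inv_mem hu) (φ := φ) (σ := σ) (fun d hd => B.pos hd) (fun d hd v hv => ?_) hr hr' e1 e2
          hc1 (fun v hv => ?_) (disj hs H.conn B.cart hr.1 hr'.1 hr.2 hr'.2 e1 e2 hc1) hz hfx ?_).1
        · rw [h4]
          exact B.root d hd.1 v hv
        · rw [h4]
          exact B.fix _ hδ hδσ v hv
        · apply D.inj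
          rw [hφ, hφ]
          calc y * (y * f (e r a) * y⁻¹) * y⁻¹ = (y * y) * f (e r a) * (y * y)⁻¹ := by group
            _ = _ := by rw [hyy, one_mul, inv_one, mul_one]

end Over

/-! ### The filtration -/

section Flt

/-- the refined filtration -/
def UF [Finite W] [Nonempty I] [Finite K] [CharP K 2] {R : RGD cs h 2 T n X} (S : Sys R e) {β : MulAut Y}
    {σ : Equiv.Perm I} (B : TB cs h X e β σ) (m : ℕ) : Subgroup Y :=
  if m % 2 = 0 then UH cs h X (m / 2) else Vt S B (m / 2)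

/-- the lines -/
def LF {G : Type*} [Group G] [Finite W] [Nonempty I] [Finite K] [CharP K 2] {R : RGD cs h 2 T n X} (S : Sys R e)
    (hs : SL cs h) {β : MulAut Y} {σ : Equiv.Perm I} (B : TB cs h X e β σ) (f : Y →* G) (m : ℕ) : Set (Subgroup G) :=
  {l | ∃ r, ∃ hr : r ∈ RGD.Pos cs h, ht r = ((m / 2 : ℕ) : ℤ) + 1 ∧
    ((m % 2 = 0 ∧ r ∘ σ.symm ≠ r ∧ l = (X r).map f) ∨ (m % 2 = 1 ∧ r ∘ σ.symm = r ∧ l = (X r).map f) ∨
      (m % 2 = 1 ∧ r ∘ σ.symm ≠ r ∧ l = (Dg S hs B hr).map f))}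

theorem gen_helper {G : Type*} [Group G] {f : Y →* G} {A B : Subgroup Y} {s : Set Y} {t : Set G}
    (h1 : ∀ u ∈ A, u ∈ Subgroup.closure (s ∪ (B : Set Y))) (h2 : ∀ x ∈ s, f x ∈ t) {u : G} (hu : u ∈ A.map f) :
    u ∈ Subgroup.closure (t ∪ ((B.map f : Subgroup G) : Set G)) := by
  obtain ⟨u, hu, rfl⟩ := hu
  have h3 : Subgroup.closure (s ∪ (B : Set Y)) ≤
      (Subgroup.closure (t ∪ ((B.map f : Subgroup G) : Set G))).comap f := by
    rw [Subgroup.closure_le]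
    rintro x (hx | hx)
    · exact Subgroup.subset_closure (Or.inl (h2 x hx))
    · exact Subgroup.subset_closure (Or.inr ⟨x, hx, rfl⟩)
  exact h3 (h1 u hu)

variable {G : Type*} [Group G] [Finite G] {K₀ S : Subgroup G} [Finite W] [Finite K] [Nonempty I] [CharP K 2]
  {R : RGD cs h 2 T n X} {S' : Sys R e} (H : Hyp cs h T X) {l : MulAut Y →* Equiv.Perm I × (K ≃+* K)}
  (L : IsOut S' l) {f : Y →* G}

theorem UF_even {β : MulAut Y} {σ : Equiv.Perm I} (B : TB cs h X e β σ) (j : ℕ) : UF S' B (2 * j) = UH cs h X j := by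
  unfold UF
  rw [if_pos (by omega)]
  congr 1
  omega

theorem UF_odd {β : MulAut Y} {σ : Equiv.Perm I} (B : TB cs h X e β σ) (j : ℕ) : UF S' B (2 * j + 1) = Vt S' B j := by
  unfold UF
  rw [if_neg (by omega)]
  congr 1
  omega

include H L

theorem fltS_of (hs : SL cs h) (hq : 3 ≤ Nat.card K) (D : Std cs h X K₀ S f) {β : MulAut Y} {σ : Equiv.Perm I}
    (B : TB cs h X e β σ) (hall : ∀ x ∈ S, x ∈ cz K₀ S → ∀ φ, Acts f x φ → Two cs h X β φ) :
    FltS K₀ S (fun m => (UF S' B m).map f) (LF S' hs B f) where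
  zero := by
    show (UF S' B (2 * 0)).map f = _
    rw [UF_even, UH_zero, D.inf]
  bot := by
    obtain ⟨m, hm⟩ := UH_bot (cs := cs) (h := h) (X := X)
    refine ⟨2 * m, ?_⟩
    show (UF S' B (2 * m)).map f = ⊥
    rw [UF_even, hm, Subgroup.map_bot]
  le m := by
    show (UF S' B (m + 1)).map f ≤ (UF S' B m).map f
    obtain ⟨j, rfl | rfl⟩ : ∃ j, m = 2 * j ∨ m = 2 * j + 1 := ⟨m / 2, by omega⟩
    · rw [UF_even, UF_odd]
      exact Subgroup.map_mono (Vt_le S' B j)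
    · have h1 : 2 * j + 1 + 1 = 2 * (j + 1) := by ring
      rw [h1, UF_even, UF_odd]
      exact Subgroup.map_mono (le_Vt S' B j)
  gen m u hu := by
    change u ∈ (UF S' B m).map f at hu
    show u ∈ Subgroup.closure (_ ∪ (((UF S' B (m + 1)).map f : Subgroup G) : Set G))
    obtain ⟨j, rfl | rfl⟩ : ∃ j, m = 2 * j ∨ m = 2 * j + 1 := ⟨m / 2, by omega⟩
    · rw [UF_even] at hu
      rw [UF_odd]
      refine gen_helper (fun u hu => gen_even S' B j hu) ?_ hu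
      rintro x ⟨r, hr, hrj, hrσ, hx⟩
      exact ⟨_, ⟨r, hr, by rw [hrj]; congr 2; omega, Or.inl ⟨by omega, hrσ, rfl⟩⟩, ⟨x, hx, rfl⟩⟩
    · have h1 : 2 * j + 1 + 1 = 2 * (j + 1) := by ring
      rw [UF_odd] at hu
      rw [h1, UF_even]
      refine gen_helper (fun u hu => gen_odd S' hs B j hu) ?_ hu
      rintro x ⟨r, hr, hrj, ⟨hrσ, hx⟩ | ⟨hrσ, hx⟩⟩
      · exact ⟨_, ⟨r, hr, by rw [hrj]; congr 2; omega, Or.inr (Or.inl ⟨by omega, hrσ, rfl⟩)⟩, ⟨x, hx, rfl⟩⟩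
      · exact ⟨_, ⟨r, hr, by rw [hrj]; congr 2; omega, Or.inr (Or.inr ⟨by omega, hrσ, rfl⟩)⟩, ⟨x, hx, rfl⟩⟩
  line_le m := by
    show ∀ l ∈ LF S' hs B f m, l ≤ (UF S' B m).map f
    obtain ⟨j, rfl | rfl⟩ : ∃ j, m = 2 * j ∨ m = 2 * j + 1 := ⟨m / 2, by omega⟩
    · rintro _ ⟨r, hr, hrj, ⟨h1, h2, rfl⟩ | ⟨h1, h2, rfl⟩ | ⟨h1, h2, rfl⟩⟩
      · rw [UF_even]
        exact Subgroup.map_mono (RGD.le_Sup (S := {r | r ∈ RGD.Pos cs h ∧ (j : ℤ) < ht r}) ⟨hr, by omega⟩)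
      · omega
      · omega
    · have hrj' : ∀ {r : I → ℤ}, ht r = (((2 * j + 1) / 2 : ℕ) : ℤ) + 1 → ht r = (j : ℤ) + 1 := fun h1 => by omega
      rintro _ ⟨r, hr, hrj, ⟨h1, h2, rfl⟩ | ⟨h1, h2, rfl⟩ | ⟨h1, h2, rfl⟩⟩
      · omega
      · rw [UF_odd]
        refine Subgroup.map_mono fun x hx => ⟨RGD.le_Sup (S := {r | r ∈ RGD.Pos cs h ∧ (j : ℤ) < ht r})
          ⟨hr, by omega⟩ hx, ?_⟩
        rw [B.fix r hr.1 h2 x hx, mul_inv_cancel]
        exact one_mem _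
      · rw [UF_odd]
        exact Subgroup.map_mono (Dg_le S' hs B hr (hrj' hrj))
  line m := by
    have hY : Finite Y := Finite.of_injective f D.inj
    show ∀ l ∈ LF S' hs B f m, IsLineF K₀ S ((UF S' B (m + 1)).map f) l
    obtain ⟨j, rfl | rfl⟩ : ∃ j, m = 2 * j ∨ m = 2 * j + 1 := ⟨m / 2, by omega⟩
    · rintro _ ⟨r, hr, hrj, ⟨h1, h2, rfl⟩ | ⟨h1, h2, rfl⟩ | ⟨h1, h2, rfl⟩⟩
      · rw [UF_odd]
        exact line_even H L hq D B hr h2 (by omega)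
      · omega
      · omega
    · have h0 : 2 * j + 1 + 1 = 2 * (j + 1) := by ring
      rintro _ ⟨r, hr, hrj, ⟨h1, h2, rfl⟩ | ⟨h1, h2, rfl⟩ | ⟨h1, h2, rfl⟩⟩
      · omega
      · rw [h0, UF_even]
        exact line_root H L hq D hr (by omega)
      · rw [h0, UF_even]
        exact line_Dg H L hs hq D B hall hr h2 (by omega)
  fix m l hl x hx y hy hyz := by
    have hY : Finite Y := Finite.of_injective f D.inj
    change l ∈ LF S' hs B f m at hl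
    show y * x * y⁻¹ * x⁻¹ ∈ (UF S' B (m + 1)).map f
    obtain ⟨φ, hφ⟩ := D.exists_acts (D.le hy)
    have htwo := hall y hy hyz φ hφ
    -- reduction to `Y`
    have key : ∀ {V : Subgroup Y} {x : Y}, φ x * x⁻¹ ∈ V → y * f x * y⁻¹ * (f x)⁻¹ ∈ V.map f := fun {V x} h1 =>
      ⟨_, h1, by rw [map_mul, map_inv, hφ]⟩
    obtain ⟨j, rfl | rfl⟩ : ∃ j, m = 2 * j ∨ m = 2 * j + 1 := ⟨m / 2, by omega⟩
    · rw [UF_odd]
      rcases hl with ⟨r, hr, hrj, ⟨h1, h2, rfl⟩ | ⟨h1, h2, rfl⟩ | ⟨h1, h2, rfl⟩⟩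
      · obtain ⟨x, hx, rfl⟩ := hx
        exact key (fix_even S' B htwo (RGD.le_Sup (S := {r | r ∈ RGD.Pos cs h ∧ (j : ℤ) < ht r}) ⟨hr, by omega⟩ hx))
      · omega
      · omega
    · have h0 : 2 * j + 1 + 1 = 2 * (j + 1) := by ring
      have hrj' : ∀ {r : I → ℤ}, ht r = (((2 * j + 1) / 2 : ℕ) : ℤ) + 1 → ht r = (j : ℤ) + 1 := fun h1 => by omega
      rw [h0, UF_even]
      rcases hl with ⟨r, hr, hrj, ⟨h1, h2, rfl⟩ | ⟨h1, h2, rfl⟩ | ⟨h1, h2, rfl⟩⟩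
      · omega
      · obtain ⟨x, hx, rfl⟩ := hx
        refine key (fix_odd S' B htwo ⟨RGD.le_Sup (S := {r | r ∈ RGD.Pos cs h ∧ (j : ℤ) < ht r}) ⟨hr, by omega⟩ hx, ?_⟩)
        rw [B.fix r hr.1 h2 x hx, mul_inv_cancel]
        exact one_mem _
      · obtain ⟨x, hx, rfl⟩ := hx
        exact key (fix_odd S' B htwo (Dg_le S' hs B hr (hrj' hrj) hx))

end Flt

section Final

variable {G : Type*} [Group G] [Finite G] {K₀ S : Subgroup G} [Finite W] [Finite K] [Nonempty I] [CharP K 2]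
  {R : RGD cs h 2 T n X}

/-- **(k3)** in the simply laced case. -/
theorem exists_fltS (H : Hyp cs h T X) (S' : Sys R e) (hs : SL cs h) (hM : DTwo M) (hq : 3 ≤ Nat.card K) {f : Y →* G}
    (hf : Function.Injective f) (hK : f.range = K₀) (hS : Good K₀ S) : ∃ U L, FltS K₀ S U L := by
  have hY : Finite Y := Finite.of_injective f hf
  obtain ⟨f', D, -⟩ := exists_std' H S' hf hK hS
  obtain ⟨l, L⟩ := exists_isOut S' H
  obtain ⟨β, σ, B, hall⟩ := exists_TB H L D hM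
  exact ⟨_, _, fltS_of H L hs hq D B hall⟩

end Final

end Cfsg.Agent.KFacts.SysFltG

end
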