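import Mathlib
import Cfsg.Agent.KFacts.RgdGraph
import Cfsg.Agent.KFacts.RgdOver
import Cfsg.Agent.KFacts.SysLine
import Cfsg.Agent.OddHalf.D4.LineR
import Cfsg.Agent.OddHalf.D4.NoGraph
import Cfsg.Agent.KFacts.RgdAutFacts

-- merged: Cfsg.Agent.KFacts.RgdOne
section

/-!
# The outer action of a `p`-group inducing no diagram symmetry

`f : Y →* G` injective, `Y` with `Sys R e`, `S` a `p`-subgroup normalising `f Y` and `f U`, `f U ≤ S`, no frame automorphism
induced by `S` with a nontrivial diagram symmetry (no condition on the Cartan matrix: `F₄`, `B_n` included).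

* `exists_gen_one` : `S = f(U) C_S(K) ⟨g⟩`, `g e'_r(a) g⁻¹ = e'_r(τ a)` for all roots `r`.
-/

set_option autoImplicit false
set_option linter.unusedSectionVars false

namespace Cfsg.Agent.KFacts.RgdOne

open CoxeterSystem Cfsg.Agent.ChevalleyStructure.CoxeterGeom Cfsg.Agent.Tits.Roots Cfsg.Agent.Tits.Core
  Cfsg.Agent.Tits.Exchange Cfsg.Agent.Nodes.Reps Cfsg.Agent.Nodes.BNOf Cfsg.Agent.Nodes.StabComb
  Cfsg.Agent.Nodes.Bruhat Cfsg.Agent.Nodes.OppDec Cfsg.Agent.Nodes.LeviDec Cfsg.Agent.Nodes.NormalForm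
  Cfsg.Agent.Nodes.Coroot Cfsg.Agent.Nodes.PosPair
  Cfsg.Agent.KFacts.RgdOpp Cfsg.Agent.KFacts.RgdAut Cfsg.Agent.KFacts.RgdDiag Cfsg.Agent.KFacts.RgdRigid
  Cfsg.Agent.KFacts.RgdCent Cfsg.Agent.KFacts.RgdField Cfsg.Agent.KFacts.RgdTau
  Cfsg.Agent.KFacts.RgdSys Cfsg.Agent.KFacts.RgdPure Cfsg.Agent.KFacts.RgdOver Cfsg.Agent.KFacts.RgdGraph
  Cfsg.Agent.KFacts.ChevTwo

variable {I W Y K G : Type*} [Fintype I] [DecidableEq I] [Group W] [Group Y] [Group G] [Field K] {M : CoxeterMatrix I}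
variable {cs : CoxeterSystem M W} {A : I → I → ℤ} {h : IsCartan M A} {e : (I → ℤ) → K → Y}
  {p : ℕ} {T : Subgroup Y} {n : I → Y} {X : (I → ℤ) → Subgroup Y}

/-- **The outer action of a `p`-group inducing no diagram symmetry.** -/
theorem exists_gen_one [Finite W] [Nonempty I] [Finite K] [CharP K p] [Fact p.Prime] [Finite G]
    {R : RGD cs h p T n X} (S' : Sys R e) (hG1 : RGD.Sup X {x | IsRoot cs h x} = ⊤) (hN : NoCent cs h T X)
    (hconn : ∀ J : Set I, J.Nonempty → J ≠ Set.univ → ∃ a ∈ J, ∃ b, b ∉ J ∧ M a b ≠ 2)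
    (f : Y →* G) (hf : Function.Injective f) {S : Subgroup G} (hSp : IsPGroup p ↥S)
    (hSK : S ≤ Subgroup.normalizer (f.range : Set G))
    (hSU : S ≤ Subgroup.normalizer (((RGD.Sup X (RGD.Pos cs h)).map f : Subgroup G) : Set G))
    (hUS : (RGD.Sup X (RGD.Pos cs h)).map f ≤ S)
    (hone : ∀ β ∈ Frame cs h X, (∃ g ∈ S, ∀ y, f (β y) = g * f y * g⁻¹) → ∀ σ, Diag T X β σ → σ = 1) :
    ∃ g ∈ S, ∃ (τ : K ≃+* K) (e' : (I → ℤ) → K → Y) (n' : I → Y) (R' : RGD cs h p T n' X), Sys R' e' ∧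
      (∀ r, IsRoot cs h r → ∀ a, g * f (e' r a) * g⁻¹ = f (e' r (τ a))) ∧
      ∀ s ∈ S, ∃ m : ℤ, ∃ u ∈ RGD.Sup X (RGD.Pos cs h), ∃ c ∈ S, (∀ y, c * f y = f y * c) ∧
        s = f u * c * g ^ m := by
  have hG := GG_eq_top (T := T) hG1
  have C := coords S' hG1
  have H := coroots S' hG1 hN
  have hY : Finite Y := Finite.of_injective f hf
  obtain ⟨ρ, hρdef⟩ : ∃ ρ : ↥S →* MulAut Y, ρ = (act f hf).comp (Subgroup.inclusion hSK) := ⟨_, rfl⟩
  have hρ : ∀ (g : ↥S) y, f (ρ g y) = g * f y * (g : G)⁻¹ := by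
    intro g y
    rw [hρdef]
    exact f_act f hf _ y
  obtain ⟨q, hqF, hqu, hq1⟩ := exists_proj R hG1 f ρ hρ (fun g => by
    rw [hρdef]
    exact fix_act f hf (hSU g.2)) hUS (fun u hu => by
    rw [hρdef]
    exact act_f f hf u)
  have hP : ∀ s : ↥S, ∃ k : ℕ, q s ^ p ^ k = 1 := by
    intro s
    obtain ⟨k, hk⟩ := hSp s
    exact ⟨k, by rw [← map_pow, hk, map_one]⟩
  have hτ : ∀ s : ↥S, ∃ τ : K ≃+* K, Tau T X (chS e) A (q s) 1 τ := by
    intro s
    obtain ⟨σ, D⟩ := exists_diag R hG (hqF s).1 (hqF s).2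
    obtain ⟨u, hu, huS, e1, e2⟩ := hqu s
    have h1 : σ = 1 := hone (q s) (hqF s) ⟨f u * s, mul_mem huS s.2, fun y => by rw [← e2, hρ]; rfl⟩ σ D
    subst h1
    exact exists_tau R C H hconn D fun _ _ => rfl
  choose τ hτ using hτ
  have huniq : ∀ (s : ↥S) (τ' : K ≃+* K), Tau T X (chS e) A (q s) 1 τ' → τ s = τ' := fun s τ' h3 =>
    (Tau.unique R C (hτ s) h3).2
  let φ : ↥S →* (K ≃+* K) := MonoidHom.mk' τ fun α β => huniq _ _ (by
    have := (hτ α).mul (hτ β)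
    rw [mul_one] at this
    rwa [map_mul])
  have hφ : ∀ s, φ s = 1 → q s = 1 := by
    intro s hs
    have h3 := hτ s
    have h4 : τ s = 1 := hs
    rw [h4] at h3
    obtain ⟨k, hk⟩ := hP s
    exact Tau.eq_one R hG1 C h3 hk
  have hcyc : IsCyclic (K ≃+* K) := LieRecognition.FieldSemilinear.isCyclic_ringAut K
  have hcyc' : IsCyclic ↥φ.range := Subgroup.isCyclic _
  obtain ⟨⟨_, s0, rfl⟩, hs0⟩ := hcyc'.exists_generator
  obtain ⟨u0, hu0, hu0S, e1, e2⟩ := hqu s0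
  obtain ⟨k, hk⟩ := hP s0
  obtain ⟨e', n', R', S'', h1, -⟩ := exists_sys S' hG1 (hτ s0) hk
  refine ⟨f u0 * s0, mul_mem hu0S s0.2, τ s0, e', n', R', S'', fun r hr a => ?_, fun s hs => ?_⟩
  · have h2 := h1 r hr a
    have h3 := hρ (⟨f u0, hu0S⟩ * s0) (e' r a)
    rw [e2, h2] at h3
    exact h3.symm
  · obtain ⟨m, hm⟩ := hs0 ⟨φ ⟨s, hs⟩, ⟨⟨s, hs⟩, rfl⟩⟩
    have hm' : φ s0 ^ m = φ ⟨s, hs⟩ := congrArg Subtype.val hm
    obtain ⟨u, hu, c, hc, hcf, e3⟩ := hq1 (⟨s, hs⟩ * ((⟨f u0, hu0S⟩ * s0) ^ m)⁻¹) (by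
      apply hφ
      have h4 : φ (⟨f u0, hu0S⟩ * s0) = φ s0 := by
        refine huniq _ _ ?_
        rw [e1]
        exact hτ s0
      rw [map_mul, map_inv, map_zpow, h4, hm', mul_inv_cancel])
    have e4 : s * ((f u0 * (s0 : G)) ^ m)⁻¹ = f u * c := e3
    exact ⟨m, u, hu, c, hc, hcf, by rw [← e4, inv_mul_cancel_right]⟩

end Cfsg.Agent.KFacts.RgdOne

end

-- merged: Cfsg.Agent.KFacts.SysFlt
section

/-!
# Filtration by lines with base points (ODD, D4, (1B))

`Y` with `Sys R e`, `f : Y →* G` injective, `K = f Y`, `S` a 2-group normalising `K`, `S ∩ K = f U`, `F ≤ S` inducing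
no diagram symmetry.

* `X_inf_UH` : `X r ∩ UH j = 1` for `ht r ≤ j`; `filtR`, `lineFactsR`;
* `flt` : `Flt K S F (f UH) L`;
* `hZ` : an element of `F` centralising `Z(S ∩ K)` lies in `C(K) K`;
* `half` : for `|F_q| ≥ 8`: an element of `F` centralising one of `a, b, ab` for all `a, b ∈ f X_r` centralises `f X_r`.
-/

set_option autoImplicit false
set_option linter.unusedSectionVars false

namespace Cfsg.Agent.KFacts.SysFlt

open CoxeterSystem Cfsg.Agent.ChevalleyStructure.CoxeterGeom Cfsg.Agent.Tits.Roots Cfsg.Agent.Tits.Core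
  Cfsg.Agent.Tits.Exchange Cfsg.Agent.Nodes.Reps Cfsg.Agent.Nodes.BNOf Cfsg.Agent.Nodes.StabComb
  Cfsg.Agent.Nodes.Bruhat Cfsg.Agent.Nodes.OppDec Cfsg.Agent.Nodes.LeviDec Cfsg.Agent.Nodes.NormalForm
  Cfsg.Agent.Nodes.Coroot Cfsg.Agent.Nodes.PosPair
  Cfsg.Agent.KFacts.RgdOpp Cfsg.Agent.KFacts.RgdAut Cfsg.Agent.KFacts.RgdDiag Cfsg.Agent.KFacts.RgdRigid
  Cfsg.Agent.KFacts.RgdCent Cfsg.Agent.KFacts.RgdSys Cfsg.Agent.KFacts.RgdOne Cfsg.Agent.KFacts.ChevTwo
  Cfsg.Agent.OddHalf.D4.Line Cfsg.Agent.OddHalf.D4.LineR Cfsg.Agent.KFacts.SysLine Cfsg.Agent.OddHalf.D4.NoGraph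
open scoped commutatorElement

variable {I W Y K : Type*} [Fintype I] [DecidableEq I] [Group W] [Group Y] [Field K] {M : CoxeterMatrix I}
variable {cs : CoxeterSystem M W} {A : I → I → ℤ} {h : IsCartan M A} {e : (I → ℤ) → K → Y}
  {p : ℕ} {T : Subgroup Y} {n : I → Y} {X : (I → ℤ) → Subgroup Y}

/-! ### Independence -/

section

variable [Finite W] {R : RGD cs h p T n X} (S : Sys R e)

include S

/-- Roots between two roots. -/
theorem btwn_le {x y z : I → ℤ} (hx : IsRoot cs h x) (hy : IsRoot cs h y) (hz : Btwn cs h x y z) :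
    ∃ m a b : ℤ, 0 < m ∧ 0 < a ∧ 0 < b ∧ m ≤ a + b ∧ m • z = a • x + b • y := by
  obtain ⟨hz, m, a, b, hm, ha, hb, he⟩ := hz
  refine ⟨m, a, b, hm, ha, hb, ?_, he⟩
  have hle : ∀ {w : I → ℤ}, IsRoot cs h w → cpr cs h w z ≤ 2 := by
    intro w hw
    by_cases h1 : w = z
    · rw [h1, cpr_self cs h hz]
    by_cases h2 : w = -z
    · rw [h2, cpr_neg cs h _ hz, cpr_self cs h hz]
      norm_num
    · exact (S.data.lace w z hw hz h1 h2).1
  have h1 : m * 2 = a * cpr cs h x z + b * cpr cs h y z := by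
    rw [← cpr_self cs h hz, ← cpr_smul cs h m z hz, he, cpr_add cs h _ _ hz, cpr_smul cs h a x hz, cpr_smul cs h b y hz]
  have h2 := mul_le_mul_of_nonneg_left (hle hx) ha.le
  have h3 := mul_le_mul_of_nonneg_left (hle hy) hb.le
  omega

theorem closed_UH (j : ℕ) : Nodes.Unique.Closed cs h {r | r ∈ RGD.Pos cs h ∧ (j : ℤ) < ht r} := by
  rintro x ⟨hx, hxj⟩ y ⟨hy, hyj⟩ z hz
  have hzr := hz.1
  obtain ⟨m, a, b, hm, ha, hb, hle, he⟩ := btwn_le S hx.1 hy.1 hz
  have h0 : 0 ≤ z := by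
    intro i
    have h1 := congrFun he i
    simp only [Pi.add_apply, Pi.smul_apply, smul_eq_mul] at h1
    have h2 := mul_nonneg ha.le (hx.2 i)
    have h3 := mul_nonneg hb.le (hy.2 i)
    show 0 ≤ z i
    by_contra h4
    push Not at h4
    have := mul_neg_of_pos_of_neg hm h4
    linarith
  refine ⟨⟨hzr, h0⟩, ?_⟩
  have h1 : m * ht z = a * ht x + b * ht y := by
    rw [← ht_smul, he, ht_add, ht_smul, ht_smul]
  have hx' : (j : ℤ) + 1 ≤ ht x := hxj
  have hy' : (j : ℤ) + 1 ≤ ht y := hyj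
  have h2 := mul_le_mul_of_nonneg_left hx' ha.le
  have h3 := mul_le_mul_of_nonneg_left hy' hb.le
  have h4 : (m : ℤ) * (j + 1) ≤ (a + b) * (j + 1) := mul_le_mul_of_nonneg_right hle (by positivity)
  have h5 : m * (j + 1) ≤ m * ht z := by
    rw [h1]
    calc m * (j + 1) ≤ (a + b) * (j + 1) := h4
      _ = a * (j + 1) + b * (j + 1) := by ring
      _ ≤ _ := add_le_add h2 h3
  have h6 := le_of_mul_le_mul_left h5 hm
  omega

/-- **Independence.** -/
theorem X_inf_UH {r : I → ℤ} (hr : r ∈ RGD.Pos cs h) {j : ℕ} (hj : ht r ≤ j) {z : Y} (hz : z ∈ X r)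
    (hz' : z ∈ UH cs h X j) : z = 1 := by
  have h1 : Nodes.Unique.Closed cs h ({r} : Set (I → ℤ)) := by
    rintro _ rfl _ rfl z hz
    exact Nodes.Unique.btwn_self hr.1 hz
  have h2 := Nodes.Unique.inf_eq R (S := {r}) (Set.singleton_subset_iff.2 hr) (fun _ hx => hx.1) h1 (closed_UH S j)
  have h3 : z ∈ RGD.Sup X {r} ⊓ RGD.Sup X {r | r ∈ RGD.Pos cs h ∧ (j : ℤ) < ht r} :=
    ⟨RGD.le_Sup (Set.mem_singleton r) hz, hz'⟩
  have h4 : ({r} : Set (I → ℤ)) ∩ {r | r ∈ RGD.Pos cs h ∧ (j : ℤ) < ht r} = ∅ := by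
    ext x
    simp only [Set.mem_inter_iff, Set.mem_singleton_iff, Set.mem_ofPred_eq, Set.mem_empty_iff_false, iff_false]
    rintro ⟨rfl, -, h5⟩
    omega
  rw [h2, h4, Sup_empty] at h3
  exact Subgroup.mem_bot.1 h3

/-- A positive root of maximal height. -/
theorem exists_top [Nonempty I] : ∃ r ∈ RGD.Pos cs h, ∃ j : ℕ, ht r = j + 1 ∧ UH cs h X (j + 1) = ⊥ := by
  obtain ⟨i⟩ := ‹Nonempty I›
  have hfin : (RGD.Pos cs h).Finite := (RGD.finite_roots (cs := cs) (h := h)).subset fun x hx => hx.1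
  obtain ⟨r, hr, hmax⟩ := Set.exists_max_image (RGD.Pos cs h) ht hfin ⟨sr i, isRoot_sr cs h i, sr_nonneg i⟩
  have h1 := ht_pos hr
  refine ⟨r, hr, (ht r - 1).toNat, by omega, ?_⟩
  rw [eq_bot_iff]
  refine RGD.Sup_le fun x hx => ?_
  exfalso
  have h2 := hmax x hx.1
  have h3 := hx.2
  omega

theorem UH_gen (j : ℕ) : UH cs h X j ≤
    Subgroup.closure ({x | ∃ r, r ∈ RGD.Pos cs h ∧ ht r = j + 1 ∧ x ∈ X r} ∪ (UH cs h X (j + 1) : Set Y)) := by
  refine RGD.Sup_le fun r hr x hx => Subgroup.subset_closure ?_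
  by_cases h1 : ht r = j + 1
  · exact Or.inl ⟨r, hr.1, h1, hx⟩
  · refine Or.inr (RGD.le_Sup (S := {r | r ∈ RGD.Pos cs h ∧ ((j + 1 : ℕ) : ℤ) < ht r}) ⟨hr.1, ?_⟩ hx)
    have := hr.2
    push_cast
    omega

theorem isLineR [Finite Y] [Finite K] (hG1 : RGD.Sup X {x | IsRoot cs h x} = ⊤) (hK : 3 ≤ Nat.card K) {r : I → ℤ}
    (hr : r ∈ RGD.Pos cs h) {j : ℕ} (hj : ht r = j + 1) (S' : Subgroup Y) :
    IsLineR S' (UH cs h X (j + 1)) (X r) :=
  IsLineR.of_isLine (isLine S hG1 hK hr.1 S') fun _ hx hx' => X_inf_UH S hr (by rw [hj]; push_cast; exact le_rfl) hx hx'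

/-- **The relative central series of `U`.** -/
theorem filtR [Finite Y] [Finite K] (hG1 : RGD.Sup X {x | IsRoot cs h x} = ⊤) (hK : 3 ≤ Nat.card K) :
    FiltR (RGD.Sup X (RGD.Pos cs h)) (UH cs h X) where
  zero := UH_zero
  bot := UH_bot
  le j := UH_le (Nat.le_succ j)
  comm j u hu s hs := by
    rw [← UH_zero] at hs
    have := UH_comm S hs hu
    rwa [commutatorElement_def] at this
  gen j u hu := by
    refine Subgroup.closure_mono ?_ (UH_gen S j hu)
    rintro x (⟨r, hr, hrj, hx⟩ | hx)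
    · exact Or.inl ⟨X r, RGD.le_Sup (S := {r | r ∈ RGD.Pos cs h ∧ (j : ℤ) < ht r}) ⟨hr, by omega⟩,
        isLineR S hG1 hK hr hrj _, hx⟩
    · exact Or.inr hx

end

/-! ### In an overgroup -/

section Over

variable {G : Type*} [Group G] [Finite G] [Finite W] [Nonempty I] [Finite K] [CharP K 2]
  {R : RGD cs h 2 T n X} (S' : Sys R e) (hG1 : RGD.Sup X {x | IsRoot cs h x} = ⊤) (hN : NoCent cs h T X)
  (hconn : ∀ J : Set I, J.Nonempty → J ≠ Set.univ → ∃ a ∈ J, ∃ b, b ∉ J ∧ M a b ≠ 2)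
  (f : Y →* G) (hf : Function.Injective f) {S F : Subgroup G} (hSp : IsPGroup 2 ↥S)
  (hSM : S ≤ Subgroup.normalizer (f.range : Set G)) (hSU : S ⊓ f.range = (RGD.Sup X (RGD.Pos cs h)).map f)
  (hFS : F ≤ S)
  (hone : ∀ β ∈ Frame cs h X, (∃ g ∈ F ⊔ (RGD.Sup X (RGD.Pos cs h)).map f, ∀ y, f (β y) = g * f y * g⁻¹) →
    ∀ σ, Diag T X β σ → σ = 1)

include S' hG1 hN hconn hf hSp hSM hSU hFS hone

/-- The action of the elements of `F` in adapted coordinates. -/
theorem exists_adapted : ∃ (e' : (I → ℤ) → K → Y) (n' : I → Y) (R' : RGD cs h 2 T n' X), Sys R' e' ∧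
    ∀ s ∈ F, ∃ (τ : K ≃+* K) (u : Y) (g : G), u ∈ RGD.Sup X (RGD.Pos cs h) ∧ s = f u * g ∧
      (∀ r, IsRoot cs h r → ∀ a, g * f (e' r a) * g⁻¹ = f (e' r (τ a))) ∧ ∃ k : ℕ, τ ^ 2 ^ k = 1 := by
  have : Fact (Nat.Prime 2) := ⟨Nat.prime_two⟩
  set UU := (RGD.Sup X (RGD.Pos cs h)).map f with hUU
  have hUS : UU ≤ S := by rw [← hSU]; exact inf_le_left
  have hF1 : F ⊔ UU ≤ S := sup_le hFS hUS
  have hp1 : IsPGroup 2 ↥(F ⊔ UU) := hSp.to_le hF1
  have hn1 : F ⊔ UU ≤ Subgroup.normalizer (UU : Set G) := by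
    intro g hg
    rw [Subgroup.mem_normalizer_iff]
    intro y
    have hgS := hF1 hg
    rw [← hSU, Subgroup.mem_inf, Subgroup.mem_inf, ← Subgroup.mem_normalizer_iff.1 (hSM hgS) y]
    constructor
    · rintro ⟨h1, h2⟩
      exact ⟨mul_mem (mul_mem hgS h1) (inv_mem hgS), h2⟩
    · rintro ⟨h1, h2⟩
      refine ⟨?_, h2⟩
      have := mul_mem (mul_mem (inv_mem hgS) h1) hgS
      have h3 : g⁻¹ * (g * y * g⁻¹) * g = y := by group
      rwa [h3] at this
  obtain ⟨g, hg, τ, e', n', R', S'', h1, h2⟩ := exists_gen_one S' hG1 hN hconn f hf hp1 (hF1.trans hSM) hn1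
    le_sup_right hone
  -- powers of `g`
  have hpow : ∀ (m : ℕ) r, IsRoot cs h r → ∀ a, g ^ m * f (e' r a) * (g ^ m)⁻¹ = f (e' r ((τ ^ m) a)) := by
    intro m
    induction m with
    | zero => intro r _ a; rw [pow_zero, pow_zero, one_mul, inv_one, mul_one]; rfl
    | succ m ih =>
      intro r hr a
      rw [pow_succ' g, pow_succ' τ, RingAut.mul_apply, ← h1 r hr, ← ih r hr]
      group
  obtain ⟨k, hk⟩ := hp1 ⟨g, hg⟩
  have hk' : g ^ 2 ^ k = 1 := congrArg Subtype.val hk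
  have hτk : τ ^ 2 ^ k = 1 := by
    obtain ⟨i⟩ := ‹Nonempty I›
    ext a
    have h3 := hpow (2 ^ k) (sr i) (isRoot_sr cs h i) a
    rw [hk', one_mul, inv_one, mul_one] at h3
    exact (S''.data.injective (isRoot_sr cs h i) (hf h3)).symm
  refine ⟨e', n', R', S'', fun s hs => ?_⟩
  obtain ⟨m, u, hu, c, hc, hcf, e⟩ := h2 s (Subgroup.mem_sup_left hs)
  obtain ⟨m', hm'⟩ : ∃ m' : ℕ, g ^ m = g ^ m' := by
    have h3 : g ^ m ∈ Subgroup.zpowers g := ⟨m, rfl⟩
    obtain ⟨m', hm'⟩ := (mem_powers_iff_mem_zpowers.2 h3)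
    exact ⟨m', hm'.symm⟩
  refine ⟨τ ^ m', u, c * g ^ m', hu, by rw [e, hm', mul_assoc], fun r hr a => ?_, k, ?_⟩
  · rw [← hpow m' r hr]
    have h3 := hcf (e' r ((τ ^ m') a))
    rw [← hpow m' r hr] at h3
    calc c * g ^ m' * f (e' r a) * (c * g ^ m')⁻¹ = (c * (g ^ m' * f (e' r a) * (g ^ m')⁻¹)) * c⁻¹ := by group
      _ = _ := by rw [h3, mul_inv_cancel_right]
  · rw [← pow_mul, mul_comm, pow_mul, hτk, one_pow]

end Over

/-! ### Elements in adapted coordinates -/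

section Elt

variable {G : Type*} [Group G] [Finite W] {R : RGD cs h p T n X} (S : Sys R e)
  {f : Y →* G} (hf : Function.Injective f) {s g : G} {u : Y} {τ : K ≃+* K}
  (hu : u ∈ RGD.Sup X (RGD.Pos cs h)) (hs : s = f u * g)
  (hg : ∀ r, IsRoot cs h r → ∀ a, g * f (e r a) * g⁻¹ = f (e r (τ a)))

include hs hg

theorem conj_eq {r : I → ℤ} (hr : IsRoot cs h r) (a : K) : s * f (e r a) * s⁻¹ = f (u * e r (τ a) * u⁻¹) := by
  rw [hs, map_mul, map_mul, map_inv, ← hg r hr]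
  group

include S hf hu

/-- `s` acts on the layers by `τ`. -/
theorem tau_of_comm {r : I → ℤ} (hr : r ∈ RGD.Pos cs h) {a : K} (hc : s * f (e r a) = f (e r a) * s) :
    τ a = a ∧ u * e r a = e r a * u := by
  have h1 := conj_eq hs hg hr.1 a
  rw [hc, mul_inv_cancel_right] at h1
  have h2 : e r a = u * e r (τ a) * u⁻¹ := hf h1
  obtain ⟨j, hj⟩ : ∃ j : ℕ, ht r = j + 1 := ⟨(ht r - 1).toNat, by have := ht_pos hr; omega⟩
  have h3 : e r (τ a) ∈ UH cs h X j :=
    RGD.le_Sup (S := {r | r ∈ RGD.Pos cs h ∧ (j : ℤ) < ht r}) ⟨hr, by omega⟩ (S.mem hr.1 _)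
  have h4 := UH_comm S (by rw [UH_zero]; exact hu) h3
  have h5 : ⁅u, e r (τ a)⁆ = e r (a + τ a) := by
    rw [commutatorElement_def, ← h2, S.data.add r hr.1, S.data.inv hr.1]
  rw [h5] at h4
  have h6 := X_inf_UH S hr (by rw [hj]; push_cast; exact le_rfl) (S.mem hr.1 _) h4
  have h7 := S.data.inj r hr.1 _ h6
  have h8 : τ a = a := by
    have h9 := S.data.two a
    have h10 : a + τ a = a + a := by rw [h7, h9]
    exact add_left_cancel h10
  rw [h8] at h2
  refine ⟨h8, ?_⟩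
  calc u * e r a = u * e r a * u⁻¹ * u := by group
    _ = _ := by rw [← h2]

theorem base_comm {r : I → ℤ} (hr : r ∈ RGD.Pos cs h) {j : ℕ} (hj : ht r = j + 1) :
    s * f (e r 1) * s⁻¹ * (f (e r 1))⁻¹ ∈ (UH cs h X (j + 1)).map f := by
  rw [conj_eq hs hg hr.1, map_one, ← map_inv, ← map_mul, ← commutatorElement_def]
  exact ⟨_, UH_comm S (by rw [UH_zero]; exact hu)
    (RGD.le_Sup (S := {r | r ∈ RGD.Pos cs h ∧ (j : ℤ) < ht r}) ⟨hr, by omega⟩ (S.mem hr.1 _)), rfl⟩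

/-- an element acting trivially on a central root group acts as an inner automorphism -/
theorem tau_eq_one {r : I → ℤ} (hr : r ∈ RGD.Pos cs h) (hc : ∀ x ∈ X r, s * f x = f x * s) : τ = 1 := by
  ext a
  exact (tau_of_comm S hf hu hs hg hr (hc _ (S.mem hr.1 a))).1

omit hu in
theorem inner_of_tau (hG1 : RGD.Sup X {x | IsRoot cs h x} = ⊤) (hτ : τ = 1) :
    g ∈ Subgroup.centralizer (f.range : Set G) := by
  rw [Subgroup.mem_centralizer_iff]
  have h1 : (⊤ : Subgroup Y) ≤ (Subgroup.centralizer ({g} : Set G)).comap f := by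
    rw [← hG1]
    refine RGD.Sup_le fun r hr x hx => ?_
    obtain ⟨a, rfl⟩ := (S.mem_X r hr x).1 hx
    show f (e r a) ∈ Subgroup.centralizer ({g} : Set G)
    rw [Subgroup.mem_centralizer_singleton_iff]
    have h2 := hg r hr a
    rw [hτ, RingAut.one_apply] at h2
    calc f (e r a) * g = (g * f (e r a) * g⁻¹) * g := by rw [h2]
      _ = g * f (e r a) := by group
  rintro _ ⟨y, rfl⟩
  exact Subgroup.mem_centralizer_singleton_iff.1 (h1 (Subgroup.mem_top y))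

end Elt

/-! ### The K-facts -/

section Facts

variable {G : Type*} [Group G] [Finite G] [Finite W] [Nonempty I] [Finite K] [CharP K 2]
  {R : RGD cs h 2 T n X} (S' : Sys R e) (hG1 : RGD.Sup X {x | IsRoot cs h x} = ⊤) (hN : NoCent cs h T X)
  (hconn : ∀ J : Set I, J.Nonempty → J ≠ Set.univ → ∃ a ∈ J, ∃ b, b ∉ J ∧ M a b ≠ 2)
  (f : Y →* G) (hf : Function.Injective f) {S F : Subgroup G} (hSp : IsPGroup 2 ↥S)
  (hSM : S ≤ Subgroup.normalizer (f.range : Set G)) (hSU : S ⊓ f.range = (RGD.Sup X (RGD.Pos cs h)).map f)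
  (hFS : F ≤ S)
  (hone : ∀ β ∈ Frame cs h X, (∃ g ∈ F ⊔ (RGD.Sup X (RGD.Pos cs h)).map f, ∀ y, f (β y) = g * f y * g⁻¹) →
    ∀ σ, Diag T X β σ → σ = 1)

include S' hG1 hN hconn hf hSp hSM hSU hFS hone

/-- **The filtration by lines with base points.** -/
theorem flt (hK : 3 ≤ Nat.card K) : Flt f.range S F (fun j => (UH cs h X j).map f)
    (fun j => {l | ∃ r, r ∈ RGD.Pos cs h ∧ ht r = j + 1 ∧ l = (X r).map f}) where
  zero := by
    rw [hSU]
    show (UH cs h X 0).map f = _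
    rw [UH_zero]
  bot := by
    obtain ⟨n, hn⟩ := UH_bot (cs := cs) (h := h) (X := X)
    exact ⟨n, by rw [hn, Subgroup.map_bot]⟩
  le j := Subgroup.map_mono (UH_le (Nat.le_succ j))
  comm := by
    rintro j _ ⟨u, hu, rfl⟩ s hs
    rw [hSU] at hs
    obtain ⟨v, hv, rfl⟩ := hs
    rw [← UH_zero] at hv
    rw [← map_inv, ← map_inv, ← map_mul, ← map_mul, ← map_mul]
    have := UH_comm S' hv hu
    rw [commutatorElement_def] at this
    exact ⟨_, this, rfl⟩
  gen := by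
    rintro j _ ⟨u, hu, rfl⟩
    have h1 : Subgroup.closure ({x | ∃ r, r ∈ RGD.Pos cs h ∧ ht r = j + 1 ∧ x ∈ X r} ∪
        (UH cs h X (j + 1) : Set Y)) ≤ (Subgroup.closure ({x | ∃ l ∈ {l | ∃ r, r ∈ RGD.Pos cs h ∧ ht r = j + 1 ∧
          l = (X r).map f}, x ∈ l} ∪ (((UH cs h X (j + 1)).map f : Subgroup G) : Set G))).comap f := by
      rw [Subgroup.closure_le]
      rintro x (⟨r, hr, hrj, hx⟩ | hx)
      · exact Subgroup.subset_closure (Or.inl ⟨_, ⟨r, hr, hrj, rfl⟩, x, hx, rfl⟩)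
      · exact Subgroup.subset_closure (Or.inr ⟨x, hx, rfl⟩)
    exact h1 (UH_gen S' j hu)
  line_le := by
    rintro j _ ⟨r, hr, hrj, rfl⟩
    exact Subgroup.map_mono (RGD.le_Sup (S := {r | r ∈ RGD.Pos cs h ∧ (j : ℤ) < ht r}) ⟨hr, by omega⟩)
  line := by
    rintro j _ ⟨r, hr, hrj, rfl⟩
    refine IsLineR.of_isLine (?_ : IsLine (S ⊓ f.range) ((X r).map f)) ?_
    · have h1 := isLine S' hG1 hK hr.1 (RGD.Sup X (RGD.Pos cs h))
      refine ⟨?_, ?_, ?_⟩
      · rintro _ ⟨x, hx, rfl⟩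
        rw [← map_mul, h1.sq x hx, map_one]
      · rw [← Nat.card_congr ((X r).equivMapOfInjective f hf).toEquiv]
        exact h1.card
      · rintro y hy _ ⟨x, hx, rfl⟩ hx1 hxy _ ⟨x', hx', rfl⟩
        rw [hSU] at hy
        obtain ⟨v, hv, rfl⟩ := hy
        rw [← map_mul, ← map_mul, h1.star v hv x hx (fun h0 => hx1 (by rw [h0, map_one])) (hf (by
          rw [map_mul, map_mul]; exact hxy)) x' hx']
    · rintro _ ⟨x, hx, rfl⟩ ⟨x', hx', e⟩
      have h2 := hf e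
      subst h2
      rw [X_inf_UH S' hr (by rw [hrj]; push_cast; exact le_rfl) hx hx', map_one]
  base := by
    rintro j _ ⟨r, hr, hrj, rfl⟩
    obtain ⟨e', n', R', S'', h1⟩ := exists_adapted S' hG1 hN hconn f hf hSp hSM hSU hFS hone
    refine ⟨f (e' r 1), ⟨_, S''.mem hr.1 1, rfl⟩, ?_, fun s hs => ?_⟩
    · rintro ⟨x', hx', e⟩
      have h2 := hf e
      subst h2
      exact S''.data.ne_one hr.1 one_ne_zero
        (X_inf_UH S'' hr (by rw [hrj]; push_cast; exact le_rfl) (S''.mem hr.1 1) hx')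
    · obtain ⟨τ, u, g, hu, e, hg, -⟩ := h1 s hs
      exact base_comm S'' hf hu e hg hr hrj

/-- **`Z(S ∩ K)` detects field automorphisms.** -/
theorem hZ (s : G) (hs : s ∈ F) (hc : ∀ z ∈ zc f.range S, s * z = z * s) :
    ∃ c ∈ Subgroup.centralizer (f.range : Set G), ∃ k ∈ f.range, s = c * k := by
  obtain ⟨e', n', R', S'', h1⟩ := exists_adapted S' hG1 hN hconn f hf hSp hSM hSU hFS hone
  obtain ⟨τ, u, g, hu, e, hg, -⟩ := h1 s hs
  obtain ⟨r, hr, j, hrj, hbot⟩ := exists_top S'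
  have h2 : τ = 1 := by
    refine tau_eq_one S'' hf hu e hg hr fun x hx => hc _ ?_
    rw [mem_zc]
    have hxU : x ∈ RGD.Sup X (RGD.Pos cs h) := RGD.le_Sup hr hx
    have h3 : f x ∈ S ⊓ f.range := by rw [hSU]; exact ⟨x, hxU, rfl⟩
    refine ⟨⟨h3.1, h3.2⟩, fun v hv => ?_⟩
    rw [hSU] at hv
    obtain ⟨v, hv, rfl⟩ := hv
    have h4 := UH_comm S' (by rw [UH_zero]; exact hv)
      (RGD.le_Sup (S := {r | r ∈ RGD.Pos cs h ∧ (j : ℤ) < ht r}) ⟨hr, by omega⟩ hx : x ∈ UH cs h X j)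
    rw [hbot, Subgroup.mem_bot, commutatorElement_eq_one_iff_mul_comm] at h4
    rw [← map_mul, h4, map_mul]
  have h3 := inner_of_tau S'' hf e hg hG1 h2
  refine ⟨g, h3, f u, ⟨u, rfl⟩, ?_⟩
  rw [e]
  exact (Subgroup.mem_centralizer_iff.1 h3 (f u) ⟨u, rfl⟩)

omit [Fintype I] [DecidableEq I] [Group W] [Group Y] [Finite G] [Finite W] [Nonempty I] [Group G] in
omit S' hG1 hN hconn hf hSp hSM hSU hFS hone in
/-- An automorphism fixing one of `a, b, a + b` for all `a, b` is trivial if the field has more than four elements. -/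
theorem eq_one_of_half {K : Type*} [Field K] [Finite K] [CharP K 2] (hK : 4 < Nat.card K) {τ : K ≃+* K}
    (H : ∀ a b, τ a = a ∨ τ b = b ∨ τ (a + b) = a + b) : τ = 1 := by
  classical
  by_contra hne
  obtain ⟨a, ha⟩ : ∃ a, τ a ≠ a := by
    by_contra h0
    push Not at h0
    exact hne (RingEquiv.ext h0)
  have h2 : ∀ t : K, t + t = 0 := CharTwo.add_self_eq_zero
  have hfix : ∀ c, τ c = c → c = 0 ∨ c = 1 := by
    intro c hc
    by_cases hc0 : c = 0
    · exact Or.inl hc0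
    right
    have h3 : τ (c * a) ≠ c * a := by
      rw [map_mul, hc]
      exact fun h4 => ha (mul_left_cancel₀ hc0 h4)
    rcases H a (c * a) with h4 | h4 | h4
    · exact absurd h4 ha
    · exact absurd h4 h3
    · rw [map_add, map_mul, hc] at h4
      have h5 : (1 + c) * (τ a + a) = 0 := by
        have h6 : τ a + c * τ a + (a + c * a) = 0 := by rw [h4, h2]
        calc (1 + c) * (τ a + a) = τ a + c * τ a + (a + c * a) := by ring
          _ = 0 := h6
      rcases mul_eq_zero.1 h5 with h6 | h6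
      · have h7 : c + 1 = 1 + 1 := by rw [add_comm c 1, h6, h2]
        exact add_right_cancel h7
      · exfalso
        apply ha
        have h7 : τ a + a = a + a := by rw [h6, h2]
        exact add_right_cancel h7
  have hall : ∀ b : K, b ∈ ({0, 1, a, a + 1} : Finset K) := by
    intro b
    simp only [Finset.mem_insert, Finset.mem_singleton]
    by_cases hb : τ b = b
    · rcases hfix b hb with h3 | h3
      · exact Or.inl h3
      · exact Or.inr (Or.inl h3)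
    · rcases H a b with h4 | h4 | h4
      · exact absurd h4 ha
      · exact absurd h4 hb
      · have h5 : b = a + (a + b) := by rw [← add_assoc, h2, zero_add]
        rcases hfix _ h4 with h6 | h6
        · right; right; left
          rw [h6, add_zero] at h5
          exact h5
        · right; right; right
          rw [h6] at h5
          exact h5
  have := Fintype.ofFinite K
  have h3 : (Finset.univ : Finset K) ⊆ {0, 1, a, a + 1} := fun b _ => hall b
  have h4 := Finset.card_le_card h3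
  have h5 : ({0, 1, a, a + 1} : Finset K).card ≤ 4 := Finset.card_le_four
  rw [Finset.card_univ, ← Nat.card_eq_fintype_card] at h4
  omega

/-- **(half)** : `|F_q| > 4`. -/
theorem half (hK : 4 < Nat.card K) {r : I → ℤ} (hr : r ∈ RGD.Pos cs h) {y : G} (hy : y ∈ F)
    (hab : ∀ a ∈ (X r).map f, ∀ b ∈ (X r).map f, a * y = y * a ∨ b * y = y * b ∨ a * b * y = y * (a * b)) :
    ∀ a ∈ (X r).map f, a * y = y * a := by
  obtain ⟨e', n', R', S'', h1⟩ := exists_adapted S' hG1 hN hconn f hf hSp hSM hSU hFS hone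
  obtain ⟨τ, u, g, hu, e, hg, k, hk⟩ := h1 y hy
  have hfix : ∀ a, f (e' r a) * y = y * f (e' r a) → τ a = a ∧ u * e' r a = e' r a * u := fun a ha =>
    tau_of_comm S'' hf hu e hg hr ha.symm
  have hmem : ∀ a, f (e' r a) ∈ (X r).map f := fun a => ⟨_, S''.mem hr.1 a, rfl⟩
  have hadd : ∀ a b, f (e' r a) * f (e' r b) = f (e' r (a + b)) := fun a b => by
    rw [S''.data.add r hr.1, map_mul]
  have h2 : τ = 1 := by
    refine eq_one_of_half hK fun a b => ?_
    rcases hab _ (hmem a) _ (hmem b) with h3 | h3 | h3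
    · exact Or.inl (hfix a h3).1
    · exact Or.inr (Or.inl (hfix b h3).1)
    · rw [hadd] at h3
      exact Or.inr (Or.inr (hfix _ h3).1)
  have h3 := inner_of_tau S'' hf e hg hG1 h2
  -- a nontrivial element of `X r` commuting with `u`
  obtain ⟨a, ha0, hua⟩ : ∃ a, a ≠ 0 ∧ u * e' r a = e' r a * u := by
    obtain ⟨b, hb0, hb1⟩ : ∃ b : K, b ≠ 0 ∧ b ≠ 1 := by
      by_contra hcon
      push Not at hcon
      classical
      have := Fintype.ofFinite K
      have h4 : (Finset.univ : Finset K) ⊆ {0, 1} := by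
        intro b _
        by_cases hb : b = 0
        · simp [hb]
        · simp [hcon b hb]
      have h5 := Finset.card_le_card h4
      have h6 : ({0, 1} : Finset K).card ≤ 2 := Finset.card_le_two
      rw [Finset.card_univ, ← Nat.card_eq_fintype_card] at h5
      omega
    have h1b : 1 + b ≠ 0 := by
      intro h4
      apply hb1
      have h5 : b + 1 = 1 + 1 := by rw [add_comm b 1, h4, CharTwo.add_self_eq_zero]
      exact add_right_cancel h5
    rcases hab _ (hmem 1) _ (hmem b) with h4 | h4 | h4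
    · exact ⟨1, one_ne_zero, (hfix _ h4).2⟩
    · exact ⟨b, hb0, (hfix _ h4).2⟩
    · rw [hadd] at h4
      exact ⟨1 + b, h1b, (hfix _ h4).2⟩
  rintro _ ⟨x, hx, rfl⟩
  have h4 := comm_all S'' hG1 hr.1 (S''.mem hr.1 a) (S''.data.ne_one hr.1 ha0) hua hx
  have h5 := Subgroup.mem_centralizer_iff.1 h3 (f x) ⟨x, rfl⟩
  rw [e]
  calc f x * (f u * g) = f (x * u) * g := by rw [map_mul, mul_assoc]
    _ = f u * (f x * g) := by rw [← h4, map_mul, mul_assoc]
    _ = f u * g * f x := by rw [h5, mul_assoc]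

end Facts

end Cfsg.Agent.KFacts.SysFlt

end

-- merged: Cfsg.Agent.KFacts.SysOut
section

/-!
# The outer automorphism group (ODD, D4, (K2))

`Y` with `Sys R e`, the symmetries of the diagram preserve the Cartan matrix (`hA`).

* `exists_out` : `l : MulAut Y →* Sym I × Aut F` killing the inner automorphisms, `2`-elements of the kernel are inner,
  `l β = (σ, τ)` for `Tau β σ τ`;
* in an overgroup: `exists_outG`, `OutG`.
-/

set_option autoImplicit false
set_option linter.unusedSectionVars false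

namespace Cfsg.Agent.KFacts.SysOut

open CoxeterSystem Cfsg.Agent.ChevalleyStructure.CoxeterGeom Cfsg.Agent.Tits.Roots Cfsg.Agent.Tits.Core
  Cfsg.Agent.Tits.Exchange Cfsg.Agent.Nodes.Reps Cfsg.Agent.Nodes.BNOf Cfsg.Agent.Nodes.StabComb
  Cfsg.Agent.Nodes.Bruhat Cfsg.Agent.Nodes.OppDec Cfsg.Agent.Nodes.LeviDec Cfsg.Agent.Nodes.NormalForm
  Cfsg.Agent.Nodes.Coroot Cfsg.Agent.Nodes.PosPair
  Cfsg.Agent.KFacts.RgdOpp Cfsg.Agent.KFacts.RgdAut Cfsg.Agent.KFacts.RgdDiag Cfsg.Agent.KFacts.RgdRigid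
  Cfsg.Agent.KFacts.RgdCent Cfsg.Agent.KFacts.RgdKap Cfsg.Agent.KFacts.RgdField Cfsg.Agent.KFacts.RgdTau
  Cfsg.Agent.KFacts.RgdSys Cfsg.Agent.KFacts.RgdOver Cfsg.Agent.KFacts.RgdPure Cfsg.Agent.KFacts.ChevTwo
open scoped commutatorElement

variable {I W Y K : Type*} [Fintype I] [DecidableEq I] [Group W] [Group Y] [Field K] {M : CoxeterMatrix I}
variable {cs : CoxeterSystem M W} {A : I → I → ℤ} {h : IsCartan M A} {e : (I → ℤ) → K → Y}
  {p : ℕ} {T : Subgroup Y} {n : I → Y} {X : (I → ℤ) → Subgroup Y}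

/-! ### Inner frame automorphisms -/

theorem fix_U_of_tau {F : Type*} [Field F] {χ : (I → ℤ) → Y → F} (R : RGD cs h p T n X) [Finite W] {β : MulAut Y}
    {σ : Equiv.Perm I} {τ : F ≃+* F} (B : Tau T X χ A β σ τ) : Fix β (RGD.Sup X (RGD.Pos cs h)) := by
  have key : ∀ {β : MulAut Y} {σ : Equiv.Perm I} {τ : F ≃+* F}, Tau T X χ A β σ τ →
      ∀ y ∈ RGD.Sup X (RGD.Pos cs h), β y ∈ RGD.Sup X (RGD.Pos cs h) := by
    intro β σ τ B y hy
    have h1 : RGD.Sup X (RGD.Pos cs h) ≤ (RGD.Sup X (RGD.Pos cs h)).comap β.toMonoidHom := by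
      refine RGD.Sup_le fun r hr z hz => ?_
      have h2 := (B.diag.root_comp R B.cartan hr.1 z).2 hz
      exact RGD.le_Sup (S := RGD.Pos cs h)
        ⟨isRoot_comp (B.diag.matrix (R := R)) B.cartan hr.1, fun i => hr.2 _⟩ h2
    exact h1 hy
  intro y
  refine ⟨fun hy => ?_, key B y⟩
  have := key B.inv _ hy
  rwa [MulAut.inv_apply_self] at this

theorem mem_T_of_fix [Finite W] (R : RGD cs h p T n X) (hG : GG cs h T X = ⊤) {z : Y}
    (hU : Fix (MulAut.conj z) (RGD.Sup X (RGD.Pos cs h))) (hUN : Fix (MulAut.conj z) (UN cs h X)) : z ∈ T := by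
  have h1 : z ∈ RGD.B cs h T X := by
    rw [← normalizer_U' R hG, Subgroup.mem_normalizer_iff]
    exact fun y => (hU y).symm
  have h2 : z ∈ BN cs h T X := by
    rw [← normalizer_UN R hG, Subgroup.mem_normalizer_iff]
    exact fun y => (hUN y).symm
  rw [← B_inf_BN R]
  exact ⟨h1, h2⟩

section

variable {R : RGD cs h p T n X} (S : Sys R e)

include S

theorem tau_conj {z : Y} (hz : z ∈ T) : Tau T X (chS e) A (MulAut.conj z) 1 1 where
  diag := {
    tor := fun t => (Subgroup.mem_normalizer_iff.1 (Subgroup.le_normalizer hz) t).symm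
    pos := fun i x => by
      rw [Equiv.Perm.one_apply, MulAut.conj_apply]
      have h1 := R.tor _ (isRoot_sr cs h i) z hz
      constructor
      · intro h2
        rw [← h1] at h2
        exact conj_mem_cj.1 h2
      · intro h2
        rw [← h1]
        exact conj_mem_cj.2 h2
    neg := fun i x => by
      rw [Equiv.Perm.one_apply, MulAut.conj_apply]
      have h1 := R.tor _ (isRoot_sr cs h i).neg z hz
      constructor
      · intro h2
        rw [← h1] at h2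
        exact conj_mem_cj.1 h2
      · intro h2
        rw [← h1]
        exact conj_mem_cj.2 h2 }
  cartan _ _ := rfl
  char i t ht := by
    rw [Equiv.Perm.one_apply, MulAut.conj_apply, RingAut.one_apply]
    have hi := isRoot_sr cs h i
    refine chS_eq S hi (mul_mem (mul_mem hz ht) (inv_mem hz)) fun a => ?_
    have h1 := chS_spec S hi hz
    have h2 := chS_spec S hi ht
    have h3 := chS_spec S hi (inv_mem hz)
    have h4 : chS e (sr i) z * chS e (sr i) z⁻¹ = 1 := by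
      have h5 : e (sr i) (chS e (sr i) z * (chS e (sr i) z⁻¹ * 1)) = e (sr i) 1 := by
        rw [← h1, ← h3]; group
      have h6 := S.data.injective hi h5
      rwa [mul_one] at h6
    calc z * t * z⁻¹ * e (sr i) a * (z * t * z⁻¹)⁻¹ = z * (t * (z⁻¹ * e (sr i) a * z⁻¹⁻¹) * t⁻¹) * z⁻¹ := by group
      _ = e (sr i) (chS e (sr i) z * (chS e (sr i) t * (chS e (sr i) z⁻¹ * a))) := by rw [h3, h2, h1]
      _ = e (sr i) (chS e (sr i) t * a) := by
        congr 1
        calc chS e (sr i) z * (chS e (sr i) t * (chS e (sr i) z⁻¹ * a)) =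
            (chS e (sr i) z * chS e (sr i) z⁻¹) * (chS e (sr i) t * a) := by ring
          _ = _ := by rw [h4, one_mul]

/-- an inner automorphism of the frame has trivial diagram symmetry and trivial field automorphism -/
theorem tau_inner [Finite W] [Finite K] [Nonempty I] (hG1 : RGD.Sup X {x | IsRoot cs h x} = ⊤) {z : Y}
    {σ : Equiv.Perm I} {τ : K ≃+* K} (B : Tau T X (chS e) A (MulAut.conj z) σ τ) : σ = 1 ∧ τ = 1 := by
  have hz := mem_T_of_fix R (GG_eq_top hG1) (fix_U_of_tau R B) (fix_UN_of_tau R B)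
  exact Tau.unique R (coords S hG1) B (tau_conj S hz)

end

/-! ### The outer automorphism group -/

section Out

variable [Finite W] [Finite Y] [Finite K] [Nonempty I] [CharP K p] [Fact p.Prime] {R : RGD cs h p T n X}
  (S : Sys R e) (hG1 : RGD.Sup X {x | IsRoot cs h x} = ⊤) (hN : NoCent cs h T X)
  (hconn : ∀ J : Set I, J.Nonempty → J ≠ Set.univ → ∃ a ∈ J, ∃ b, b ∉ J ∧ M a b ≠ 2)
  (hA : ∀ σ : Equiv.Perm I, (∀ i j, M (σ i) (σ j) = M i j) → ∀ i j, A (σ i) (σ j) = A i j)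

include S hG1 hN hconn hA

/-- an automorphism fixing `U` -/
theorem exists_rep_U {α : MulAut Y} (hα : Fix α (RGD.Sup X (RGD.Pos cs h))) :
    ∃ u ∈ RGD.Sup X (RGD.Pos cs h), ∃ σ τ, Tau T X (chS e) A (MulAut.conj u * α) σ τ ∧
      ∀ k : ℕ, α ^ k = 1 → (MulAut.conj u * α) ^ k = 1 := by
  obtain ⟨u, hu, -, -, hp, σ, D⟩ := exists_frame_pow R (GG_eq_top hG1) hα
  obtain ⟨τ, hτ⟩ := exists_tau R (coords S hG1) (coroots S hG1 hN) hconn D (hA σ (D.matrix R))
  exact ⟨u, hu, σ, τ, hτ, hp⟩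

/-- every automorphism is the product of an inner and a frame automorphism -/
theorem exists_rep (α : MulAut Y) : ∃ (y : Y) (β : MulAut Y) (σ : Equiv.Perm I) (τ : K ≃+* K),
    α = MulAut.conj y * β ∧ Tau T X (chS e) A β σ τ := by
  obtain ⟨P, hP⟩ := RgdAutFacts.exists_sylow R (GG_eq_top (T := T) hG1)
  obtain ⟨g, hg⟩ := RgdAutFacts.sylow_eq_cj R (GG_eq_top (T := T) hG1) (α • P)
  have h1 : Fix (MulAut.conj g⁻¹ * α) (RGD.Sup X (RGD.Pos cs h)) := by
    have h2 : ∀ x, α x ∈ cj g (RGD.Sup X (RGD.Pos cs h)) ↔ x ∈ RGD.Sup X (RGD.Pos cs h) := by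
      intro x
      rw [← hg, ← hP]
      show α • x ∈ ((α • P : Sylow p Y) : Subgroup Y) ↔ _
      rw [Sylow.pointwise_smul_def, Subgroup.smul_mem_pointwise_smul_iff]
    intro x
    rw [← h2 x, mem_cj]
    show g⁻¹ * α x * g⁻¹⁻¹ ∈ _ ↔ _
    rw [inv_inv]
  obtain ⟨u, hu, σ, τ, B, -⟩ := exists_rep_U S hG1 hN hconn hA h1
  refine ⟨g * u⁻¹, _, σ, τ, ?_, B⟩
  rw [← mul_assoc, ← mul_assoc, ← map_mul, ← map_mul]
  have e1 : g * u⁻¹ * u * g⁻¹ = 1 := by group
  rw [e1, map_one, one_mul]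

/-- **The outer automorphism.** -/
theorem exists_out : ∃ l : MulAut Y →* Equiv.Perm I × (K ≃+* K),
    (∀ y, l (MulAut.conj y) = 1) ∧
    (∀ α, ∃ y β, α = MulAut.conj y * β ∧ Tau T X (chS e) A β (l α).1 (l α).2) ∧
    (∀ β σ τ, Tau T X (chS e) A β σ τ → l β = (σ, τ)) ∧
    (∀ (α : MulAut Y) (k : ℕ), α ^ p ^ k = 1 → l α = 1 → ∃ y, α = MulAut.conj y) := by
  classical
  have h1 : ∀ α : MulAut Y, ∃ q : Equiv.Perm I × (K ≃+* K), ∃ (y : Y) (β : MulAut Y),
      α = MulAut.conj y * β ∧ Tau T X (chS e) A β q.1 q.2 := by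
    intro α
    obtain ⟨y, β, σ, τ, h1, h2⟩ := exists_rep S hG1 hN hconn hA α
    exact ⟨(σ, τ), y, β, h1, h2⟩
  choose q hq using h1
  have huniq : ∀ (α : MulAut Y) (y : Y) (β : MulAut Y) (σ : Equiv.Perm I) (τ : K ≃+* K), α = MulAut.conj y * β →
      Tau T X (chS e) A β σ τ → q α = (σ, τ) := by
    intro α y β σ τ h1 h2
    obtain ⟨y', β', h3, h4⟩ := hq α
    have h5 : Tau T X (chS e) A (β' * β⁻¹) ((q α).1 * σ⁻¹) ((q α).2 * τ⁻¹) := h4.mul h2.inv
    have h6 : β' * β⁻¹ = MulAut.conj (y'⁻¹ * y) := by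
      rw [h1] at h3
      have h7 : β' = MulAut.conj y'⁻¹ * (MulAut.conj y * β) := by
        rw [h3, ← mul_assoc, ← map_mul, inv_mul_cancel, map_one, one_mul]
      rw [h7, map_mul]; group
    rw [h6] at h5
    obtain ⟨h7, h8⟩ := tau_inner S hG1 h5
    exact Prod.ext (mul_inv_eq_one.1 h7) (mul_inv_eq_one.1 h8)
  have hmul : ∀ α γ, q (α * γ) = q α * q γ := by
    intro α γ
    obtain ⟨y, β, h1, h2⟩ := hq α
    obtain ⟨y', β', h3, h4⟩ := hq γ
    refine huniq _ (y * β y') (β * β') _ _ ?_ (h2.mul h4)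
    rw [h1, h3]
    ext z
    simp only [MulAut.mul_apply, MulAut.conj_apply, map_mul, map_inv, mul_inv_rev, mul_assoc]
  refine ⟨MonoidHom.mk' q hmul, fun y => ?_, fun α => hq α, fun β σ τ hB => ?_, fun α k hk hα => ?_⟩
  · exact huniq _ y 1 1 1 (by rw [mul_one]) Tau.one
  · exact huniq _ 1 β σ τ (by rw [map_one, one_mul]) hB
  · have hα' : q α = 1 := hα
    -- `α` fixes a Sylow subgroup
    have h2 : IsPGroup p ↥(Subgroup.zpowers α) := by
      intro x
      obtain ⟨m, hm⟩ := Subgroup.mem_zpowers_iff.1 x.2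
      refine ⟨k, Subtype.ext ?_⟩
      show (x : MulAut Y) ^ p ^ k = 1
      rw [← hm, ← zpow_natCast, zpow_comm, zpow_natCast, hk, one_zpow]
    obtain ⟨P, hP⟩ := h2.nonempty_fixed_point_of_prime_not_dvd_card (α := Sylow p Y) (not_dvd_card_sylow p Y)
    have h3 : α • P = P := hP ⟨α, Subgroup.mem_zpowers α⟩
    obtain ⟨g, hg⟩ := RgdAutFacts.sylow_eq_cj R (GG_eq_top (T := T) hG1) P
    have h4 : ∀ x, α x ∈ (P : Subgroup Y) ↔ x ∈ (P : Subgroup Y) := by
      intro x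
      show α • x ∈ (P : Subgroup Y) ↔ _
      conv_lhs => rw [← h3]
      rw [Sylow.pointwise_smul_def, Subgroup.smul_mem_pointwise_smul_iff]
    obtain ⟨γ, hγ⟩ : ∃ γ, γ = MulAut.conj g⁻¹ * α * MulAut.conj g := ⟨_, rfl⟩
    have h5 : Fix γ (RGD.Sup X (RGD.Pos cs h)) := by
      intro x
      have h6 := h4 (g * x * g⁻¹)
      rw [hg, mem_cj, conj_mem_cj] at h6
      rw [← h6, hγ]
      show g⁻¹ * α (g * x * g⁻¹) * g⁻¹⁻¹ ∈ _ ↔ _
      rw [inv_inv]
    obtain ⟨u, hu, σ, τ, B, hp⟩ := exists_rep_U S hG1 hN hconn hA h5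
    have h6 : α = MulAut.conj (g * u⁻¹) * (MulAut.conj u * γ * MulAut.conj g⁻¹) := by
      rw [hγ, map_mul, map_inv, map_inv]
      group
    have h7 : q (MulAut.conj u * γ) = (σ, τ) := huniq _ 1 _ σ τ (by rw [map_one, one_mul]) B
    have h8 : q (MulAut.conj g⁻¹) = 1 := huniq _ g⁻¹ 1 1 1 (by rw [mul_one]) Tau.one
    have h9 : q (MulAut.conj (g * u⁻¹)) = 1 := huniq _ _ 1 1 1 (by rw [mul_one]) Tau.one
    rw [h6, hmul, hmul, h7, h8, h9, one_mul, mul_one] at hα'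
    obtain ⟨rfl, rfl⟩ := Prod.mk.inj hα'
    have h10 : γ ^ p ^ k = 1 := by
      have h11 : ∀ m : ℕ, γ ^ m = MulAut.conj g⁻¹ * α ^ m * MulAut.conj g := by
        intro m
        induction m with
        | zero => rw [pow_zero, pow_zero, mul_one, ← map_mul, inv_mul_cancel, map_one]
        | succ m ih =>
          rw [pow_succ, ih, hγ, pow_succ]
          have h12 : MulAut.conj g * MulAut.conj g⁻¹ = 1 := by rw [← map_mul, mul_inv_cancel, map_one]
          calc MulAut.conj g⁻¹ * α ^ m * MulAut.conj g * (MulAut.conj g⁻¹ * α * MulAut.conj g) =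
              MulAut.conj g⁻¹ * α ^ m * (MulAut.conj g * MulAut.conj g⁻¹) * α * MulAut.conj g := by
                simp only [mul_assoc]
            _ = _ := by rw [h12, mul_one]; simp only [mul_assoc]
      rw [h11, hk, mul_one, ← map_mul, inv_mul_cancel, map_one]
    have h11 := Tau.eq_one R hG1 (coords S hG1) B (hp _ h10)
    refine ⟨g * u⁻¹ * g⁻¹, ?_⟩
    rw [h6, h11, one_mul, ← map_mul]

end Out

/-! ### In an overgroup -/

/-- The outer action of `N_G(f Y)`. -/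
structure OutG {G : Type*} [Group G] {R : RGD cs h p T n X} (S : Sys R e) (f : Y →* G)
    (l : ↥(Subgroup.normalizer (f.range : Set G)) →* Equiv.Perm I × (K ≃+* K)) : Prop where
  /-- `C(K)` lies in the kernel -/
  cent : ∀ g : ↥(Subgroup.normalizer (f.range : Set G)), (∀ y, (g : G) * f y = f y * g) → l g = 1
  /-- `K` lies in the kernel -/
  inn : ∀ y, l ⟨f y, f_mem f y⟩ = 1
  /-- frame representatives -/
  rep : ∀ g : ↥(Subgroup.normalizer (f.range : Set G)), ∃ y β, (∀ z, f (β z) = f y * g * f z * (f y * (g : G))⁻¹) ∧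
    Tau T X (chS e) A β (l g).1 (l g).2
  /-- frame representatives of the elements normalising `f U` -/
  repU : ∀ g : ↥(Subgroup.normalizer (f.range : Set G)), (g : G) ∈ Subgroup.normalizer (((RGD.Sup X (RGD.Pos cs h)).map f : Subgroup G) : Set G) →
    ∃ u ∈ RGD.Sup X (RGD.Pos cs h), ∃ β, (∀ z, f (β z) = f u * g * f z * (f u * (g : G))⁻¹) ∧
      Tau T X (chS e) A β (l g).1 (l g).2 ∧ ∀ k : ℕ, (g : G) ^ k = 1 → β ^ k = 1
  /-- `p`-elements of the kernel lie in `C(K) K` -/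
  ker : ∀ (g : ↥(Subgroup.normalizer (f.range : Set G))) (k : ℕ), (g : G) ^ p ^ k = 1 → l g = 1 →
    ∃ c ∈ Subgroup.centralizer (f.range : Set G), ∃ y, (g : G) = c * f y

theorem exists_outG {G : Type*} [Group G] [Finite W] [Finite Y] [Finite K] [Nonempty I] [CharP K p] [Fact p.Prime]
    {R : RGD cs h p T n X} (S : Sys R e) (hG1 : RGD.Sup X {x | IsRoot cs h x} = ⊤) (hN : NoCent cs h T X)
    (hconn : ∀ J : Set I, J.Nonempty → J ≠ Set.univ → ∃ a ∈ J, ∃ b, b ∉ J ∧ M a b ≠ 2)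
    (hA : ∀ σ : Equiv.Perm I, (∀ i j, M (σ i) (σ j) = M i j) → ∀ i j, A (σ i) (σ j) = A i j)
    (f : Y →* G) (hf : Function.Injective f) :
    ∃ l : ↥(Subgroup.normalizer (f.range : Set G)) →* Equiv.Perm I × (K ≃+* K), OutG S f l := by
  obtain ⟨l, h1, h2, h3, h4⟩ := exists_out S hG1 hN hconn hA
  have hact : ∀ (u : Y) (g : ↥(Subgroup.normalizer (f.range : Set G))) (z : Y),
      f ((MulAut.conj u * act f hf g) z) = f u * g * f z * (f u * (g : G))⁻¹ := by
    intro u g z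
    rw [MulAut.mul_apply, MulAut.conj_apply, map_mul, map_mul, map_inv, f_act]
    group
  refine ⟨l.comp (act f hf), ⟨fun g hg => ?_, fun y => ?_, fun g => ?_, fun g hg => ?_, fun g k hk hg => ?_⟩⟩
  · rw [MonoidHom.comp_apply, (act_eq_one_iff f hf g).2 hg, map_one]
  · rw [MonoidHom.comp_apply, act_f, h1]
  · obtain ⟨y, β, e1, B⟩ := h2 (act f hf g)
    refine ⟨y⁻¹, β, fun z => ?_, B⟩
    rw [← hact, e1, ← mul_assoc, ← map_mul, inv_mul_cancel, map_one, one_mul]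
  · obtain ⟨u, hu, σ, τ, B, hp⟩ := exists_rep_U S hG1 hN hconn hA (fix_act f hf hg)
    have h5 : l (act f hf g) = (σ, τ) := by
      have h6 := h3 _ _ _ B
      rwa [map_mul, h1, one_mul] at h6
    refine ⟨u, hu, _, hact u g, ?_, fun k hk => hp k ?_⟩
    · rw [MonoidHom.comp_apply, h5]
      exact B
    · rw [← map_pow]
      have h6 : g ^ k = 1 := Subtype.ext hk
      rw [h6, map_one]
  · have h5 : (act f hf g) ^ p ^ k = 1 := by
      rw [← map_pow]
      have h6 : g ^ p ^ k = 1 := Subtype.ext hk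
      rw [h6, map_one]
    obtain ⟨y, hy⟩ := h4 _ k h5 hg
    refine ⟨g * (f y)⁻¹, ?_, y, by group⟩
    rw [Subgroup.mem_centralizer_iff]
    rintro _ ⟨z, rfl⟩
    have h6 := f_act f hf g (y⁻¹ * z * y)
    rw [hy, MulAut.conj_apply] at h6
    have h7 : y * (y⁻¹ * z * y) * y⁻¹ = z := by group
    rw [h7, map_mul, map_mul, map_inv] at h6
    calc f z * (g * (f y)⁻¹) = (g * ((f y)⁻¹ * f z * f y) * (g : G)⁻¹) * (g * (f y)⁻¹) := by rw [← h6]
      _ = _ := by group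

end Cfsg.Agent.KFacts.SysOut

end
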